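import Mathlib
import Cfsg.Agent.Lib.ThreeT.Singular

/-!
# Orthogonality of singular involutions is symmetric

If `Q` is extraspecial with centre `⟨z⟩`, `Q ⊴ C(z)`, `C(Q) ≤ Q`, and `x = z^g ∈ Q`, then `z ∈ Q^g`
(when `|Q| > 8`, or when `Q = O₂(C(z))`).
-/

set_option autoImplicit false

namespace Cfsg.Agent.Lib.LargeES

open Subgroup Cfsg Cfsg.Agent.Lib.Cl Cfsg.Agent.Lib.ThreeT
open scoped commutatorElement

variable {G : Type*} [Group G]

/-- The Klein subgroup `{1,x,z,xz}`. -/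
def kleinSub (x z : G) (hx : x * x = 1) (hz : z * z = 1) (hc : x * z = z * x) : Subgroup G where
  carrier := {g | g = 1 ∨ g = x ∨ g = z ∨ g = x * z}
  mul_mem' := by
    have e1 : x * (x * z) = z := by rw [← mul_assoc, hx, one_mul]
    have e2 : z * (x * z) = x := by rw [← mul_assoc, ← hc, mul_assoc, hz, mul_one]
    have e3 : x * z * x = z := by rw [hc, mul_assoc, hx, mul_one]
    have e4 : x * z * z = x := by rw [mul_assoc, hz, mul_one]
    have e5 : x * z * (x * z) = 1 := by rw [← mul_assoc, e3, hz]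
    rintro a b (rfl | rfl | rfl | rfl) (rfl | rfl | rfl | rfl) <;>
      simp only [Set.mem_ofPred_eq, one_mul, mul_one, hx, hz, e1, e2, e3, e4, e5, ← hc, true_or, or_true]
  one_mem' := Or.inl rfl
  inv_mem' := by
    have hx' : x⁻¹ = x := inv_eq_of_mul_eq_one_left hx
    have hz' : z⁻¹ = z := inv_eq_of_mul_eq_one_left hz
    have e5 : (x * z)⁻¹ = x * z := by rw [mul_inv_rev, hx', hz', hc]
    rintro a (rfl | rfl | rfl | rfl)
    · simp
    · simp [hx']
    · simp [hz']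
    · simp [e5]

section Core

variable {Q Q' : Subgroup G} {z x : G}

theorem comm_conj_eq (hf : ExtraFacts Q' x) {c a b : G} (hc : c * x = x * c) (ha : a ∈ Q') (hb : b ∈ Q') :
    ⁅c * a * c⁻¹, c * b * c⁻¹⁆ = ⁅a, b⁆ := by
  have h1 : ⁅c * a * c⁻¹, c * b * c⁻¹⁆ = c * ⁅a, b⁆ * c⁻¹ := by
    simp only [commutatorElement_def]; group
  rw [h1]
  rcases hf.eq_one_or (hf.hcom a ha b hb) with h | h
  · rw [h]; group
  · rw [h, hc]; group

theorem comm_inv_left (hf : ExtraFacts Q' x) {a b : G} (ha : a ∈ Q') (hb : b ∈ Q') :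
    ⁅a⁻¹, b⁆ = ⁅a, b⁆⁻¹ := by
  have h1 := hf.comm_mul_left (Q'.inv_mem ha) ha hb
  rw [inv_mul_cancel, commutatorElement_one_left] at h1
  exact (inv_eq_of_mul_eq_one_left h1.symm).symm ▸ rfl

/-- `Q ∩ Q' ≤ ⟨x⟩` when `z ∉ Q'`. -/
theorem inter_le (hQ : ExtraFacts Q z) (hQ' : ExtraFacts Q' x) [Finite G] (hxQ : x ∈ Q)
    (hNx : ∀ c, c * x = x * c → ∀ q ∈ Q', c * q * c⁻¹ ∈ Q') (hz : z ∉ Q') {e : G}
    (he : e ∈ Q) (he' : e ∈ Q') : e = 1 ∨ e = x := by
  have hxx : x * x = 1 := by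
    have := pow_orderOf_eq_one x
    rwa [hQ'.hz, pow_two] at this
  have hzz : z * z = 1 := by
    have := pow_orderOf_eq_one z
    rwa [hQ.hz, pow_two] at this
  have hc : x * z = z * x := (hQ.central (mem_zpowers z) hxQ).symm
  set X := kleinSub x z hxx hzz hc with hX
  have hzX : zpowers z ≤ X := by
    rw [Subgroup.zpowers_le]
    exact Or.inr (Or.inr (Or.inl rfl))
  have hXQ : X ≤ Q := by
    rintro a (rfl | rfl | rfl | rfl)
    · exact one_mem _
    · exact hxQ
    · exact hQ.hzQ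
    · exact Q.mul_mem hxQ hQ.hzQ
  have hxQ' : x ∈ Q' := hQ'.hzQ
  have hxzQ' : x * z ∉ Q' := fun h => hz (by
    have := Q'.mul_mem hxQ' h
    rwa [← mul_assoc, hxx, one_mul] at this)
  by_cases heX : e ∈ X
  · rcases heX with h | h | h | h
    · exact Or.inl h
    · exact Or.inr h
    · exact absurd (h ▸ he') hz
    · exact absurd (h ▸ he') hxzQ'
  · exfalso
    obtain ⟨q, hq, hqC, hne⟩ := exists_separate hQ hzX hXQ he heX
    have hqx : q * x = x * q := (Subgroup.mem_centralizer_iff.mp hqC x (Or.inr (Or.inl rfl))).symm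
    have h1 : q * e * q⁻¹ ∈ Q' := hNx q hqx e he'
    have h2 : q * e * q⁻¹ = e * z := conj_eq_of_ne hQ hq he hne
    rw [h2] at h1
    have h3 := Q'.mul_mem (Q'.inv_mem he') h1
    rw [inv_mul_cancel_left] at h3
    exact hz h3

/-- The central lemma for orthogonality: if `z ∉ Q'`, either `z` centralizes `Q'` or `C_Q(x)` is abelian. -/
theorem ortho_core [Finite G] (hQ : ExtraFacts Q z) (hQ' : ExtraFacts Q' x) (hxQ : x ∈ Q) (hxz : x ∉ zpowers z)
    (hNz : ∀ c, c * z = z * c → ∀ q ∈ Q, c * q * c⁻¹ ∈ Q)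
    (hNx : ∀ c, c * x = x * c → ∀ q ∈ Q', c * q * c⁻¹ ∈ Q')
    (hT : ∀ h, h * z * h⁻¹ = x → ∀ q ∈ Q, h * q * h⁻¹ ∈ Q')
    (hz : z ∉ Q') :
    (∀ a ∈ Q', z * a = a * z) ∨ ∀ p₁ ∈ Q, ∀ p₂ ∈ Q, p₁ * x = x * p₁ → p₂ * x = x * p₂ → p₁ * p₂ = p₂ * p₁ := by
  have hxx : x * x = 1 := by
    have := pow_orderOf_eq_one x
    rwa [hQ'.hz, pow_two] at this
  have hzz : z * z = 1 := by
    have := pow_orderOf_eq_one z
    rwa [hQ.hz, pow_two] at this
  have hzi : z⁻¹ = z := inv_eq_of_mul_eq_one_left hzz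
  have hxi : x⁻¹ = x := inv_eq_of_mul_eq_one_left hxx
  have hc : x * z = z * x := (hQ.central (mem_zpowers z) hxQ).symm
  have hxQ' : x ∈ Q' := hQ'.hzQ
  have hQ'x : ∀ q ∈ Q', q * x = x * q := fun q hq => (hQ'.central (mem_zpowers x) hq).symm
  -- φ = 0
  have hφ : ∀ a ∈ Q', a * z * a⁻¹ ≠ z * x := by
    intro a ha hae
    obtain ⟨q, hq, hqx⟩ := exists_conj_eq hQ hxQ hxz
    have hqz : q * z * q⁻¹ = z := by
      have := hQ.central (mem_zpowers z) hq
      rw [← this]; group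
    have hax : a * x * a⁻¹ = x := by rw [hQ'x a ha]; group
    -- f = a q : z → z x, x → z
    have hfz : (a * q) * z * (a * q)⁻¹ = z * x := by
      calc (a * q) * z * (a * q)⁻¹ = a * (q * z * q⁻¹) * a⁻¹ := by group
        _ = z * x := by rw [hqz, hae]
    have hfx : (a * q) * x * (a * q)⁻¹ = z := by
      calc (a * q) * x * (a * q)⁻¹ = a * (q * x * q⁻¹) * a⁻¹ := by group
        _ = a * (x * z) * a⁻¹ := by rw [hqx]
        _ = (a * x * a⁻¹) * (a * z * a⁻¹) := by group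
        _ = x * (z * x) := by rw [hax, hae]
        _ = z := by rw [← hc, ← mul_assoc, hxx, one_mul]
    set f := a * q with hf
    have hf2z : (f * f) * z * (f * f)⁻¹ = x := by
      calc (f * f) * z * (f * f)⁻¹ = f * (f * z * f⁻¹) * f⁻¹ := by group
        _ = f * (z * x) * f⁻¹ := by rw [hfz]
        _ = (f * z * f⁻¹) * (f * x * f⁻¹) := by group
        _ = z * x * z := by rw [hfz, hfx]
        _ = x := by rw [← hc, mul_assoc, hzz, mul_one]
    have hf2x : (f * f) * x * (f * f)⁻¹ = z * x := by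
      calc (f * f) * x * (f * f)⁻¹ = f * (f * x * f⁻¹) * f⁻¹ := by group
        _ = f * z * f⁻¹ := by rw [hfx]
        _ = z * x := hfz
    have h1 := hT (f * f) hf2z x hxQ
    rw [hf2x] at h1
    apply hz
    have h2 := Q'.mul_mem h1 hxQ'
    rwa [mul_assoc, hxx, mul_one] at h2
  -- L1
  have hL1 : ∀ a ∈ Q', z * a * z⁻¹ * a⁻¹ ∈ zpowers x → z * a = a * z := by
    intro a ha hin
    rcases hQ'.eq_one_or hin with h | h
    · have : z * a * z⁻¹ = a := by
        calc z * a * z⁻¹ = z * a * z⁻¹ * a⁻¹ * a := by group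
          _ = a := by rw [h, one_mul]
      calc z * a = z * a * z⁻¹ * z := by group
        _ = a * z := by rw [this]
    · exfalso
      apply hφ a ha
      have h1 : z * a * z⁻¹ = x * a := by
        calc z * a * z⁻¹ = z * a * z⁻¹ * a⁻¹ * a := by group
          _ = x * a := by rw [h]
      rw [hzi] at h1
      have h3 : a = x * (z * a * z) := by rw [h1, ← mul_assoc, hxx, one_mul]
      have h4 : a * z = x * z * a := by
        calc a * z = x * (z * a * z) * z := by rw [← h3]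
          _ = x * z * a * (z * z) := by group
          _ = x * z * a := by rw [hzz, mul_one]
      calc a * z * a⁻¹ = x * z * a * a⁻¹ := by rw [h4]
        _ = z * x := by rw [mul_inv_cancel_right, hc]
  have hzQ'n : ∀ q ∈ Q', z * q * z⁻¹ ∈ Q' := fun q hq => hNx z hc.symm q hq
  -- Claim A
  have hA : ∀ w ∈ Q', z * (z * w * z⁻¹ * w⁻¹) = (z * w * z⁻¹ * w⁻¹) * z := by
    intro w hw
    set u := z * w * z⁻¹ * w⁻¹ with hu
    have huQ : u ∈ Q' := Q'.mul_mem (hzQ'n w hw) (Q'.inv_mem hw)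
    apply hL1 u huQ
    have h1 : z * u * z⁻¹ = u⁻¹ := by
      rw [hu]
      simp only [mul_inv_rev, inv_inv, hzi]
      calc z * (z * w * z * w⁻¹) * z = (z * z) * w * z * w⁻¹ * z := by group
        _ = w * z * w⁻¹ * z := by rw [hzz, one_mul]
        _ = w * (z * (w⁻¹ * z)) := by group
    rw [h1]
    exact hQ'.hsq _ (Q'.inv_mem huQ)
  -- Claim B
  have hB : ∀ u ∈ Q', z * u = u * z → ∀ p ∈ Q, p * x = x * p → p * u * p⁻¹ * u⁻¹ ∈ zpowers x := by
    intro u hu huz p hp hpx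
    have h1 : u * p * u⁻¹ * p⁻¹ ∈ Q := Q.mul_mem (hNz u huz.symm p hp) (Q.inv_mem hp)
    have h2 : u * p * u⁻¹ * p⁻¹ ∈ Q' := by
      rw [mul_assoc, mul_assoc]
      apply Q'.mul_mem hu
      rw [← mul_assoc]
      exact hNx p hpx _ (Q'.inv_mem hu)
    have h3 : p * u * p⁻¹ * u⁻¹ = (u * p * u⁻¹ * p⁻¹)⁻¹ := by group
    rw [h3]
    apply Subgroup.inv_mem
    rcases inter_le hQ hQ' hxQ hNx hz h1 h2 with h | h
    · rw [h]; exact one_mem _
    · rw [h]; exact mem_zpowers x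
  have hpi : ∀ p, p * x = x * p → p⁻¹ * x = x * p⁻¹ := by
    intro p hp
    calc p⁻¹ * x = p⁻¹ * (x * p) * p⁻¹ := by group
      _ = p⁻¹ * (p * x) * p⁻¹ := by rw [hp]
      _ = x * p⁻¹ := by group
  -- Claim C
  have hC : ∀ v ∈ Q', ∀ p ∈ Q, p * x = x * p → ∀ u ∈ Q', z * u = u * z → ⁅p * v * p⁻¹ * v⁻¹, u⁆ = 1 := by
    intro v hv p hp hpx u hu huz
    have hpv : p * v * p⁻¹ ∈ Q' := hNx p hpx v hv
    rw [hQ'.comm_mul_left hpv (Q'.inv_mem hv) hu, comm_inv_left hQ' hv hu]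
    set u₀ := p⁻¹ * u * p with hu₀
    have hu₀Q : u₀ ∈ Q' := by
      have := hNx p⁻¹ (hpi p hpx) u hu
      rwa [inv_inv] at this
    have e1 : u = p * u₀ * p⁻¹ := by rw [hu₀]; group
    have h1 : ⁅p * v * p⁻¹, u⁆ = ⁅v, u₀⁆ := by
      conv_lhs => rw [e1]
      exact comm_conj_eq hQ' hpx hv hu₀Q
    have h2 : p⁻¹ * u * p⁻¹⁻¹ * u⁻¹ ∈ zpowers x := hB u hu huz p⁻¹ (Q.inv_mem hp) (hpi p hpx)
    rw [inv_inv] at h2
    have e2 : u₀ = (p⁻¹ * u * p * u⁻¹) * u := by rw [hu₀]; group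
    have h3 : ⁅v, u₀⁆ = ⁅v, u⁆ := by
      rw [e2, hQ'.comm_mul_right hv (hQ'.zpowers_le h2) hu, hQ'.comm_central_right h2 hv, one_mul]
    rw [h1, h3, mul_inv_cancel]
  -- Claim D
  have hD : ∀ y ∈ Q', (∀ u ∈ Q', z * u = u * z → ⁅y, u⁆ = 1) → z * y * z⁻¹ * y⁻¹ ∈ zpowers x := by
    intro y hy hyu
    have hc1 : z * y * z⁻¹ * y⁻¹ ∈ Q' := Q'.mul_mem (hzQ'n y hy) (Q'.inv_mem hy)
    apply hQ'.mem_zpowers_of_comm hc1
    intro w hw
    rw [hQ'.comm_mul_left (hzQ'n y hy) (Q'.inv_mem hy) hw, comm_inv_left hQ' hy hw]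
    set w₁ := z * w * z⁻¹ with hw₁
    have hw₁Q : w₁ ∈ Q' := hzQ'n w hw
    have e1 : w = z * w₁ * z⁻¹ := by
      rw [hw₁, hzi]
      calc w = (z * z) * w * (z * z) := by rw [hzz]; group
        _ = z * (z * w * z) * z := by group
    have h1 : ⁅z * y * z⁻¹, w⁆ = ⁅y, w₁⁆ := by
      conv_lhs => rw [e1]
      exact comm_conj_eq hQ' hc.symm hy hw₁Q
    have e2 : w₁ = (z * w * z⁻¹ * w⁻¹) * w := by rw [hw₁]; group
    have hu : z * w * z⁻¹ * w⁻¹ ∈ Q' := Q'.mul_mem (hzQ'n w hw) (Q'.inv_mem hw)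
    have h3 : ⁅y, w₁⁆ = ⁅y, w⁆ := by
      rw [e2, hQ'.comm_mul_right hy hu hw, hyu _ hu (hA w hw), one_mul]
    rw [h1, h3, mul_inv_cancel]
  -- [Q', P] ≤ A
  have hE : ∀ v ∈ Q', ∀ p ∈ Q, p * x = x * p → z * (p * v * p⁻¹ * v⁻¹) = (p * v * p⁻¹ * v⁻¹) * z := by
    intro v hv p hp hpx
    have hy : p * v * p⁻¹ * v⁻¹ ∈ Q' := Q'.mul_mem (hNx p hpx v hv) (Q'.inv_mem hv)
    exact hL1 _ hy (hD _ hy (hC v hv p hp hpx))
  by_cases hab : ∀ p₁ ∈ Q, ∀ p₂ ∈ Q, p₁ * x = x * p₁ → p₂ * x = x * p₂ → p₁ * p₂ = p₂ * p₁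
  · exact Or.inr hab
  left
  push Not at hab
  obtain ⟨p₁, hp₁, p₂, hp₂, hp₁x, hp₂x, hne⟩ := hab
  have hcom : ⁅p₁, p₂⁆ = z := by
    rcases hQ.eq_one_or (hQ.hcom p₁ hp₁ p₂ hp₂) with h | h
    · exact absurd (commutatorElement_eq_one_iff_mul_comm.mp h) hne
    · exact h
  have hp12 : p₁ * p₂ = z * (p₂ * p₁) := by
    rw [← hcom, commutatorElement_def]; group
  -- main computation: `z` acts trivially on `Q'/⟨x⟩`
  have hmain : ∀ v ∈ Q', z * ((p₂ * p₁) * v * (p₂ * p₁)⁻¹) * z⁻¹ * ((p₂ * p₁) * v * (p₂ * p₁)⁻¹)⁻¹ ∈ zpowers x := by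
    intro v hv
    set y₁ := p₁ * v * p₁⁻¹ * v⁻¹ with hy₁
    set y₂ := p₂ * v * p₂⁻¹ * v⁻¹ with hy₂
    have hy₁Q : y₁ ∈ Q' := Q'.mul_mem (hNx p₁ hp₁x v hv) (Q'.inv_mem hv)
    have hy₂Q : y₂ ∈ Q' := Q'.mul_mem (hNx p₂ hp₂x v hv) (Q'.inv_mem hv)
    have hy₁z := hE v hv p₁ hp₁ hp₁x
    have hy₂z := hE v hv p₂ hp₂ hp₂x
    set c₁ := p₂ * y₁ * p₂⁻¹ * y₁⁻¹ with hc₁
    set c₂ := p₁ * y₂ * p₁⁻¹ * y₂⁻¹ with hc₂
    have hc₁x : c₁ ∈ zpowers x := hB y₁ hy₁Q hy₁z p₂ hp₂ hp₂x
    have hc₂x : c₂ ∈ zpowers x := hB y₂ hy₂Q hy₂z p₁ hp₁ hp₁x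
    have h1 : (p₂ * p₁) * v * (p₂ * p₁)⁻¹ = c₁ * y₁ * (y₂ * v) := by
      rw [hc₁, hy₁, hy₂]; group
    have h2 : (p₁ * p₂) * v * (p₁ * p₂)⁻¹ = c₂ * y₂ * (y₁ * v) := by
      rw [hc₂, hy₁, hy₂]; group
    have h3 : z * ((p₂ * p₁) * v * (p₂ * p₁)⁻¹) * z⁻¹ = (p₁ * p₂) * v * (p₁ * p₂)⁻¹ := by
      rw [hp12]; group
    rw [h3, h1, h2]
    have e : c₂ * y₂ * (y₁ * v) * (c₁ * y₁ * (y₂ * v))⁻¹ = c₂ * ⁅y₂, y₁⁆ * c₁⁻¹ := by
      simp only [commutatorElement_def]; group
    rw [e]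
    exact mul_mem (mul_mem hc₂x (hQ'.hcom _ hy₂Q _ hy₁Q)) (inv_mem hc₁x)
  intro a ha
  apply hL1 a ha
  have hpx : (p₂ * p₁)⁻¹ * x = x * (p₂ * p₁)⁻¹ := by
    apply hpi
    calc p₂ * p₁ * x = p₂ * (p₁ * x) := by group
      _ = p₂ * (x * p₁) := by rw [hp₁x]
      _ = (p₂ * x) * p₁ := by group
      _ = x * p₂ * p₁ := by rw [hp₂x]
      _ = x * (p₂ * p₁) := by group
  have h := hmain _ (hNx _ hpx a ha)
  have e : (p₂ * p₁) * ((p₂ * p₁)⁻¹ * a * (p₂ * p₁)⁻¹⁻¹) * (p₂ * p₁)⁻¹ = a := by group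
  rwa [e] at h

end Core

section Conj

variable [Finite G] {Q : Subgroup G} {z : G}

/-- Transport of extraspecial facts along conjugation. -/
theorem ExtraFacts_conj (hQ : ExtraFacts Q z) (g : G) :
    ExtraFacts (Q.map (MulAut.conj g).toMonoidHom) (g * z * g⁻¹) := by
  have e : ∀ a b : G, (g * a * g⁻¹) * (g * b * g⁻¹) = g * (a * b) * g⁻¹ := by intro a b; group
  have hmz : ∀ c, c ∈ zpowers z → g * c * g⁻¹ ∈ zpowers (g * z * g⁻¹) := by
    intro c hc
    rcases hQ.eq_one_or hc with rfl | rfl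
    · simp
    · exact mem_zpowers _
  refine ⟨?_, ⟨z, hQ.hzQ, rfl⟩, ?_, ?_, ?_⟩
  · rw [← hQ.hz]
    exact orderOf_injective (MulAut.conj g).toMonoidHom (MulAut.conj g).injective z
  · apply le_antisymm
    · rintro _ ⟨⟨q, hq, rfl⟩, hc⟩
      have : q ∈ Q ⊓ centralizer (Q : Set G) := by
        refine ⟨hq, Subgroup.mem_centralizer_iff.mpr ?_⟩
        intro w hw
        have h1 := Subgroup.mem_centralizer_iff.mp hc _ (⟨w, hw, rfl⟩ : (MulAut.conj g).toMonoidHom w ∈ Q.map (MulAut.conj g).toMonoidHom)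
        simp only [MulEquiv.coe_toMonoidHom, MulAut.conj_apply] at h1
        rw [e, e] at h1
        exact mul_left_cancel (mul_right_cancel h1)
      rw [hQ.hcent] at this
      exact hmz q this
    · rw [Subgroup.zpowers_le]
      refine ⟨⟨z, hQ.hzQ, rfl⟩, Subgroup.mem_centralizer_iff.mpr ?_⟩
      rintro _ ⟨w, hw, rfl⟩
      simp only [MulEquiv.coe_toMonoidHom, MulAut.conj_apply]
      rw [e, e, hQ.central (mem_zpowers z) hw]
  · rintro _ ⟨a, ha, rfl⟩ _ ⟨b, hb, rfl⟩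
    simp only [MulEquiv.coe_toMonoidHom, MulAut.conj_apply]
    have : ⁅g * a * g⁻¹, g * b * g⁻¹⁆ = g * ⁅a, b⁆ * g⁻¹ := by
      simp only [commutatorElement_def]; group
    rw [this]
    exact hmz _ (hQ.hcom a ha b hb)
  · rintro _ ⟨a, ha, rfl⟩
    simp only [MulEquiv.coe_toMonoidHom, MulAut.conj_apply]
    rw [e]
    exact hmz _ (hQ.hsq a ha)

omit [Finite G] in
theorem mem_map_conj_iff {g q : G} : q ∈ Q.map (MulAut.conj g).toMonoidHom ↔ g⁻¹ * q * g ∈ Q := by
  constructor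
  · rintro ⟨w, hw, rfl⟩
    simp only [MulEquiv.coe_toMonoidHom, MulAut.conj_apply]
    have : g⁻¹ * (g * w * g⁻¹) * g = w := by group
    rwa [this]
  · intro h
    exact ⟨_, h, by simp only [MulEquiv.coe_toMonoidHom, MulAut.conj_apply]; group⟩

/-- The abstract orthogonality alternative. -/
theorem ortho_alt (hQ : ExtraFacts Q z) (hN : ∀ c, c * z = z * c → ∀ q ∈ Q, c * q * c⁻¹ ∈ Q)
    (hC : ∀ c, (∀ q ∈ Q, c * q = q * c) → c ∈ Q) {g : G} (hxQ : g * z * g⁻¹ ∈ Q)
    (hxz : g * z * g⁻¹ ∉ zpowers z) :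
    z ∈ Q.map (MulAut.conj g).toMonoidHom ∨
      ∀ p₁ ∈ Q, ∀ p₂ ∈ Q, p₁ * (g * z * g⁻¹) = (g * z * g⁻¹) * p₁ → p₂ * (g * z * g⁻¹) = (g * z * g⁻¹) * p₂ →
        p₁ * p₂ = p₂ * p₁ := by
  set x := g * z * g⁻¹ with hx
  set Q' := Q.map (MulAut.conj g).toMonoidHom with hQ'
  have hf : ExtraFacts Q' x := ExtraFacts_conj hQ g
  by_cases hz : z ∈ Q'
  · exact Or.inl hz
  have hNx : ∀ c, c * x = x * c → ∀ q ∈ Q', c * q * c⁻¹ ∈ Q' := by
    intro c hc q hq
    rw [hQ', mem_map_conj_iff] at hq ⊢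
    have h1 : (g⁻¹ * c * g) * z = z * (g⁻¹ * c * g) := by
      have h2 : g⁻¹ * (c * x) * g = g⁻¹ * (x * c) * g := by rw [hc]
      rw [hx] at h2
      calc (g⁻¹ * c * g) * z = g⁻¹ * (c * (g * z * g⁻¹)) * g := by group
        _ = g⁻¹ * ((g * z * g⁻¹) * c) * g := h2
        _ = z * (g⁻¹ * c * g) := by group
    have h3 := hN _ h1 _ hq
    have e : g⁻¹ * (c * q * c⁻¹) * g = g⁻¹ * c * g * (g⁻¹ * q * g) * (g⁻¹ * c * g)⁻¹ := by group
    rwa [e]
  have hT : ∀ h, h * z * h⁻¹ = x → ∀ q ∈ Q, h * q * h⁻¹ ∈ Q' := by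
    intro h hh q hq
    rw [hQ', mem_map_conj_iff]
    have h1 : (g⁻¹ * h) * z = z * (g⁻¹ * h) := by
      have h2 : h * z = x * h := by rw [← hh]; group
      calc (g⁻¹ * h) * z = g⁻¹ * (h * z) := by group
        _ = g⁻¹ * (x * h) := by rw [h2]
        _ = z * (g⁻¹ * h) := by rw [hx]; group
    have h3 := hN _ h1 _ hq
    have e : g⁻¹ * (h * q * h⁻¹) * g = g⁻¹ * h * q * (g⁻¹ * h)⁻¹ := by group
    rwa [e]
  rcases ortho_core hQ hf hxQ hxz hN hNx hT hz with h | h
  · exfalso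
    apply hz
    rw [hQ', mem_map_conj_iff]
    apply hC
    intro q hq
    have h1 := h (g * q * g⁻¹) ⟨q, hq, rfl⟩
    calc g⁻¹ * z * g * q = g⁻¹ * (z * (g * q * g⁻¹)) * g := by group
      _ = g⁻¹ * ((g * q * g⁻¹) * z) * g := by rw [h1]
      _ = q * (g⁻¹ * z * g) := by group
  · exact Or.inr h

/-- If `C_Q(x)` is abelian then it lies in `⟨x, z⟩`. -/
theorem mem_klein_of_abelian (hQ : ExtraFacts Q z) {x : G} (hx : x * x = 1) (hxQ : x ∈ Q)
    (hab : ∀ p₁ ∈ Q, ∀ p₂ ∈ Q, p₁ * x = x * p₁ → p₂ * x = x * p₂ → p₁ * p₂ = p₂ * p₁)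
    (hz : z * z = 1) (hc : x * z = z * x) {e : G} (he : e ∈ Q) (hex : e * x = x * e) :
    e ∈ kleinSub x z hx hz hc := by
  by_contra hne
  have hzX : zpowers z ≤ kleinSub x z hx hz hc := by
    rw [Subgroup.zpowers_le]
    exact Or.inr (Or.inr (Or.inl rfl))
  have hXQ : kleinSub x z hx hz hc ≤ Q := by
    rintro a (rfl | rfl | rfl | rfl)
    · exact one_mem _
    · exact hxQ
    · exact hQ.hzQ
    · exact Q.mul_mem hxQ hQ.hzQ
  obtain ⟨q, hq, hqC, hne'⟩ := exists_separate hQ hzX hXQ he hne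
  apply hne'
  have hqx : q * x = x * q := (Subgroup.mem_centralizer_iff.mp hqC x (Or.inr (Or.inl rfl))).symm
  rw [hab q hq e he hqx hex]
  group

/-- An odd-order element commuting with `z` and moving `a` inside `{a, a z}` fixes `a`. -/
theorem odd_fix {h a : G} {k : ℕ} (hk : Odd k) (hh : h ^ k = 1) (hzz : z * z = 1) (hz1 : z ≠ 1)
    (hhz : h * z = z * h) (ha : h * a * h⁻¹ = a ∨ h * a * h⁻¹ = a * z) (hazc : a * z = z * a) :
    h * a * h⁻¹ = a := by
  rcases ha with ha | ha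
  · exact ha
  exfalso
  have key : ∀ n : ℕ, h ^ n * a * (h ^ n)⁻¹ = a * z ^ n := by
    intro n
    induction n with
    | zero => simp
    | succ n ih =>
      have hzn : h * z ^ n * h⁻¹ = z ^ n := by
        have : Commute h (z ^ n) := Commute.pow_right hhz n
        rw [this.eq]; group
      calc h ^ (n + 1) * a * (h ^ (n + 1))⁻¹ = h * (h ^ n * a * (h ^ n)⁻¹) * h⁻¹ := by
            rw [pow_succ']; group
        _ = h * (a * z ^ n) * h⁻¹ := by rw [ih]
        _ = (h * a * h⁻¹) * (h * z ^ n * h⁻¹) := by group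
        _ = a * z * z ^ n := by rw [ha, hzn]
        _ = a * z ^ (n + 1) := by rw [pow_succ']; group
  have h1 := key k
  rw [hh] at h1
  simp only [one_mul, inv_one, mul_one] at h1
  obtain ⟨m, rfl⟩ := hk
  have h2 : z ^ (2 * m + 1) = z := by
    rw [pow_succ, pow_mul, pow_two, hzz, one_pow, one_mul]
  rw [h2] at h1
  apply hz1
  have : a * z = a * 1 := by rw [← h1, mul_one]
  exact mul_left_cancel this

/-- An odd-order element of `C(z)` centralizes `Q`, when `C_Q(x)` is abelian, `x` a non-central involution. -/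
theorem odd_centralizes_of_small (hQ : ExtraFacts Q z) (hN : ∀ c, c * z = z * c → ∀ q ∈ Q, c * q * c⁻¹ ∈ Q)
    {x : G} (hx : x * x = 1) (hxQ : x ∈ Q) (hxz : x ∉ zpowers z)
    (hab : ∀ p₁ ∈ Q, ∀ p₂ ∈ Q, p₁ * x = x * p₁ → p₂ * x = x * p₂ → p₁ * p₂ = p₂ * p₁)
    {h : G} {k : ℕ} (hk : Odd k) (hh : h ^ k = 1) (hhz : h * z = z * h) :
    ∀ q ∈ Q, h * q = q * h := by
  have hzz : z * z = 1 := by
    have := pow_orderOf_eq_one z
    rwa [hQ.hz, pow_two] at this
  have hz1 := hQ.z_ne_one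
  have hzQ := hQ.hzQ
  have hc : x * z = z * x := (hQ.central (mem_zpowers z) hxQ).symm
  have hmemX := fun {e : G} (he : e ∈ Q) (hex : e * x = x * e) => mem_klein_of_abelian hQ hx hxQ hab hzz hc he hex
  have hcen : ∀ c ∈ Q, c * z = z * c := fun c hc => (hQ.central (mem_zpowers z) hc).symm
  have hodd : ∀ {n : ℕ} {a : G}, Odd n → (h ^ n) * a * (h ^ n)⁻¹ = a → False ∨ (h ^ n) * a * (h ^ n)⁻¹ = a :=
    fun _ h' => Or.inr h'
  clear hodd
  have hne1 : x ≠ 1 := fun h' => hxz (h' ▸ one_mem _)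
  have hnez : x ≠ z := fun h' => hxz (h' ▸ mem_zpowers z)
  -- the image of an involution
  have hconjQ : ∀ q ∈ Q, h * q * h⁻¹ ∈ Q := hN h hhz
  have hinv : ∀ a : G, (h * a * h⁻¹) * (h * a * h⁻¹) = h * (a * a) * h⁻¹ := by intro a; group
  -- Step 1: h fixes x modulo z
  have hkey : ∀ a ∈ Q, a * a = 1 → a ∉ zpowers z → a * x = x * a → a = x ∨ a = x * z := by
    intro a ha ha2 haz hax
    rcases hmemX ha hax with h1 | h1 | h1 | h1
    · exact absurd (h1 ▸ one_mem _) haz
    · exact Or.inl h1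
    · exact absurd (h1 ▸ mem_zpowers z) haz
    · exact Or.inr h1
  have hnotz : ∀ a, a ∉ zpowers z → h * a * h⁻¹ ∉ zpowers z := by
    intro a ha hin
    apply ha
    rcases hQ.eq_one_or hin with h1 | h1
    · have : a = 1 := by
        have h2 : a = h⁻¹ * (h * a * h⁻¹) * h := by group
        rw [h2, h1]; group
      rw [this]; exact one_mem _
    · have : a = z := by
        have h2 : h * a = z * h := by
          calc h * a = (h * a * h⁻¹) * h := by group
            _ = z * h := by rw [h1]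
        rw [← hhz] at h2
        exact mul_left_cancel h2
      rw [this]; exact mem_zpowers z
  -- odd-power lemma
  have hoddfix : ∀ {h' : G} {a : G}, (∃ k', Odd k' ∧ h' ^ k' = 1) → h' * z = z * h' →
      (h' * a * h'⁻¹ = a ∨ h' * a * h'⁻¹ = a * z) → a * z = z * a → h' * a * h'⁻¹ = a := by
    rintro h' a ⟨k', hk', hh'⟩ h1 h2 h3
    exact odd_fix hk' hh' hzz hz1 h1 h2 h3
  have hcommx : h * x * h⁻¹ = x := by
    apply hoddfix ⟨k, hk, hh⟩ hhz _ (hcen x hxQ)
    set y := h * x * h⁻¹ with hy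
    have hyQ : y ∈ Q := hconjQ x hxQ
    have hy2 : y * y = 1 := by rw [hy, hinv, hx]; group
    have hyz : y ∉ zpowers z := hnotz x hxz
    by_cases hyx : y * x = x * y
    · rcases hkey y hyQ hy2 hyz hyx with h1 | h1
      · exact Or.inl h1
      · exact Or.inr h1
    exfalso
    have hcomyx : ⁅y, x⁆ = z := by
      rcases hQ.eq_one_or (hQ.hcom y hyQ x hxQ) with h1 | h1
      · exact absurd (commutatorElement_eq_one_iff_mul_comm.mp h1) hyx
      · exact h1
    set y' := h * y * h⁻¹ with hy'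
    have hy'Q : y' ∈ Q := hconjQ y hyQ
    have hy'2 : y' * y' = 1 := by rw [hy', hinv, hy2]; group
    have hy'z : y' ∉ zpowers z := hnotz y hyz
    by_cases hy'x : y' * x = x * y'
    · -- h² fixes x modulo z
      have h1 : (h * h) * x * (h * h)⁻¹ = x ∨ (h * h) * x * (h * h)⁻¹ = x * z := by
        have e : (h * h) * x * (h * h)⁻¹ = y' := by rw [hy', hy]; group
        rw [e]
        exact hkey y' hy'Q hy'2 hy'z hy'x
      have h2 := hoddfix (h' := h * h) ⟨k, hk, by rw [← pow_two, ← pow_mul, mul_comm, pow_mul, hh, one_pow]⟩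
        (by rw [mul_assoc, hhz, ← mul_assoc, hhz, mul_assoc]) h1 (hcen x hxQ)
      -- h itself fixes x
      obtain ⟨m, rfl⟩ := hk
      have h3 : ∀ n : ℕ, (h * h) ^ n * x * ((h * h) ^ n)⁻¹ = x := by
        intro n
        induction n with
        | zero => simp
        | succ n ih =>
          calc (h * h) ^ (n + 1) * x * ((h * h) ^ (n + 1))⁻¹
              = (h * h) ^ n * ((h * h) * x * (h * h)⁻¹) * ((h * h) ^ n)⁻¹ := by rw [pow_succ]; group
            _ = x := by rw [h2, ih]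
      have h4 : h⁻¹ = (h * h) ^ m := by
        have h5 : h ^ (2 * m + 1) = 1 := hh
        rw [← pow_two, ← pow_mul]
        rw [pow_succ] at h5
        exact (eq_inv_of_mul_eq_one_left h5).symm
      have h5 := h3 m
      rw [← h4] at h5
      have h6 : x * h = h * x := by
        have h7 : h⁻¹ * x * h = x := by simpa using h5
        calc x * h = h * (h⁻¹ * x * h) * h⁻¹ * h := by group
          _ = h * x := by rw [h7]; group
      apply hyx
      have h8 : y = x := by rw [hy, ← h6]; group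
      rw [h8]
    · -- y' y⁻¹ commutes with x
      have hcomy'x : ⁅y', x⁆ = z := by
        rcases hQ.eq_one_or (hQ.hcom y' hy'Q x hxQ) with h1 | h1
        · exact absurd (commutatorElement_eq_one_iff_mul_comm.mp h1) hy'x
        · exact h1
      have hyi : y⁻¹ = y := inv_eq_of_mul_eq_one_left hy2
      have hxi : x⁻¹ = x := inv_eq_of_mul_eq_one_left hx
      have hy'i : y'⁻¹ = y' := inv_eq_of_mul_eq_one_left hy'2
      have h1 : (y' * y⁻¹) * x = x * (y' * y⁻¹) := by
        have hc1 := hQ.comm_mul_left hy'Q (Q.inv_mem hyQ) hxQ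
        have hc2 := comm_inv_left hQ hyQ hxQ
        rw [hc2, hcomy'x, hcomyx, mul_inv_cancel] at hc1
        exact commutatorElement_eq_one_iff_mul_comm.mp hc1
      rcases hmemX (Q.mul_mem hy'Q (Q.inv_mem hyQ)) h1 with h2 | h2 | h2 | h2
      · -- y' = y
        have h3 : y' = y := mul_inv_eq_one.mp h2
        apply hyx
        have h4 := hoddfix ⟨k, hk, hh⟩ hhz (a := y) (Or.inl h3) (hcen y hyQ)
        have h5 : x = y := by
          have h6 : h * y = h * x := by
            calc h * y = (h * y * h⁻¹) * h := by group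
              _ = y * h := by rw [h4]
              _ = h * x := by rw [hy]; group
          exact (mul_left_cancel h6).symm
        rw [← h5]
      · -- y' y = x : square
        have h3 : y' = x * y := by rw [← h2]; group
        rw [h3] at hy'2
        have h4 : ⁅x, y⁆ = 1 := by
          rw [commutatorElement_def, hxi, hyi]
          calc x * y * x * y = (x * y) * (x * y) := by group
            _ = 1 := hy'2
        exact hyx (commutatorElement_eq_one_iff_mul_comm.mp h4).symm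
      · -- y' = z y
        have h3 : y' = y * z := by
          have h4 : y' = z * y := by rw [← h2]; group
          rw [h4]; exact (hcen y hyQ).symm
        apply hyx
        have h4 := hoddfix ⟨k, hk, hh⟩ hhz (a := y) (Or.inr h3) (hcen y hyQ)
        have h5 : x = y := by
          have h6 : h * y = h * x := by
            calc h * y = (h * y * h⁻¹) * h := by group
              _ = y * h := by rw [h4]
              _ = h * x := by rw [hy]; group
          exact (mul_left_cancel h6).symm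
        rw [← h5]
      · -- y' = x z y : square
        have h3 : y' = (x * z) * y := by rw [← h2]; group
        rw [h3] at hy'2
        have h4 : (x * z * y) * (x * z * y) = (x * y) * (x * y) := by
          have e1 : z * y = y * z := (hcen y hyQ).symm
          have e2 : z * x = x * z := hc.symm
          calc (x * z * y) * (x * z * y) = x * (z * y) * x * (z * y) := by group
            _ = x * (y * z) * x * (y * z) := by rw [e1]
            _ = x * y * (z * x) * y * z := by group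
            _ = x * y * (x * z) * y * z := by rw [e2]
            _ = x * y * x * (z * y) * z := by group
            _ = x * y * x * (y * z) * z := by rw [e1]
            _ = x * y * x * y * (z * z) := by group
            _ = (x * y) * (x * y) := by rw [hzz]; group
        rw [h4] at hy'2
        have h5 : ⁅x, y⁆ = 1 := by
          rw [commutatorElement_def, hxi, hyi]
          calc x * y * x * y = (x * y) * (x * y) := by group
            _ = 1 := hy'2
        exact hyx (commutatorElement_eq_one_iff_mul_comm.mp h5).symm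
  -- Step 2: h fixes everything
  have hhx : h * x = x * h := by
    calc h * x = (h * x * h⁻¹) * h := by group
      _ = x * h := by rw [hcommx]
  intro q hq
  -- all elements of the Klein subgroup are fixed by h
  have hfixX : ∀ c ∈ kleinSub x z hx hzz hc, h * c = c * h := by
    rintro c (rfl | rfl | rfl | rfl)
    · simp
    · exact hhx
    · exact hhz
    · rw [← mul_assoc, hhx, mul_assoc, hhz, mul_assoc]
  by_cases hqx : q * x = x * q
  · exact hfixX q (hmemX hq hqx)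
  have hcomqx : ⁅q, x⁆ = z := by
    rcases hQ.eq_one_or (hQ.hcom q hq x hxQ) with h1 | h1
    · exact absurd (commutatorElement_eq_one_iff_mul_comm.mp h1) hqx
    · exact h1
  have hq' : h * q * h⁻¹ ∈ Q := hconjQ q hq
  have hcomq'x : ⁅h * q * h⁻¹, x⁆ = z := by
    have : ⁅h * q * h⁻¹, x⁆ = h * ⁅q, x⁆ * h⁻¹ := by
      have e : ⁅h * q * h⁻¹, x⁆ = ⁅h * q * h⁻¹, h * x * h⁻¹⁆ := by rw [hcommx]
      rw [e]
      simp only [commutatorElement_def]; group
    rw [this, hcomqx, hhz]; group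
  set c := h * q * h⁻¹ * q⁻¹ with hcdef
  have hcQ : c ∈ Q := Q.mul_mem hq' (Q.inv_mem hq)
  have hcx : c * x = x * c := by
    have hc1 := hQ.comm_mul_left hq' (Q.inv_mem hq) hxQ
    have hc2 := comm_inv_left hQ hq hxQ
    rw [hc2, hcomq'x, hcomqx, mul_inv_cancel] at hc1
    exact commutatorElement_eq_one_iff_mul_comm.mp hc1
  have hcX : c ∈ kleinSub x z hx hzz hc := hmemX hcQ hcx
  have hcsq : c * c = 1 := by
    rcases hcX with h1 | h1 | h1 | h1
    · rw [h1]; group
    · rw [h1]; exact hx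
    · rw [h1]; exact hzz
    · rw [h1]
      calc x * z * (x * z) = (x * x) * (z * z) := by
            have : z * x = x * z := hc.symm
            calc x * z * (x * z) = x * (z * x) * z := by group
              _ = x * (x * z) * z := by rw [this]
              _ = (x * x) * (z * z) := by group
        _ = 1 := by rw [hx, hzz]; group
  have hch : h * c = c * h := hfixX c hcX
  have hqc : h * q * h⁻¹ = c * q := by rw [hcdef]; group
  have key : ∀ n : ℕ, h ^ n * q * (h ^ n)⁻¹ = c ^ n * q := by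
    intro n
    induction n with
    | zero => simp
    | succ n ih =>
      have hcn : h * c ^ n * h⁻¹ = c ^ n := by
        have : Commute h (c ^ n) := Commute.pow_right hch n
        rw [this.eq]; group
      calc h ^ (n + 1) * q * (h ^ (n + 1))⁻¹ = h * (h ^ n * q * (h ^ n)⁻¹) * h⁻¹ := by
            rw [pow_succ']; group
        _ = h * (c ^ n * q) * h⁻¹ := by rw [ih]
        _ = (h * c ^ n * h⁻¹) * (h * q * h⁻¹) := by group
        _ = c ^ n * (c * q) := by rw [hcn, hqc]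
        _ = c ^ (n + 1) * q := by rw [pow_succ]; group
  have h1 := key k
  rw [hh] at h1
  simp only [one_mul, inv_one, mul_one] at h1
  obtain ⟨m, rfl⟩ := hk
  have h2 : c ^ (2 * m + 1) = c := by
    rw [pow_succ, pow_mul, pow_two, hcsq, one_pow, one_mul]
  rw [h2] at h1
  have hc1 : c = 1 := by
    have : 1 * q = c * q := by rw [one_mul]; exact h1
    exact (mul_right_cancel this).symm
  have : h * q * h⁻¹ = q := by rw [hqc, hc1, one_mul]
  calc h * q = (h * q * h⁻¹) * h := by group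
    _ = q * h := by rw [this]

end Conj

section Final

variable [Finite G] {Q : Subgroup G} {z : G}

theorem relIndex_mul_card' {H K : Subgroup G} (h : H ≤ K) : H.relIndex K * Nat.card H = Nat.card K := by
  have h1 := Subgroup.card_mul_index (H.subgroupOf K)
  have h2 : Nat.card (H.subgroupOf K) = Nat.card H := Nat.card_congr (Subgroup.subgroupOfEquivOfLe h).toEquiv
  rw [h2] at h1
  rw [mul_comm]
  exact h1

theorem card_kleinSub_le (x : G) (hx : x * x = 1) (hz : z * z = 1) (hc : x * z = z * x) :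
    Nat.card (kleinSub x z hx hz hc) ≤ 4 := by
  classical
  have h1 : ((kleinSub x z hx hz hc : Subgroup G) : Set G) ⊆ (({1, x, z, x * z} : Finset G) : Set G) := by
    rintro a (rfl | rfl | rfl | rfl) <;> simp
  have h2 : Nat.card (kleinSub x z hx hz hc) = ((kleinSub x z hx hz hc : Subgroup G) : Set G).ncard := by
    exact (Nat.card_coe_set_eq _)
  rw [h2]
  calc _ ≤ ((({1, x, z, x * z} : Finset G) : Set G)).ncard := Set.ncard_le_ncard h1 (Finset.finite_toSet _)
    _ = ({1, x, z, x * z} : Finset G).card := Set.ncard_coe_finset _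
    _ ≤ 4 := Finset.card_le_four

/-- If `C_Q(x)` is abelian for a non-central involution `x`, then `|Q| ≤ 8`. -/
theorem card_le_of_abelian (hQ : ExtraFacts Q z) {x : G} (hx : x * x = 1) (hxQ : x ∈ Q)
    (hab : ∀ p₁ ∈ Q, ∀ p₂ ∈ Q, p₁ * x = x * p₁ → p₂ * x = x * p₂ → p₁ * p₂ = p₂ * p₁) :
    Nat.card Q ≤ 8 := by
  have hzz : z * z = 1 := by
    have := pow_orderOf_eq_one z
    rwa [hQ.hz, pow_two] at this
  have hc : x * z = z * x := (hQ.central (mem_zpowers z) hxQ).symm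
  set X := kleinSub x z hx hzz hc with hX
  have hzX : zpowers z ≤ X := by
    rw [Subgroup.zpowers_le]
    exact Or.inr (Or.inr (Or.inl rfl))
  have hXQ : X ≤ Q := by
    rintro a (rfl | rfl | rfl | rfl)
    · exact one_mem _
    · exact hxQ
    · exact hQ.hzQ
    · exact Q.mul_mem hxQ hQ.hzQ
  have h1 := hQ.relIndex_centralizer hzX hXQ
  have hPX : Q ⊓ centralizer (X : Set G) ≤ X := by
    rintro q ⟨hq, hqC⟩
    have hqx : q * x = x * q := (Subgroup.mem_centralizer_iff.mp hqC x (Or.inr (Or.inl rfl))).symm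
    exact mem_klein_of_abelian hQ hx hxQ hab hzz hc hq hqx
  have hcX : Nat.card X ≤ 4 := card_kleinSub_le x hx hzz hc
  have hPcard : Nat.card (Q ⊓ centralizer (X : Set G) : Subgroup G) ≤ 4 :=
    (Subgroup.card_le_of_le hPX).trans hcX
  have h2 : (zpowers z).relIndex X * Nat.card (zpowers z) = Nat.card X :=
    relIndex_mul_card' hzX
  rw [hQ.card_zpowers] at h2
  have h3 : (zpowers z).relIndex X ≤ 2 := by omega
  have h4 : (Q ⊓ centralizer (X : Set G)).relIndex Q * Nat.card (Q ⊓ centralizer (X : Set G) : Subgroup G) = Nat.card Q :=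
    relIndex_mul_card' inf_le_left
  rw [← h4, h1]
  exact Nat.mul_le_mul h3 hPcard

/-- Orthogonality when `|Q| > 8`. -/
theorem ortho_of_card (hQ : ExtraFacts Q z) (hN : ∀ c, c * z = z * c → ∀ q ∈ Q, c * q * c⁻¹ ∈ Q)
    (hC : ∀ c, (∀ q ∈ Q, c * q = q * c) → c ∈ Q) (hcard : 8 < Nat.card Q) {g : G} (hxQ : g * z * g⁻¹ ∈ Q) :
    z ∈ Q.map (MulAut.conj g).toMonoidHom := by
  by_cases hxz : g * z * g⁻¹ ∈ zpowers z
  · have hx1 : g * z * g⁻¹ ≠ 1 := by
      intro h
      apply hQ.z_ne_one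
      have e : z = g⁻¹ * (g * z * g⁻¹) * g := by group
      rw [e, h]; group
    rcases hQ.eq_one_or hxz with h | h
    · exact absurd h hx1
    · rw [mem_map_conj_iff]
      have h3 : g⁻¹ * z * g = z := by
        rw [← h]
        have e : g⁻¹ * (g * z * g⁻¹) * g = z := by group
        rw [e, h]
      rw [h3]
      exact hQ.hzQ
  rcases ortho_alt hQ hN hC hxQ hxz with h | h
  · exact h
  · exfalso
    have hx2 : (g * z * g⁻¹) * (g * z * g⁻¹) = 1 := by
      have hzz : z * z = 1 := by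
        have := pow_orderOf_eq_one z
        rwa [hQ.hz, pow_two] at this
      calc _ = g * (z * z) * g⁻¹ := by group
        _ = 1 := by rw [hzz]; group
    have := card_le_of_abelian hQ hx2 hxQ h
    omega

/-- `O₂(C(z))` is normalized by `C(z)`. -/
theorem QC_normal {x c : G} (hc : c * x = x * c) {q : G} (hq : q ∈ QC x) : c * q * c⁻¹ ∈ QC x := by
  have h1 : c * x * c⁻¹ = x := by rw [hc]; group
  have h2 := QC_conj c x
  rw [h1] at h2
  rw [h2]
  exact ⟨q, hq, rfl⟩

/-- **Orthogonality is symmetric** for `Q = O₂(C(z))` extraspecial with `C(Q) ≤ Q`. -/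
theorem ortho_QC (hz : orderOf z = 2) (hE : IsExtraspecial 2 ↥(QC z))
    (hC : centralizer ((QC z : Subgroup G) : Set G) ≤ QC z) {g : G} (hx : g * z * g⁻¹ ∈ QC z) :
    z ∈ QC (g * z * g⁻¹) := by
  have hQ : ExtraFacts (QC z) z := by simpa using facts_of_extraspecial hz hE 1
  have hzz : z * z = 1 := by
    have := pow_orderOf_eq_one z
    rwa [hz, pow_two] at this
  have hN : ∀ c, c * z = z * c → ∀ q ∈ QC z, c * q * c⁻¹ ∈ QC z := fun c hc q hq => QC_normal hc hq
  have hC' : ∀ c, (∀ q ∈ QC z, c * q = q * c) → c ∈ QC z := by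
    intro c hc
    apply hC
    rw [Subgroup.mem_centralizer_iff]
    intro q hq
    exact (hc q hq).symm
  by_cases hxz : g * z * g⁻¹ ∈ zpowers z
  · have hx1 : g * z * g⁻¹ ≠ 1 := by
      intro h
      apply hQ.z_ne_one
      have e : z = g⁻¹ * (g * z * g⁻¹) * g := by group
      rw [e, h]; group
    rcases hQ.eq_one_or hxz with h | h
    · exact absurd h hx1
    · rw [h]
      exact hQ.hzQ
  rw [QC_conj]
  rcases ortho_alt hQ hN hC' hx hxz with h | h
  · exact h
  have hx2 : (g * z * g⁻¹) * (g * z * g⁻¹) = 1 := by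
    calc _ = g * (z * z) * g⁻¹ := by group
      _ = 1 := by rw [hzz]; group
  -- `C(z)` is a 2-group
  have hodd : ∀ (y : G) (k : ℕ), Odd k → y ^ k = 1 → y * z = z * y → y * y * (y * y) = 1 := by
    intro y k hk hyk hyz
    have h1 := odd_centralizes_of_small hQ hN hx2 hx hxz h hk hyk hyz
    have h2 : y ∈ QC z := hC' y h1
    rcases hQ.eq_one_or (hQ.hsq y h2) with h3 | h3
    · rw [h3, one_mul]
    · rw [h3, hzz]
  have hP : IsPGroup 2 ↥(centralizer ({z} : Set G)) := by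
    rw [IsPGroup.iff_card]
    refine ⟨_, Nat.eq_prime_pow_of_unique_prime_dvd Nat.card_pos.ne' ?_⟩
    intro d hd hdvd
    haveI : Fact d.Prime := ⟨hd⟩
    obtain ⟨y, hy⟩ := exists_prime_orderOf_dvd_card' (G := ↥(centralizer ({z} : Set G))) d hdvd
    by_contra hd2
    have hdodd : Odd d := hd.odd_of_ne_two hd2
    have hy1 : (y : G) ^ d = 1 := by
      have := pow_orderOf_eq_one y
      rw [hy] at this
      exact congrArg Subtype.val this
    have hyz : (y : G) * z = z * (y : G) := (Subgroup.mem_centralizer_iff.mp y.2 z rfl).symm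
    have h4 := hodd _ d hdodd hy1 hyz
    have h5 : orderOf y ∣ 4 := by
      apply orderOf_dvd_of_pow_eq_one
      apply Subtype.ext
      simp only [Subgroup.coe_pow, Subgroup.coe_one]
      calc (y : G) ^ 4 = (y : G) * y * (y * y) := by
            rw [show (4 : ℕ) = 2 + 2 from rfl, pow_add, pow_two]
        _ = 1 := h4
    rw [hy] at h5
    have h6 : d ∣ 2 ^ 2 := by simpa using h5
    exact hd2 ((Nat.prime_dvd_prime_iff_eq hd Nat.prime_two).mp (hd.dvd_of_dvd_pow h6))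
  have hQC : centralizer ({z} : Set G) ≤ QC z := by
    intro y hy
    refine ⟨⟨y, hy⟩, ?_, rfl⟩
    have h1 := Cfsg.Agent.Lib.Core.le_pCore (p := 2) (N := (⊤ : Subgroup ↥(centralizer ({z} : Set G)))) inferInstance
      (hP.to_subgroup ⊤) (Subgroup.mem_top (⟨y, hy⟩ : ↥(centralizer ({z} : Set G))))
    exact h1
  rw [mem_map_conj_iff]
  apply hQC
  rw [Subgroup.mem_centralizer_iff]
  intro w hw
  rw [Set.mem_singleton_iff.mp hw]
  -- `g⁻¹ z g` commutes with `z`
  have h1 : (g * z * g⁻¹) * z = z * (g * z * g⁻¹) := (hQ.central (mem_zpowers z) hx).symm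
  calc z * (g⁻¹ * z * g) = g⁻¹ * (g * z * g⁻¹) * z * g := by group
    _ = g⁻¹ * ((g * z * g⁻¹) * z) * g := by group
    _ = g⁻¹ * (z * (g * z * g⁻¹)) * g := by rw [h1]
    _ = g⁻¹ * z * g * z := by group

end Final

end Cfsg.Agent.Lib.LargeES
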