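import Mathlib
import Cfsg.Agent.Lib.LargeES.Ortho
import Cfsg.Agent.S0444

/-!
# Orthogonal pairs of singular involutions in a large extraspecial configuration

`Q` extraspecial with centre `⟨z⟩`, `Q' = Q^g` with centre `⟨x⟩`, `x ∈ Q`, `z ∈ Q'`: the group
`X = ⟨Q, Q'⟩` normalizes `R = C_Q(x) C_{Q'}(z)`, with `X/R ≅ S₃`.
-/

set_option autoImplicit false

namespace Cfsg.Agent.Lib.LargeES

open Subgroup Cfsg Cfsg.Agent.Lib.Cl Cfsg.Agent.Lib.ThreeT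
open scoped commutatorElement

variable {G : Type*} [Group G]

/-- Induction on a join in a finite group. -/
theorem sup_induction [Finite G] {A B : Subgroup G} {P : G → Prop} (h1 : P 1) (hmul : ∀ a b, P a → P b → P (a * b))
    (hA : ∀ a ∈ A, P a) (hB : ∀ b ∈ B, P b) : ∀ g ∈ A ⊔ B, P g := by
  have hpow : ∀ (a : G) (n : ℕ), P a → P (a ^ n) := by
    intro a n ha
    induction n with
    | zero => simpa using h1
    | succ k ih => rw [pow_succ]; exact hmul _ _ ih ha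
  let K : Subgroup G :=
    { carrier := {g | P g}
      mul_mem' := fun ha hb => hmul _ _ ha hb
      one_mem' := h1
      inv_mem' := by
        intro a ha
        obtain ⟨n, hn⟩ := exists_pow_inv a
        show P a⁻¹
        rw [hn]
        exact hpow a n ha }
  have hle : A ⊔ B ≤ K := sup_le hA hB
  exact fun g hg => hle hg

/-- Two extraspecial subgroups with orthogonal centres, conjugate in `G`. -/
structure OrthoPair (Q Q' : Subgroup G) (z x : G) : Prop where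
  hQ : ExtraFacts Q z
  hQ' : ExtraFacts Q' x
  hxQ : x ∈ Q
  hzQ' : z ∈ Q'
  hne : x ≠ z
  hNz : ∀ c, c * z = z * c → ∀ q ∈ Q, c * q * c⁻¹ ∈ Q
  hNx : ∀ c, c * x = x * c → ∀ q ∈ Q', c * q * c⁻¹ ∈ Q'
  hT : ∀ h, h * z * h⁻¹ = x → ∀ q ∈ Q, h * q * h⁻¹ ∈ Q'
  hT' : ∀ h, h * x * h⁻¹ = z → ∀ q ∈ Q', h * q * h⁻¹ ∈ Q

namespace OrthoPair

variable {Q Q' : Subgroup G} {z x : G}

theorem symm (S : OrthoPair Q Q' z x) : OrthoPair Q' Q x z :=
  ⟨S.hQ', S.hQ, S.hzQ', S.hxQ, S.hne.symm, S.hNx, S.hNz, S.hT', S.hT⟩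

variable (S : OrthoPair Q Q' z x)
include S

theorem zz : z * z = 1 := by
  have := pow_orderOf_eq_one z
  rwa [S.hQ.hz, pow_two] at this

theorem xx : x * x = 1 := by
  have := pow_orderOf_eq_one x
  rwa [S.hQ'.hz, pow_two] at this

theorem xz_comm : x * z = z * x := (S.hQ.central (mem_zpowers z) S.hxQ).symm

theorem x_ne_one : x ≠ 1 := S.hQ'.z_ne_one
theorem z_ne_one : z ≠ 1 := S.hQ.z_ne_one

theorem x_notMem : x ∉ zpowers z := by
  intro h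
  rcases S.hQ.eq_one_or h with h1 | h1
  · exact S.x_ne_one h1
  · exact S.hne h1

theorem Q'_comm_x {q : G} (hq : q ∈ Q') : q * x = x * q := (S.hQ'.central (mem_zpowers x) hq).symm
theorem Q_comm_z {q : G} (hq : q ∈ Q) : q * z = z * q := (S.hQ.central (mem_zpowers z) hq).symm

/-- `[Q, C_{Q'}(z)] ≤ C_Q(x)` -/
theorem comm_comm {q a : G} (hq : q ∈ Q) (ha : a ∈ Q') (haz : a * z = z * a) :
    (q * a * q⁻¹ * a⁻¹) ∈ Q ∧ (q * a * q⁻¹ * a⁻¹) * x = x * (q * a * q⁻¹ * a⁻¹) := by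
  have hax : a * x = x * a := S.Q'_comm_x ha
  have hu : a * q⁻¹ * a⁻¹ ∈ Q := S.hNz a haz _ (Q.inv_mem hq)
  have e : q * a * q⁻¹ * a⁻¹ = q * (a * q⁻¹ * a⁻¹) := by group
  rw [e]
  refine ⟨Q.mul_mem hq hu, ?_⟩
  have h1 := S.hQ.comm_mul_left hq hu S.hxQ
  have h2 : ⁅a * q⁻¹ * a⁻¹, x⁆ = ⁅q⁻¹, x⁆ := by
    have h3 : a * x * a⁻¹ = x := by rw [hax]; group
    conv_lhs => rw [← h3]
    exact comm_conj_eq S.hQ haz (Q.inv_mem hq) S.hxQ
  rw [h2, comm_inv_left S.hQ hq S.hxQ, mul_inv_cancel] at h1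
  exact commutatorElement_eq_one_iff_mul_comm.mp h1


theorem P_conj_of_Q {q p : G} (hq : q ∈ Q) (hp : p ∈ Q) (hpx : p * x = x * p) :
    q * p * q⁻¹ ∈ Q ∧ (q * p * q⁻¹) * x = x * (q * p * q⁻¹) := by
  refine ⟨Q.mul_mem (Q.mul_mem hq hp) (Q.inv_mem hq), ?_⟩
  have h1 : q * p * q⁻¹ = ⁅q, p⁆ * p := by
    rw [commutatorElement_def]; group
  rw [h1]
  have hc : ⁅q, p⁆ ∈ zpowers z := S.hQ.hcom q hq p hp
  rcases S.hQ.eq_one_or hc with h2 | h2
  · rw [h2, one_mul]; exact hpx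
  · rw [h2]
    calc z * p * x = z * (p * x) := by group
      _ = z * (x * p) := by rw [hpx]
      _ = (z * x) * p := by group
      _ = (x * z) * p := by rw [S.xz_comm]
      _ = x * (z * p) := by group

/-- `C_Q(x)` is normalized by `C_{Q'}(z)`. -/
theorem P_conj_of_P' {a p : G} (ha : a ∈ Q') (haz : a * z = z * a) (hp : p ∈ Q) (hpx : p * x = x * p) :
    a * p * a⁻¹ ∈ Q ∧ (a * p * a⁻¹) * x = x * (a * p * a⁻¹) := by
  refine ⟨S.hNz a haz p hp, ?_⟩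
  have hax := S.Q'_comm_x ha
  have h3 : a⁻¹ * x = x * a⁻¹ := by
    calc a⁻¹ * x = a⁻¹ * (x * a) * a⁻¹ := by group
      _ = a⁻¹ * (a * x) * a⁻¹ := by rw [hax]
      _ = x * a⁻¹ := by group
  calc a * p * a⁻¹ * x = a * p * (a⁻¹ * x) := by group
    _ = a * p * (x * a⁻¹) := by rw [h3]
    _ = a * (p * x) * a⁻¹ := by group
    _ = a * (x * p) * a⁻¹ := by rw [hpx]
    _ = (a * x) * p * a⁻¹ := by group
    _ = (x * a) * p * a⁻¹ := by rw [hax]
    _ = x * (a * p * a⁻¹) := by group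

end OrthoPair

/-- `R = C_Q(x) C_{Q'}(z)`. -/
def Rg (Q Q' : Subgroup G) (z x : G) : Subgroup G :=
  (Q ⊓ centralizer ({x} : Set G)) ⊔ (Q' ⊓ centralizer ({z} : Set G))

theorem Rg_symm (Q Q' : Subgroup G) (z x : G) : Rg Q' Q x z = Rg Q Q' z x := sup_comm _ _

theorem mem_inf_centralizer {Q : Subgroup G} {x p : G} :
    p ∈ Q ⊓ centralizer ({x} : Set G) ↔ p ∈ Q ∧ p * x = x * p := by
  rw [Subgroup.mem_inf, Subgroup.mem_centralizer_iff]
  constructor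
  · rintro ⟨h1, h2⟩
    exact ⟨h1, (h2 x rfl).symm⟩
  · rintro ⟨h1, h2⟩
    refine ⟨h1, fun y hy => ?_⟩
    rw [Set.mem_singleton_iff.mp hy]
    exact h2.symm

namespace OrthoPair

variable {Q Q' : Subgroup G} {z x : G} (S : OrthoPair Q Q' z x)
include S

theorem mem_R_iff {r : G} : r ∈ Rg Q Q' z x ↔
    ∃ p ∈ Q, ∃ a ∈ Q', p * x = x * p ∧ a * z = z * a ∧ r = p * a := by
  constructor
  · intro hr
    let K : Subgroup G :=
      { carrier := {r | ∃ p ∈ Q, ∃ a ∈ Q', p * x = x * p ∧ a * z = z * a ∧ r = p * a}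
        mul_mem' := by
          rintro _ _ ⟨p, hp, a, ha, hpx, haz, rfl⟩ ⟨p₁, hp₁, a₁, ha₁, hp₁x, ha₁z, rfl⟩
          obtain ⟨h1, h2⟩ := S.P_conj_of_P' ha haz hp₁ hp₁x
          refine ⟨p * (a * p₁ * a⁻¹), Q.mul_mem hp h1, a * a₁, Q'.mul_mem ha ha₁, ?_, ?_, by group⟩
          · calc p * (a * p₁ * a⁻¹) * x = p * ((a * p₁ * a⁻¹) * x) := by group
              _ = p * (x * (a * p₁ * a⁻¹)) := by rw [h2]
              _ = (p * x) * (a * p₁ * a⁻¹) := by group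
              _ = x * (p * (a * p₁ * a⁻¹)) := by rw [hpx]; group
          · calc a * a₁ * z = a * (a₁ * z) := by group
              _ = a * (z * a₁) := by rw [ha₁z]
              _ = (a * z) * a₁ := by group
              _ = z * (a * a₁) := by rw [haz]; group
        one_mem' := ⟨1, one_mem _, 1, one_mem _, by group, by group, by group⟩
        inv_mem' := by
          rintro _ ⟨p, hp, a, ha, hpx, haz, rfl⟩
          have hai : a⁻¹ * z = z * a⁻¹ := by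
            calc a⁻¹ * z = a⁻¹ * (z * a) * a⁻¹ := by group
              _ = a⁻¹ * (a * z) * a⁻¹ := by rw [haz]
              _ = z * a⁻¹ := by group
          have hpi : p⁻¹ * x = x * p⁻¹ := by
            calc p⁻¹ * x = p⁻¹ * (x * p) * p⁻¹ := by group
              _ = p⁻¹ * (p * x) * p⁻¹ := by rw [hpx]
              _ = x * p⁻¹ := by group
          obtain ⟨h1, h2⟩ := S.P_conj_of_P' (Q'.inv_mem ha) hai (Q.inv_mem hp) hpi
          refine ⟨a⁻¹ * p⁻¹ * a⁻¹⁻¹, h1, a⁻¹, Q'.inv_mem ha, h2, hai, by group⟩ }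
    have hle : Rg Q Q' z x ≤ K := by
      apply sup_le
      · intro p hp
        obtain ⟨h1, h2⟩ := mem_inf_centralizer.mp hp
        exact ⟨p, h1, 1, one_mem _, h2, by group, by group⟩
      · intro a ha
        obtain ⟨h1, h2⟩ := mem_inf_centralizer.mp ha
        exact ⟨1, one_mem _, a, h1, by group, h2, by group⟩
    exact hle hr
  · rintro ⟨p, hp, a, ha, hpx, haz, rfl⟩
    exact Subgroup.mul_mem_sup (mem_inf_centralizer.mpr ⟨hp, hpx⟩) (mem_inf_centralizer.mpr ⟨ha, haz⟩)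

theorem P_le_R {p : G} (hp : p ∈ Q) (hpx : p * x = x * p) : p ∈ Rg Q Q' z x :=
  Subgroup.mem_sup_left (mem_inf_centralizer.mpr ⟨hp, hpx⟩)

theorem P'_le_R {a : G} (ha : a ∈ Q') (haz : a * z = z * a) : a ∈ Rg Q Q' z x :=
  Subgroup.mem_sup_right (mem_inf_centralizer.mpr ⟨ha, haz⟩)

/-- `R` acts trivially on `V`. -/
theorem R_comm {r : G} (hr : r ∈ Rg Q Q' z x) : r * z = z * r ∧ r * x = x * r := by
  obtain ⟨p, hp, a, ha, hpx, haz, rfl⟩ := S.mem_R_iff.mp hr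
  have hax := S.Q'_comm_x ha
  have hpz := S.Q_comm_z hp
  constructor
  · calc p * a * z = p * (a * z) := by group
      _ = p * (z * a) := by rw [haz]
      _ = (p * z) * a := by group
      _ = z * (p * a) := by rw [hpz]; group
  · calc p * a * x = p * (a * x) := by group
      _ = p * (x * a) := by rw [hax]
      _ = (p * x) * a := by group
      _ = x * (p * a) := by rw [hpx]; group

theorem z_mem_R : z ∈ Rg Q Q' z x := S.P_le_R S.hQ.hzQ S.xz_comm.symm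

theorem x_mem_R : x ∈ Rg Q Q' z x := S.P'_le_R S.hQ'.hzQ S.xz_comm

/-- `Q` normalizes `R`. -/
theorem Q_conj_R {q r : G} (hq : q ∈ Q) (hr : r ∈ Rg Q Q' z x) : q * r * q⁻¹ ∈ Rg Q Q' z x := by
  obtain ⟨p, hp, a, ha, hpx, haz, rfl⟩ := S.mem_R_iff.mp hr
  obtain ⟨h1, h2⟩ := S.P_conj_of_Q hq hp hpx
  obtain ⟨h3, h4⟩ := S.comm_comm hq ha haz
  have e : q * (p * a) * q⁻¹ = (q * p * q⁻¹) * (q * a * q⁻¹ * a⁻¹) * a := by group
  rw [e]
  exact mul_mem (mul_mem (S.P_le_R h1 h2) (S.P_le_R h3 h4)) (S.P'_le_R ha haz)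

theorem Q'_conj_R {q r : G} (hq : q ∈ Q') (hr : r ∈ Rg Q Q' z x) : q * r * q⁻¹ ∈ Rg Q Q' z x := by
  rw [← Rg_symm] at hr ⊢
  exact S.symm.Q_conj_R hq hr

/-- `X = ⟨Q, Q'⟩` normalizes `R`. -/
theorem X_conj_R [Finite G] {w : G} (hw : w ∈ Q ⊔ Q') : ∀ r ∈ Rg Q Q' z x, w * r * w⁻¹ ∈ Rg Q Q' z x := by
  revert w
  apply sup_induction
  · intro r hr
    simpa using hr
  · intro a b ha hb r hr
    have e : a * b * r * (a * b)⁻¹ = a * (b * r * b⁻¹) * a⁻¹ := by group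
    rw [e]
    exact ha _ (hb r hr)
  · exact fun a ha r hr => S.Q_conj_R ha hr
  · exact fun a ha r hr => S.Q'_conj_R ha hr

theorem R_le_X : Rg Q Q' z x ≤ Q ⊔ Q' :=
  sup_le (inf_le_left.trans le_sup_left) (inf_le_left.trans le_sup_right)

theorem exists_q [Finite G] : ∃ q ∈ Q, q * x * q⁻¹ = x * z ∧ q * z * q⁻¹ = z := by
  obtain ⟨q, hq, hqx⟩ := exists_conj_eq S.hQ S.hxQ S.x_notMem
  refine ⟨q, hq, hqx, ?_⟩
  rw [S.Q_comm_z hq]; group

/-- The braid relation modulo `R`. -/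
theorem braid_mem {q q' : G} (hq : q ∈ Q) (hq' : q' ∈ Q') (hqx : q * x * q⁻¹ = x * z) (hqz : q * z * q⁻¹ = z)
    (hq'z : q' * z * q'⁻¹ = z * x) (hq'x : q' * x * q'⁻¹ = x) :
    q * q' * q⁻¹ * (q' * q⁻¹ * q'⁻¹) ∈ Rg Q Q' z x := by
  have hzz := S.zz
  have hxx := S.xx
  have hc := S.xz_comm
  -- `h = q'⁻¹ q` sends `x` to `z`
  have hiz : q'⁻¹ * z * q' = z * x := by
    have h1 : q'⁻¹ * (q' * z * q'⁻¹) * q' = z := by group
    rw [hq'z] at h1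
    have h2 : q'⁻¹ * (z * x) * q' = (q'⁻¹ * z * q') * (q'⁻¹ * x * q') := by group
    have h3 : q'⁻¹ * x * q' = x := by
      have h4 : q'⁻¹ * (q' * x * q'⁻¹) * q' = x := by group
      rwa [hq'x] at h4
    rw [h2, h3] at h1
    calc q'⁻¹ * z * q' = (q'⁻¹ * z * q') * x * x := by rw [mul_assoc _ x x, hxx, mul_one]
      _ = z * x := by rw [h1]
  have hix : q'⁻¹ * x * q' = x := by
    have h4 : q'⁻¹ * (q' * x * q'⁻¹) * q' = x := by group
    rwa [hq'x] at h4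
  have hh : (q'⁻¹ * q) * x * (q'⁻¹ * q)⁻¹ = z := by
    calc (q'⁻¹ * q) * x * (q'⁻¹ * q)⁻¹ = q'⁻¹ * (q * x * q⁻¹) * q' := by group
      _ = q'⁻¹ * (x * z) * q' := by rw [hqx]
      _ = (q'⁻¹ * x * q') * (q'⁻¹ * z * q') := by group
      _ = x * (z * x) := by rw [hix, hiz]
      _ = z := by rw [← hc, ← mul_assoc, hxx, one_mul]
  set w := (q'⁻¹ * q) * q' * (q'⁻¹ * q)⁻¹ with hw
  have hwQ : w ∈ Q := S.hT' _ hh q' hq'
  -- `w` sends `x z` to `x`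
  have hwxz : w * (x * z) * w⁻¹ = x := by
    have e1 : w = q'⁻¹ * q * q' * q⁻¹ * q' := by rw [hw]; group
    rw [e1]
    have e2 : (q'⁻¹ * q * q' * q⁻¹ * q') * (x * z) * (q'⁻¹ * q * q' * q⁻¹ * q')⁻¹
        = q'⁻¹ * (q * (q' * (q⁻¹ * (q' * (x * z) * q'⁻¹) * q) * q'⁻¹) * q⁻¹) * q' := by group
    rw [e2]
    have e3 : q' * (x * z) * q'⁻¹ = (q' * x * q'⁻¹) * (q' * z * q'⁻¹) := by group
    rw [e3, hq'x, hq'z]
    have e4 : x * (z * x) = z := by rw [← hc, ← mul_assoc, hxx, one_mul]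
    rw [e4]
    have hiqz : q⁻¹ * z * q = z := by
      have h4 : q⁻¹ * (q * z * q⁻¹) * q = z := by group
      rwa [hqz] at h4
    rw [hiqz, hq'z]
    have e5 : q * (z * x) * q⁻¹ = (q * z * q⁻¹) * (q * x * q⁻¹) := by group
    rw [e5, hqz, hqx]
    have e6 : z * (x * z) = x := by rw [← mul_assoc, ← hc, mul_assoc, hzz, mul_one]
    rw [e6, hix]
  -- `p₀ = w q⁻¹` commutes with `x`
  have hp₀Q : w * q⁻¹ ∈ Q := Q.mul_mem hwQ (Q.inv_mem hq)
  have hp₀x : (w * q⁻¹) * x = x * (w * q⁻¹) := by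
    have hiqx : q⁻¹ * x * q = x * z := by
      have h4 : q⁻¹ * (q * (x * z) * q⁻¹) * q = x * z := by group
      have h5 : q * (x * z) * q⁻¹ = x := by
        calc q * (x * z) * q⁻¹ = (q * x * q⁻¹) * (q * z * q⁻¹) := by group
          _ = x * z * z := by rw [hqx, hqz]
          _ = x := by rw [mul_assoc, hzz, mul_one]
      rwa [h5] at h4
    have h6 : (w * q⁻¹) * x * (w * q⁻¹)⁻¹ = x := by
      calc (w * q⁻¹) * x * (w * q⁻¹)⁻¹ = w * (q⁻¹ * x * q) * w⁻¹ := by group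
        _ = x := by rw [hiqx, hwxz]
    calc (w * q⁻¹) * x = ((w * q⁻¹) * x * (w * q⁻¹)⁻¹) * (w * q⁻¹) := by group
      _ = x * (w * q⁻¹) := by rw [h6]
  have hq'comm : q' * (w * q⁻¹) * q'⁻¹ ∈ Rg Q Q' z x := S.Q'_conj_R hq' (S.P_le_R hp₀Q hp₀x)
  have e : q * q' * q⁻¹ * (q' * q⁻¹ * q'⁻¹) = q' * (w * q⁻¹) * q'⁻¹ := by
    rw [hw]; group
  rw [e]
  exact hq'comm


section Quot

open Cfsg.Agent.S0444

variable [Finite G]

theorem N_normal : ((Rg Q Q' z x).subgroupOf (Q ⊔ Q')).Normal := by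
  constructor
  intro n hn g
  rw [Subgroup.mem_subgroupOf] at hn ⊢
  simpa using S.X_conj_R g.2 _ hn

variable [hN : ((Rg Q Q' z x).subgroupOf (Q ⊔ Q')).Normal]

variable {q q' : G}

/-- Images in the quotient. -/
theorem mk_eq_one_iff {w : ↥(Q ⊔ Q')} :
    (QuotientGroup.mk w : ↥(Q ⊔ Q') ⧸ (Rg Q Q' z x).subgroupOf (Q ⊔ Q')) = 1 ↔ (w : G) ∈ Rg Q Q' z x := by
  rw [QuotientGroup.eq_one_iff, Subgroup.mem_subgroupOf]

theorem hbraid_q (hq : q ∈ Q) (hq' : q' ∈ Q') (hqx : q * x * q⁻¹ = x * z) (hqz : q * z * q⁻¹ = z)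
    (hq'z : q' * z * q'⁻¹ = z * x) (hq'x : q' * x * q'⁻¹ = x) :
    let a : ↥(Q ⊔ Q') ⧸ (Rg Q Q' z x).subgroupOf (Q ⊔ Q') := QuotientGroup.mk ⟨q, Subgroup.mem_sup_left hq⟩
    let b : ↥(Q ⊔ Q') ⧸ (Rg Q Q' z x).subgroupOf (Q ⊔ Q') := QuotientGroup.mk ⟨q', Subgroup.mem_sup_right hq'⟩
    a * a = 1 ∧ b * b = 1 ∧ a * b * a = b * a * b := by
  intro a b
  have ha : a * a = 1 := by
    show (QuotientGroup.mk (⟨q, _⟩ * ⟨q, _⟩) : ↥(Q ⊔ Q') ⧸ (Rg Q Q' z x).subgroupOf (Q ⊔ Q')) = 1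
    rw [S.mk_eq_one_iff]
    show q * q ∈ _
    rcases S.hQ.eq_one_or (S.hQ.hsq q hq) with h | h
    · rw [h]; exact one_mem _
    · rw [h]; exact S.z_mem_R
  have hb : b * b = 1 := by
    show (QuotientGroup.mk (⟨q', _⟩ * ⟨q', _⟩) : ↥(Q ⊔ Q') ⧸ (Rg Q Q' z x).subgroupOf (Q ⊔ Q')) = 1
    rw [S.mk_eq_one_iff]
    show q' * q' ∈ _
    rcases S.hQ'.eq_one_or (S.hQ'.hsq q' hq') with h | h
    · rw [h]; exact one_mem _
    · rw [h]; exact S.x_mem_R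
  refine ⟨ha, hb, ?_⟩
  have hai : a⁻¹ = a := inv_eq_of_mul_eq_one_left ha
  have hbi : b⁻¹ = b := inv_eq_of_mul_eq_one_left hb
  have h1 : a * b * a⁻¹ * (b * a⁻¹ * b⁻¹) = 1 := by
    have h2 := S.braid_mem hq hq' hqx hqz hq'z hq'x
    have h3 := (S.mk_eq_one_iff (w := ⟨q, Subgroup.mem_sup_left hq⟩ * ⟨q', Subgroup.mem_sup_right hq'⟩ *
      ⟨q, Subgroup.mem_sup_left hq⟩⁻¹ * (⟨q', Subgroup.mem_sup_right hq'⟩ * ⟨q, Subgroup.mem_sup_left hq⟩⁻¹ *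
      ⟨q', Subgroup.mem_sup_right hq'⟩⁻¹))).mpr h2
    exact h3
  rw [hai, hbi] at h1
  calc a * b * a = a * b * a * ((b * a * b) * (b * a * b)) := by
        have : (b * a * b) * (b * a * b) = 1 := by
          calc (b * a * b) * (b * a * b) = b * a * (b * b) * a * b := by group
            _ = b * (a * a) * b := by rw [hb]; group
            _ = 1 := by rw [ha, mul_one, hb]
        rw [this, mul_one]
    _ = (a * b * a * (b * a * b)) * (b * a * b) := by group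
    _ = b * a * b := by rw [h1, one_mul]

/-- Every element of `X` is congruent modulo `R` to one of six words. -/
theorem exists_word (hq : q ∈ Q) (hq' : q' ∈ Q') (hqx : q * x * q⁻¹ = x * z) (hqz : q * z * q⁻¹ = z)
    (hq'z : q' * z * q'⁻¹ = z * x) (hq'x : q' * x * q'⁻¹ = x) {w : G} (hw : w ∈ Q ⊔ Q') :
    ∃ σ : Equiv.Perm (Fin 3), (QuotientGroup.mk ⟨w, hw⟩ : ↥(Q ⊔ Q') ⧸ (Rg Q Q' z x).subgroupOf (Q ⊔ Q')) =
      word (QuotientGroup.mk ⟨q, Subgroup.mem_sup_left hq⟩) (QuotientGroup.mk ⟨q', Subgroup.mem_sup_right hq'⟩) σ := by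
  obtain ⟨ha, hb, hbr⟩ := S.hbraid_q hq hq' hqx hqz hq'z hq'x
  set a : ↥(Q ⊔ Q') ⧸ (Rg Q Q' z x).subgroupOf (Q ⊔ Q') := QuotientGroup.mk ⟨q, Subgroup.mem_sup_left hq⟩ with ha'
  set b : ↥(Q ⊔ Q') ⧸ (Rg Q Q' z x).subgroupOf (Q ⊔ Q') := QuotientGroup.mk ⟨q', Subgroup.mem_sup_right hq'⟩ with hb'
  let f : Equiv.Perm (Fin 3) →* ↥(Q ⊔ Q') ⧸ (Rg Q Q' z x).subgroupOf (Q ⊔ Q') :=
    MonoidHom.mk' (word a b) (word_mul a b ha hb hbr)
  have hle : Q ⊔ Q' ≤ ((f.range).comap (QuotientGroup.mk' _)).map (Q ⊔ Q').subtype := by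
    apply sup_le
    · intro u hu
      refine ⟨⟨u, Subgroup.mem_sup_left hu⟩, ?_, rfl⟩
      show (QuotientGroup.mk _ : ↥(Q ⊔ Q') ⧸ (Rg Q Q' z x).subgroupOf (Q ⊔ Q')) ∈ f.range
      by_cases hux : u * x = x * u
      · have h1 := (S.mk_eq_one_iff (w := ⟨u, Subgroup.mem_sup_left hu⟩)).mpr (S.P_le_R hu hux)
        rw [h1]
        exact one_mem _
      · have h2 : u * x * u⁻¹ = x * z := by
          apply conj_eq_of_ne S.hQ hu S.hxQ
          intro h3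
          apply hux
          calc u * x = (u * x * u⁻¹) * u := by group
            _ = x * u := by rw [h3]
        have h3 : (q⁻¹ * u) * x = x * (q⁻¹ * u) := by
          have h4 : q⁻¹ * (x * z) * q = x := by
            rw [← hqx]; group
          calc (q⁻¹ * u) * x = q⁻¹ * (u * x * u⁻¹) * u := by group
            _ = q⁻¹ * (x * z) * q * (q⁻¹ * u) := by rw [h2]; group
            _ = x * (q⁻¹ * u) := by rw [h4]
        have h4 := (S.mk_eq_one_iff (w := ⟨q, Subgroup.mem_sup_left hq⟩⁻¹ * ⟨u, Subgroup.mem_sup_left hu⟩)).mpr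
          (S.P_le_R (Q.mul_mem (Q.inv_mem hq) hu) h3)
        have h5 : (QuotientGroup.mk ⟨u, Subgroup.mem_sup_left hu⟩ : ↥(Q ⊔ Q') ⧸ (Rg Q Q' z x).subgroupOf (Q ⊔ Q')) = a := by
          have h6 : a⁻¹ * (QuotientGroup.mk ⟨u, Subgroup.mem_sup_left hu⟩ : ↥(Q ⊔ Q') ⧸ (Rg Q Q' z x).subgroupOf (Q ⊔ Q')) = 1 := h4
          calc _ = a * (a⁻¹ * (QuotientGroup.mk ⟨u, Subgroup.mem_sup_left hu⟩ : ↥(Q ⊔ Q') ⧸ (Rg Q Q' z x).subgroupOf (Q ⊔ Q'))) := by group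
            _ = a := by rw [h6, mul_one]
        rw [h5]
        exact ⟨s, word_s a b⟩
    · intro u hu
      refine ⟨⟨u, Subgroup.mem_sup_right hu⟩, ?_, rfl⟩
      show (QuotientGroup.mk _ : ↥(Q ⊔ Q') ⧸ (Rg Q Q' z x).subgroupOf (Q ⊔ Q')) ∈ f.range
      by_cases huz : u * z = z * u
      · have h1 := (S.mk_eq_one_iff (w := ⟨u, Subgroup.mem_sup_right hu⟩)).mpr (S.P'_le_R hu huz)
        rw [h1]
        exact one_mem _
      · have h2 : u * z * u⁻¹ = z * x := by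
          apply conj_eq_of_ne S.hQ' hu S.hzQ'
          intro h3
          apply huz
          calc u * z = (u * z * u⁻¹) * u := by group
            _ = z * u := by rw [h3]
        have h3 : (q'⁻¹ * u) * z = z * (q'⁻¹ * u) := by
          have h4 : q'⁻¹ * (z * x) * q' = z := by
            rw [← hq'z]; group
          calc (q'⁻¹ * u) * z = q'⁻¹ * (u * z * u⁻¹) * u := by group
            _ = q'⁻¹ * (z * x) * q' * (q'⁻¹ * u) := by rw [h2]; group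
            _ = z * (q'⁻¹ * u) := by rw [h4]
        have h4 := (S.mk_eq_one_iff (w := ⟨q', Subgroup.mem_sup_right hq'⟩⁻¹ * ⟨u, Subgroup.mem_sup_right hu⟩)).mpr
          (S.P'_le_R (Q'.mul_mem (Q'.inv_mem hq') hu) h3)
        have h5 : (QuotientGroup.mk ⟨u, Subgroup.mem_sup_right hu⟩ : ↥(Q ⊔ Q') ⧸ (Rg Q Q' z x).subgroupOf (Q ⊔ Q')) = b := by
          have h6 : b⁻¹ * (QuotientGroup.mk ⟨u, Subgroup.mem_sup_right hu⟩ : ↥(Q ⊔ Q') ⧸ (Rg Q Q' z x).subgroupOf (Q ⊔ Q')) = 1 := h4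
          calc _ = b * (b⁻¹ * (QuotientGroup.mk ⟨u, Subgroup.mem_sup_right hu⟩ : ↥(Q ⊔ Q') ⧸ (Rg Q Q' z x).subgroupOf (Q ⊔ Q'))) := by group
            _ = b := by rw [h6, mul_one]
        rw [h5]
        exact ⟨t, word_t a b⟩
  obtain ⟨w₀, hw₀, hw₀e⟩ := hle hw
  have h1 : w₀ = ⟨w, hw⟩ := Subtype.ext hw₀e
  rw [h1] at hw₀
  obtain ⟨σ, hσ⟩ := hw₀
  exact ⟨σ, hσ.symm⟩

end Quot

end OrthoPair

end Cfsg.Agent.Lib.LargeES
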