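import Mathlib
import Cfsg.Agent.Lib.LargeES.Pair

/-!
# Orthogonal pairs: `X/R ≅ S₃`, `R = C_X(V) = O₂(X)`, `N(V) = X C(V)`
-/

set_option autoImplicit false

namespace Cfsg.Agent.Lib.LargeES

open Subgroup Cfsg Cfsg.Agent.Lib.Cl Cfsg.Agent.Lib.ThreeT Cfsg.Agent.S0444
open scoped commutatorElement

variable {G : Type*} [Group G]

namespace OrthoPair

variable {Q Q' : Subgroup G} {z x : G} (S : OrthoPair Q Q' z x)
include S

theorem act_eq {s w : G} (h : s⁻¹ * w ∈ Rg Q Q' z x) : w * z * w⁻¹ = s * z * s⁻¹ ∧ w * x * w⁻¹ = s * x * s⁻¹ := by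
  obtain ⟨h1, h2⟩ := S.R_comm h
  set r := s⁻¹ * w with hr
  have hw : w = s * r := by rw [hr]; group
  rw [hw]
  constructor
  · calc s * r * z * (s * r)⁻¹ = s * (r * z) * r⁻¹ * s⁻¹ := by group
      _ = s * (z * r) * r⁻¹ * s⁻¹ := by rw [h1]
      _ = s * z * s⁻¹ := by group
  · calc s * r * x * (s * r)⁻¹ = s * (r * x) * r⁻¹ * s⁻¹ := by group
      _ = s * (x * r) * r⁻¹ * s⁻¹ := by rw [h2]
      _ = s * x * s⁻¹ := by group

section Data

variable {q q' : G} (hq : q ∈ Q) (hq' : q' ∈ Q') (hqx : q * x * q⁻¹ = x * z) (hqz : q * z * q⁻¹ = z)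
    (hq'z : q' * z * q'⁻¹ = z * x) (hq'x : q' * x * q'⁻¹ = x)

include hqx hqz hq'z hq'x in
/-- The action of the six words on `(z, x)`. -/
theorem table :
    ((q * q') * z * (q * q')⁻¹ = x ∧ (q * q') * x * (q * q')⁻¹ = x * z) ∧
    ((q' * q) * z * (q' * q)⁻¹ = z * x ∧ (q' * q) * x * (q' * q)⁻¹ = z) ∧
    ((q * q' * q) * z * (q * q' * q)⁻¹ = x ∧ (q * q' * q) * x * (q * q' * q)⁻¹ = z) := by
  have hzz := S.zz
  have hxx := S.xx
  have hc := S.xz_comm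
  have e1 : z * (x * z) = x := by rw [← mul_assoc, ← hc, mul_assoc, hzz, mul_one]
  have e2 : x * (z * x) = z := by rw [← hc, ← mul_assoc, hxx, one_mul]
  have e3 : ∀ c a b : G, c * (a * b) * c⁻¹ = (c * a * c⁻¹) * (c * b * c⁻¹) := by intro c a b; group
  have h1 : (q * q') * z * (q * q')⁻¹ = x := by
    calc (q * q') * z * (q * q')⁻¹ = q * (q' * z * q'⁻¹) * q⁻¹ := by group
      _ = x := by rw [hq'z, e3, hqz, hqx, e1]
  have h2 : (q * q') * x * (q * q')⁻¹ = x * z := by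
    calc (q * q') * x * (q * q')⁻¹ = q * (q' * x * q'⁻¹) * q⁻¹ := by group
      _ = x * z := by rw [hq'x, hqx]
  have h3 : (q' * q) * z * (q' * q)⁻¹ = z * x := by
    calc (q' * q) * z * (q' * q)⁻¹ = q' * (q * z * q⁻¹) * q'⁻¹ := by group
      _ = z * x := by rw [hqz, hq'z]
  have h4 : (q' * q) * x * (q' * q)⁻¹ = z := by
    calc (q' * q) * x * (q' * q)⁻¹ = q' * (q * x * q⁻¹) * q'⁻¹ := by group
      _ = z := by rw [hqx, e3, hq'x, hq'z, e2]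
  refine ⟨⟨h1, h2⟩, ⟨h3, h4⟩, ?_, ?_⟩
  · calc (q * q' * q) * z * (q * q' * q)⁻¹ = (q * q') * (q * z * q⁻¹) * (q * q')⁻¹ := by group
      _ = x := by rw [hqz, h1]
  · calc (q * q' * q) * x * (q * q' * q)⁻¹ = (q * q') * (q * x * q⁻¹) * (q * q')⁻¹ := by group
      _ = z := by rw [hqx, e3, h1, h2, hc, mul_assoc, hxx, mul_one]

variable [Finite G] [hN : ((Rg Q Q' z x).subgroupOf (Q ⊔ Q')).Normal]

include hq hq' hqx hqz hq'z hq'x in
theorem exists_s6 {w : G} (hw : w ∈ Q ⊔ Q') :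
    ∃ s, (s = 1 ∨ s = q ∨ s = q' ∨ s = q * q' ∨ s = q' * q ∨ s = q * q' * q) ∧ s⁻¹ * w ∈ Rg Q Q' z x := by
  obtain ⟨σ, hσ⟩ := S.exists_word hq hq' hqx hqz hq'z hq'x hw
  have key : ∀ (s : G) (hs : s ∈ Q ⊔ Q'),
      (QuotientGroup.mk ⟨w, hw⟩ : ↥(Q ⊔ Q') ⧸ (Rg Q Q' z x).subgroupOf (Q ⊔ Q')) = QuotientGroup.mk ⟨s, hs⟩ →
      s⁻¹ * w ∈ Rg Q Q' z x := by
    intro s hs h
    have h1 := QuotientGroup.eq.mp h.symm
    rwa [Subgroup.mem_subgroupOf] at h1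
  have hqX : q ∈ Q ⊔ Q' := Subgroup.mem_sup_left hq
  have hq'X : q' ∈ Q ⊔ Q' := Subgroup.mem_sup_right hq'
  rcases cases6 σ with rfl | rfl | rfl | rfl | rfl | rfl
  · rw [word_one] at hσ
    exact ⟨1, Or.inl rfl, key 1 (one_mem _) hσ⟩
  · rw [word_s] at hσ
    exact ⟨q, Or.inr (Or.inl rfl), key q hqX hσ⟩
  · rw [word_t] at hσ
    exact ⟨q', Or.inr (Or.inr (Or.inl rfl)), key q' hq'X hσ⟩
  · rw [word_st] at hσ
    exact ⟨q * q', Or.inr (Or.inr (Or.inr (Or.inl rfl))), key _ (mul_mem hqX hq'X) hσ⟩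
  · rw [word_ts] at hσ
    exact ⟨q' * q, Or.inr (Or.inr (Or.inr (Or.inr (Or.inl rfl)))), key _ (mul_mem hq'X hqX) hσ⟩
  · rw [word_sts] at hσ
    exact ⟨q * q' * q, Or.inr (Or.inr (Or.inr (Or.inr (Or.inr rfl)))), key _ (mul_mem (mul_mem hqX hq'X) hqX) hσ⟩

include hq hq' hqx hqz hq'z hq'x in
/-- `C_X(V) ≤ R`. -/
theorem mem_R_of_comm {w : G} (hw : w ∈ Q ⊔ Q') (hwz : w * z = z * w) (hwx : w * x = x * w) : w ∈ Rg Q Q' z x := by
  obtain ⟨s, hs, hsw⟩ := S.exists_s6 hq hq' hqx hqz hq'z hq'x hw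
  obtain ⟨h1, h2⟩ := S.act_eq hsw
  have hz' : w * z * w⁻¹ = z := by rw [hwz]; group
  have hx' : w * x * w⁻¹ = x := by rw [hwx]; group
  rw [hz'] at h1
  rw [hx'] at h2
  obtain ⟨⟨t1, t2⟩, ⟨t3, t4⟩, t5, t6⟩ := S.table hqx hqz hq'z hq'x
  have hz1 := S.z_ne_one
  have hx1 := S.x_ne_one
  have hne := S.hne
  rcases hs with rfl | rfl | rfl | rfl | rfl | rfl
  · simpa using hsw
  · exfalso
    rw [hqx] at h2
    exact hz1 (by simpa using h2.symm)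
  · exfalso
    rw [hq'z] at h1
    exact hx1 (by simpa using h1.symm)
  · exfalso
    rw [t1] at h1
    exact hne h1.symm
  · exfalso
    rw [t4] at h2
    exact hne h2
  · exfalso
    rw [t6] at h2
    exact hne h2

include hq hq' hqx hqz hq'z hq'x in
/-- `X/R ≅ S₃`. -/
theorem quot_iso : Nonempty (↥(Q ⊔ Q') ⧸ (Rg Q Q' z x).subgroupOf (Q ⊔ Q') ≃* Equiv.Perm (Fin 3)) := by
  obtain ⟨ha, hb, hbr⟩ := S.hbraid_q hq hq' hqx hqz hq'z hq'x
  set a : ↥(Q ⊔ Q') ⧸ (Rg Q Q' z x).subgroupOf (Q ⊔ Q') := QuotientGroup.mk ⟨q, Subgroup.mem_sup_left hq⟩ with ha'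
  set b : ↥(Q ⊔ Q') ⧸ (Rg Q Q' z x).subgroupOf (Q ⊔ Q') := QuotientGroup.mk ⟨q', Subgroup.mem_sup_right hq'⟩ with hb'
  let f : Equiv.Perm (Fin 3) →* ↥(Q ⊔ Q') ⧸ (Rg Q Q' z x).subgroupOf (Q ⊔ Q') :=
    MonoidHom.mk' (word a b) (word_mul a b ha hb hbr)
  have hsurj : Function.Surjective f := by
    intro y
    obtain ⟨w, rfl⟩ := QuotientGroup.mk_surjective y
    obtain ⟨σ, hσ⟩ := S.exists_word hq hq' hqx hqz hq'z hq'x w.2
    exact ⟨σ, hσ.symm⟩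
  obtain ⟨⟨t1, t2⟩, ⟨t3, t4⟩, t5, t6⟩ := S.table hqx hqz hq'z hq'x
  have hz1 := S.z_ne_one
  have hx1 := S.x_ne_one
  have hne := S.hne
  have hR : ∀ (w : ↥(Q ⊔ Q')), (QuotientGroup.mk w : ↥(Q ⊔ Q') ⧸ (Rg Q Q' z x).subgroupOf (Q ⊔ Q')) = 1 →
      (w : G) * z * (w : G)⁻¹ = z ∧ (w : G) * x * (w : G)⁻¹ = x := by
    intro w hw
    obtain ⟨h1, h2⟩ := S.R_comm (S.mk_eq_one_iff.mp hw)
    exact ⟨by rw [h1]; group, by rw [h2]; group⟩
  let qX : ↥(Q ⊔ Q') := ⟨q, Subgroup.mem_sup_left hq⟩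
  let q'X : ↥(Q ⊔ Q') := ⟨q', Subgroup.mem_sup_right hq'⟩
  have hinj : Function.Injective f := by
    rw [injective_iff_map_eq_one]
    intro σ hσ
    have hσ' : word a b σ = 1 := hσ
    rcases cases6 σ with rfl | rfl | rfl | rfl | rfl | rfl
    · rfl
    · rw [word_s] at hσ'
      exfalso
      have h1 := (hR _ hσ').2
      simp only at h1
      rw [hqx] at h1
      exact hz1 (by simpa using h1)
    · rw [word_t] at hσ'
      exfalso
      have h1 := (hR _ hσ').1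
      simp only at h1
      rw [hq'z] at h1
      exact hx1 (by simpa using h1)
    · rw [word_st] at hσ'
      exfalso
      have h1 := (hR (qX * q'X) hσ').1
      simp only [Subgroup.coe_mul] at h1
      rw [t1] at h1
      exact hne h1
    · rw [word_ts] at hσ'
      exfalso
      have h1 := (hR (q'X * qX) hσ').2
      simp only [Subgroup.coe_mul] at h1
      rw [t4] at h1
      exact hne h1.symm
    · rw [word_sts] at hσ'
      exfalso
      have h1 := (hR (qX * q'X * qX) hσ').2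
      simp only [Subgroup.coe_mul] at h1
      rw [t6] at h1
      exact hne h1.symm
  exact ⟨(MulEquiv.ofBijective f ⟨hinj, hsurj⟩).symm⟩

end Data

end OrthoPair

end Cfsg.Agent.Lib.LargeES
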