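import Mathlib
import Cfsg.Agent.Lib.LargeES.Pair2
import Cfsg.Agent.S5421
import Cfsg.Agent.Lib.ThreeT.Elem

/-!
# Orthogonal pairs: the four-group `V`, its normalizer, oddness
-/

set_option autoImplicit false

namespace Cfsg.Agent.Lib.LargeES

open Subgroup Cfsg Cfsg.Agent.Lib.Cl Cfsg.Agent.Lib.ThreeT Cfsg.Agent.S0444
open scoped commutatorElement

variable {G : Type*} [Group G]

theorem isPGroup_of_facts [Finite G] {Q : Subgroup G} {z : G} (h : ExtraFacts Q z) : IsPGroup 2 Q := by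
  intro g
  refine ⟨2, ?_⟩
  apply Subtype.ext
  have hzz : z * z = 1 := by
    have := pow_orderOf_eq_one z
    rwa [h.hz, pow_two] at this
  show (g : G) ^ (2 ^ 2) = 1
  have e : (g : G) ^ (2 ^ 2) = (g : G) * g * (g * g) := by
    rw [show (2 : ℕ) ^ 2 = 2 + 2 from rfl, pow_add, pow_two]
  rw [e]
  rcases h.eq_one_or (h.hsq g g.2) with h1 | h1
  · rw [h1, one_mul]
  · rw [h1, hzz]

/-- Counting a relative index through a function separating cosets. -/
theorem relIndex_of_fun {H K : Subgroup G} {T : Type*} (f : G → T)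
    (hf : ∀ a ∈ H, ∀ b ∈ H, f a = f b ↔ a⁻¹ * b ∈ K) (Im : Set T)
    (him : ∀ t, t ∈ Im ↔ ∃ a ∈ H, f a = t) : K.relIndex H = Im.ncard := by
  let φ : ↥H ⧸ K.subgroupOf H → Im := fun y =>
    Quotient.liftOn' y (fun a : ↥H => (⟨f a, (him _).mpr ⟨a, a.2, rfl⟩⟩ : Im)) (by
      intro a b hab
      have h1 : (a : G)⁻¹ * (b : G) ∈ K := by
        have := QuotientGroup.leftRel_apply.mp hab
        rwa [Subgroup.mem_subgroupOf] at this
      exact Subtype.ext ((hf a a.2 b b.2).mpr h1))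
  have hbij : Function.Bijective φ := by
    constructor
    · intro y₁ y₂
      induction y₁ using QuotientGroup.induction_on with
      | H a =>
      induction y₂ using QuotientGroup.induction_on with
      | H b =>
      intro h
      have h1 : f a = f b := congrArg Subtype.val h
      apply QuotientGroup.eq.mpr
      rw [Subgroup.mem_subgroupOf]
      exact (hf a a.2 b b.2).mp h1
    · rintro ⟨t, ht⟩
      obtain ⟨a, ha, rfl⟩ := (him t).mp ht
      exact ⟨QuotientGroup.mk ⟨a, ha⟩, rfl⟩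
  rw [Subgroup.relIndex, Subgroup.index, Nat.card_congr (Equiv.ofBijective φ hbij), Nat.card_coe_set_eq]

namespace OrthoPair

variable {Q Q' : Subgroup G} {z x : G} (S : OrthoPair Q Q' z x)
include S

theorem closure_eq_klein : closure ({z, x} : Set G) = kleinSub x z S.xx S.zz S.xz_comm := by
  apply le_antisymm
  · rw [Subgroup.closure_le]
    rintro a (rfl | rfl)
    · exact Or.inr (Or.inr (Or.inl rfl))
    · exact Or.inr (Or.inl rfl)
  · rintro a (rfl | rfl | rfl | rfl)
    · exact one_mem _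
    · exact subset_closure (Or.inr rfl)
    · exact subset_closure (Or.inl rfl)
    · exact mul_mem (subset_closure (Or.inr rfl)) (subset_closure (Or.inl rfl))

theorem mem_V_iff {v : G} : v ∈ closure ({z, x} : Set G) ↔ v = 1 ∨ v = x ∨ v = z ∨ v = x * z := by
  rw [S.closure_eq_klein]
  rfl

theorem xz_ne : x * z ≠ x ∧ x * z ≠ z ∧ x * z ≠ 1 := by
  refine ⟨fun h => S.z_ne_one ?_, fun h => S.x_ne_one ?_, fun h => S.hne ?_⟩
  · exact mul_left_cancel (h.trans (mul_one x).symm)
  · exact mul_right_cancel (h.trans (one_mul z).symm)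
  · have h1 : x * z * z = z := by rw [h, one_mul]
    rwa [mul_assoc, S.zz, mul_one] at h1

theorem mem_centralizer_V {c : G} :
    c ∈ centralizer ((closure ({z, x} : Set G) : Subgroup G) : Set G) ↔ c * z = z * c ∧ c * x = x * c := by
  constructor
  · intro h
    have h1 := Subgroup.mem_centralizer_iff.mp h z (subset_closure (Or.inl rfl))
    have h2 := Subgroup.mem_centralizer_iff.mp h x (subset_closure (Or.inr rfl))
    exact ⟨h1.symm, h2.symm⟩
  · rintro ⟨h1, h2⟩
    rw [Subgroup.mem_centralizer_iff]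
    intro v hv
    rcases S.mem_V_iff.mp hv with rfl | rfl | rfl | rfl
    · simp
    · exact h2.symm
    · exact h1.symm
    · calc x * z * c = x * (z * c) := by group
        _ = x * (c * z) := by rw [h1]
        _ = (x * c) * z := by group
        _ = c * (x * z) := by rw [← h2]; group

theorem conj_V_of_gens {w : G} (h1 : w * z * w⁻¹ ∈ closure ({z, x} : Set G)) (h2 : w * x * w⁻¹ ∈ closure ({z, x} : Set G)) :
    ∀ v ∈ closure ({z, x} : Set G), w * v * w⁻¹ ∈ closure ({z, x} : Set G) := by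
  intro v hv
  rcases S.mem_V_iff.mp hv with rfl | rfl | rfl | rfl
  · simp [one_mem]
  · exact h2
  · exact h1
  · have e : w * (x * z) * w⁻¹ = (w * x * w⁻¹) * (w * z * w⁻¹) := by group
    rw [e]
    exact mul_mem h2 h1

section

variable [Finite G]

theorem Q_conj_V {q : G} (hq : q ∈ Q) : ∀ v ∈ closure ({z, x} : Set G), q * v * q⁻¹ ∈ closure ({z, x} : Set G) := by
  apply S.conj_V_of_gens
  · rw [S.Q_comm_z hq]
    have : z * q * q⁻¹ = z := by group
    rw [this]
    exact subset_closure (Or.inl rfl)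
  · by_cases h : q * x * q⁻¹ = x
    · rw [h]; exact subset_closure (Or.inr rfl)
    · rw [conj_eq_of_ne S.hQ hq S.hxQ h]
      exact mul_mem (subset_closure (Or.inr rfl)) (subset_closure (Or.inl rfl))

theorem Q'_conj_V {q : G} (hq : q ∈ Q') : ∀ v ∈ closure ({z, x} : Set G), q * v * q⁻¹ ∈ closure ({z, x} : Set G) := by
  have h := S.symm.Q_conj_V hq
  rwa [Set.pair_comm] at h

theorem X_conj_V {w : G} (hw : w ∈ Q ⊔ Q') : ∀ v ∈ closure ({z, x} : Set G), w * v * w⁻¹ ∈ closure ({z, x} : Set G) := by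
  revert w
  apply sup_induction
  · intro r hr
    simpa using hr
  · intro a b ha hb r hr
    have e : a * b * r * (a * b)⁻¹ = a * (b * r * b⁻¹) * a⁻¹ := by group
    rw [e]
    exact ha _ (hb r hr)
  · exact fun a ha r hr => S.Q_conj_V ha r hr
  · exact fun a ha r hr => S.Q'_conj_V ha r hr

theorem X_le_normalizer : Q ⊔ Q' ≤ normalizer ((closure ({z, x} : Set G) : Subgroup G) : Set G) := by
  intro w hw
  rw [Subgroup.mem_normalizer_iff]
  intro v
  constructor
  · exact S.X_conj_V hw v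
  · intro h
    have h1 := S.X_conj_V (Subgroup.inv_mem _ hw) _ h
    have e : w⁻¹ * (w * v * w⁻¹) * w⁻¹⁻¹ = v := by group
    rwa [e] at h1

theorem C_le_normalizer : centralizer ((closure ({z, x} : Set G) : Subgroup G) : Set G) ≤
    normalizer ((closure ({z, x} : Set G) : Subgroup G) : Set G) := by
  intro c hc
  rw [Subgroup.mem_normalizer_iff]
  intro v
  constructor
  · intro h
    have : c * v = v * c := (Subgroup.mem_centralizer_iff.mp hc v h).symm
    rw [this]
    simpa using h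
  · intro h
    have h1 : c⁻¹ ∈ centralizer ((closure ({z, x} : Set G) : Subgroup G) : Set G) := inv_mem hc
    have h2 : c⁻¹ * (c * v * c⁻¹) = (c * v * c⁻¹) * c⁻¹ := (Subgroup.mem_centralizer_iff.mp h1 _ h).symm
    have e : c⁻¹ * (c * v * c⁻¹) = v * c⁻¹ := by group
    rw [e] at h2
    have h3 : v = c * v * c⁻¹ * c⁻¹ * c := by
      rw [← h2]; group
    rw [h3]
    simpa using h

end

section Data

variable {q q' : G} (hq : q ∈ Q) (hq' : q' ∈ Q') (hqx : q * x * q⁻¹ = x * z) (hqz : q * z * q⁻¹ = z)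
    (hq'z : q' * z * q'⁻¹ = z * x) (hq'x : q' * x * q'⁻¹ = x)

include hq hq' hqx hqz hq'z hq'x in
/-- The action of `X` realizes every admissible pair. -/
theorem exists_s {a b : G} (ha : a = x ∨ a = z ∨ a = x * z) (hb : b = x ∨ b = z ∨ b = x * z) (hab : a ≠ b) :
    ∃ s ∈ Q ⊔ Q', s * z * s⁻¹ = a ∧ s * x * s⁻¹ = b := by
  obtain ⟨⟨t1, t2⟩, ⟨t3, t4⟩, t5, t6⟩ := S.table hqx hqz hq'z hq'x
  have hqX : q ∈ Q ⊔ Q' := Subgroup.mem_sup_left hq
  have hq'X : q' ∈ Q ⊔ Q' := Subgroup.mem_sup_right hq'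
  have hc := S.xz_comm
  rcases ha with rfl | rfl | rfl <;> rcases hb with rfl | rfl | rfl
  · exact absurd rfl hab
  · exact ⟨q * q' * q, mul_mem (mul_mem hqX hq'X) hqX, t5, t6⟩
  · exact ⟨q * q', mul_mem hqX hq'X, t1, t2⟩
  · exact ⟨1, one_mem _, by simp, by simp⟩
  · exact absurd rfl hab
  · exact ⟨q, hqX, hqz, hqx⟩
  · exact ⟨q', hq'X, by rw [hq'z, hc], hq'x⟩
  · exact ⟨q' * q, mul_mem hq'X hqX, by rw [t3, hc], t4⟩
  · exact absurd rfl hab

variable [Finite G]

include hq hq' hqx hqz hq'z hq'x in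
/-- Every element normalizing `V` is `s c` with `s ∈ X`, `c ∈ C(V)`. -/
theorem exists_decomp {n : G} (hn : n ∈ normalizer ((closure ({z, x} : Set G) : Subgroup G) : Set G)) :
    ∃ s ∈ Q ⊔ Q', (s⁻¹ * n) * z = z * (s⁻¹ * n) ∧ (s⁻¹ * n) * x = x * (s⁻¹ * n) := by
  have hmem : ∀ v ∈ closure ({z, x} : Set G), v ≠ 1 → n * v * n⁻¹ = x ∨ n * v * n⁻¹ = z ∨ n * v * n⁻¹ = x * z := by
    intro v hv hv1
    have h1 := (Subgroup.mem_normalizer_iff.mp hn v).mp hv
    rcases S.mem_V_iff.mp h1 with h2 | h2 | h2 | h2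
    · exfalso
      apply hv1
      have h3 : n * v = n * 1 := by
        calc n * v = (n * v * n⁻¹) * n := by group
          _ = n * 1 := by rw [h2]; group
      exact mul_left_cancel h3
    · exact Or.inl h2
    · exact Or.inr (Or.inl h2)
    · exact Or.inr (Or.inr h2)
  have h1 := hmem z (subset_closure (Or.inl rfl)) S.z_ne_one
  have h2 := hmem x (subset_closure (Or.inr rfl)) S.x_ne_one
  have hne : n * z * n⁻¹ ≠ n * x * n⁻¹ := by
    intro h
    exact S.hne (mul_left_cancel (mul_right_cancel h)).symm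
  obtain ⟨s, hs, h3, h4⟩ := S.exists_s hq hq' hqx hqz hq'z hq'x h1 h2 hne
  refine ⟨s, hs, ?_, ?_⟩
  · have h5 : (s⁻¹ * n) * z * (s⁻¹ * n)⁻¹ = z := by
      calc (s⁻¹ * n) * z * (s⁻¹ * n)⁻¹ = s⁻¹ * (n * z * n⁻¹) * s := by group
        _ = s⁻¹ * (s * z * s⁻¹) * s := by rw [h3]
        _ = z := by group
    calc (s⁻¹ * n) * z = ((s⁻¹ * n) * z * (s⁻¹ * n)⁻¹) * (s⁻¹ * n) := by group
      _ = z * (s⁻¹ * n) := by rw [h5]
  · have h5 : (s⁻¹ * n) * x * (s⁻¹ * n)⁻¹ = x := by
      calc (s⁻¹ * n) * x * (s⁻¹ * n)⁻¹ = s⁻¹ * (n * x * n⁻¹) * s := by group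
        _ = s⁻¹ * (s * x * s⁻¹) * s := by rw [h4]
        _ = x := by group
    calc (s⁻¹ * n) * x = ((s⁻¹ * n) * x * (s⁻¹ * n)⁻¹) * (s⁻¹ * n) := by group
      _ = x * (s⁻¹ * n) := by rw [h5]

include hq hq' hqx hqz hq'z hq'x in
/-- `N(V) = X C(V)`. -/
theorem normalizer_eq : normalizer ((closure ({z, x} : Set G) : Subgroup G) : Set G) =
    (Q ⊔ Q') ⊔ (centralizer ({z} : Set G) ⊓ centralizer ((closure ({z, x} : Set G) : Subgroup G) : Set G)) := by
  apply le_antisymm
  · intro n hn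
    obtain ⟨s, hs, h1, h2⟩ := S.exists_decomp hq hq' hqx hqz hq'z hq'x hn
    have e : n = s * (s⁻¹ * n) := by group
    rw [e]
    refine Subgroup.mul_mem_sup hs ⟨Subgroup.mem_centralizer_iff.mpr ?_, S.mem_centralizer_V.mpr ⟨h1, h2⟩⟩
    intro y hy
    rw [Set.mem_singleton_iff.mp hy]
    exact h1.symm
  · apply sup_le S.X_le_normalizer
    exact inf_le_right.trans S.C_le_normalizer

include hq hq' hqx hqz hq'z hq'x in
/-- `|N(V) : C(V)| = 6`. -/
theorem relIndex_six : (centralizer ((closure ({z, x} : Set G) : Subgroup G) : Set G)).relIndex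
    (normalizer ((closure ({z, x} : Set G) : Subgroup G) : Set G)) = 6 := by
  classical
  set T : Finset (G × G) := {(x, z), (x, x * z), (z, x), (z, x * z), (x * z, x), (x * z, z)} with hT
  have hcard : T.card = 6 := by
    obtain ⟨h1, h2, -⟩ := S.xz_ne
    have h3 := S.hne
    rw [hT]
    rw [Finset.card_insert_of_notMem, Finset.card_insert_of_notMem, Finset.card_insert_of_notMem,
      Finset.card_insert_of_notMem, Finset.card_insert_of_notMem, Finset.card_singleton]
    all_goals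
      simp only [Finset.mem_insert, Finset.mem_singleton, Prod.mk.injEq, not_or, not_and]
      simp [h1, h2, h3, h1.symm, h2.symm, h3.symm]
  have key := relIndex_of_fun (H := normalizer ((closure ({z, x} : Set G) : Subgroup G) : Set G))
    (K := centralizer ((closure ({z, x} : Set G) : Subgroup G) : Set G))
    (fun n : G => (n * z * n⁻¹, n * x * n⁻¹)) ?_ (T : Set (G × G)) ?_
  · rw [key, Set.ncard_coe_finset, hcard]
  · intro a _ b _
    rw [S.mem_centralizer_V]
    simp only [Prod.mk.injEq]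
    constructor
    · rintro ⟨h1, h2⟩
      constructor
      · have h3 : a⁻¹ * b * z * (a⁻¹ * b)⁻¹ = z := by
          calc a⁻¹ * b * z * (a⁻¹ * b)⁻¹ = a⁻¹ * (b * z * b⁻¹) * a := by group
            _ = a⁻¹ * (a * z * a⁻¹) * a := by rw [h1]
            _ = z := by group
        calc a⁻¹ * b * z = (a⁻¹ * b * z * (a⁻¹ * b)⁻¹) * (a⁻¹ * b) := by group
          _ = z * (a⁻¹ * b) := by rw [h3]
      · have h3 : a⁻¹ * b * x * (a⁻¹ * b)⁻¹ = x := by
          calc a⁻¹ * b * x * (a⁻¹ * b)⁻¹ = a⁻¹ * (b * x * b⁻¹) * a := by group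
            _ = a⁻¹ * (a * x * a⁻¹) * a := by rw [h2]
            _ = x := by group
        calc a⁻¹ * b * x = (a⁻¹ * b * x * (a⁻¹ * b)⁻¹) * (a⁻¹ * b) := by group
          _ = x * (a⁻¹ * b) := by rw [h3]
    · rintro ⟨h1, h2⟩
      constructor
      · have h3 : b = a * (a⁻¹ * b) := by group
        calc a * z * a⁻¹ = a * (z * (a⁻¹ * b)) * (a⁻¹ * b)⁻¹ * a⁻¹ := by group
          _ = a * ((a⁻¹ * b) * z) * (a⁻¹ * b)⁻¹ * a⁻¹ := by rw [h1]
          _ = b * z * b⁻¹ := by group
      · calc a * x * a⁻¹ = a * (x * (a⁻¹ * b)) * (a⁻¹ * b)⁻¹ * a⁻¹ := by group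
          _ = a * ((a⁻¹ * b) * x) * (a⁻¹ * b)⁻¹ * a⁻¹ := by rw [h2]
          _ = b * x * b⁻¹ := by group
  · intro t
    simp only [hT, Finset.coe_insert, Finset.coe_singleton, Set.mem_insert_iff, Set.mem_singleton_iff]
    constructor
    · intro ht
      have hne := S.hne
      obtain ⟨h1, h2, -⟩ := S.xz_ne
      have hX : ∀ s ∈ Q ⊔ Q', s ∈ normalizer ((closure ({z, x} : Set G) : Subgroup G) : Set G) :=
        fun s hs => S.X_le_normalizer hs
      rcases ht with rfl | rfl | rfl | rfl | rfl | rfl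
      · obtain ⟨s, hs, h3, h4⟩ := S.exists_s hq hq' hqx hqz hq'z hq'x (a := x) (b := z) (Or.inl rfl) (Or.inr (Or.inl rfl)) hne
        exact ⟨s, hX s hs, by rw [h3, h4]⟩
      · obtain ⟨s, hs, h3, h4⟩ := S.exists_s hq hq' hqx hqz hq'z hq'x (a := x) (b := x * z) (Or.inl rfl) (Or.inr (Or.inr rfl)) h1.symm
        exact ⟨s, hX s hs, by rw [h3, h4]⟩
      · obtain ⟨s, hs, h3, h4⟩ := S.exists_s hq hq' hqx hqz hq'z hq'x (a := z) (b := x) (Or.inr (Or.inl rfl)) (Or.inl rfl) hne.symm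
        exact ⟨s, hX s hs, by rw [h3, h4]⟩
      · obtain ⟨s, hs, h3, h4⟩ := S.exists_s hq hq' hqx hqz hq'z hq'x (a := z) (b := x * z) (Or.inr (Or.inl rfl)) (Or.inr (Or.inr rfl)) h2.symm
        exact ⟨s, hX s hs, by rw [h3, h4]⟩
      · obtain ⟨s, hs, h3, h4⟩ := S.exists_s hq hq' hqx hqz hq'z hq'x (a := x * z) (b := x) (Or.inr (Or.inr rfl)) (Or.inl rfl) h1
        exact ⟨s, hX s hs, by rw [h3, h4]⟩
      · obtain ⟨s, hs, h3, h4⟩ := S.exists_s hq hq' hqx hqz hq'z hq'x (a := x * z) (b := z) (Or.inr (Or.inr rfl)) (Or.inr (Or.inl rfl)) h2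
        exact ⟨s, hX s hs, by rw [h3, h4]⟩
    · rintro ⟨n, hn, rfl⟩
      have hmem : ∀ v ∈ closure ({z, x} : Set G), v ≠ 1 → n * v * n⁻¹ = x ∨ n * v * n⁻¹ = z ∨ n * v * n⁻¹ = x * z := by
        intro v hv hv1
        have h1 := (Subgroup.mem_normalizer_iff.mp hn v).mp hv
        rcases S.mem_V_iff.mp h1 with h2 | h2 | h2 | h2
        · exfalso
          apply hv1
          have h3 : n * v = n * 1 := by
            calc n * v = (n * v * n⁻¹) * n := by group
              _ = n * 1 := by rw [h2]; group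
          exact mul_left_cancel h3
        · exact Or.inl h2
        · exact Or.inr (Or.inl h2)
        · exact Or.inr (Or.inr h2)
      have h1 := hmem z (subset_closure (Or.inl rfl)) S.z_ne_one
      have h2 := hmem x (subset_closure (Or.inr rfl)) S.x_ne_one
      have hne : n * z * n⁻¹ ≠ n * x * n⁻¹ := by
        intro h
        exact S.hne (mul_left_cancel (mul_right_cancel h)).symm
      rcases h1 with h1 | h1 | h1 <;> rcases h2 with h2 | h2 | h2
      · exact absurd (h1.trans h2.symm) hne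
      · left; rw [h1, h2]
      · right; left; rw [h1, h2]
      · right; right; left; rw [h1, h2]
      · exact absurd (h1.trans h2.symm) hne
      · right; right; right; left; rw [h1, h2]
      · right; right; right; right; left; rw [h1, h2]
      · right; right; right; right; right; rw [h1, h2]
      · exact absurd (h1.trans h2.symm) hne


/-- Large: `Q` normalizes no non-trivial subgroup of odd order. -/
theorem eq_bot_of_odd (hC : ∀ c, (∀ q ∈ Q, c * q = q * c) → c ∈ Q) (K : Subgroup G) (hK : Odd (Nat.card K))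
    (hQK : ∀ u ∈ Q, ∀ k ∈ K, u * k * u⁻¹ ∈ K) : K = ⊥ := by
  have hzz := S.zz
  have hxx := S.xx
  have h2Q : IsPGroup 2 Q := isPGroup_of_facts S.hQ
  have h2Q' : IsPGroup 2 Q' := isPGroup_of_facts S.hQ'
  -- C_K(z) = 1
  have hz1 : ∀ k ∈ K, z * k = k * z → k = 1 := by
    intro k hk hkz
    have h1 : k ∈ Q := by
      apply hC
      intro u hu
      have hc1 : k * u * k⁻¹ * u⁻¹ ∈ Q := Q.mul_mem (S.hNz k hkz.symm u hu) (Q.inv_mem hu)
      have hc2 : k * u * k⁻¹ * u⁻¹ ∈ K := by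
        have : k * u * k⁻¹ * u⁻¹ = k * (u * k⁻¹ * u⁻¹) := by group
        rw [this]
        exact K.mul_mem hk (hQK u hu _ (K.inv_mem hk))
      have h3 := eq_one_of_mem_odd_two hK h2Q hc2 hc1
      have h4 : k * u * k⁻¹ = u := mul_inv_eq_one.1 h3
      calc k * u = (k * u * k⁻¹) * k := by group
        _ = u * k := by rw [h4]
    exact eq_one_of_mem_odd_two hK h2Q hk h1
  have hzinv := Cfsg.Agent.S5421.inverts_of_fpf' hzz K (fun y hy => hQK z S.hQ.hzQ y hy) hz1
  -- C_K(x) = 1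
  have hodd : ∀ k ∈ K, k * k = 1 → k = 1 := by
    intro k hk hk2
    have h1 : k ^ Nat.card K = 1 := by
      have h0 : (⟨k, hk⟩ : K) ^ Nat.card K = 1 := pow_card_eq_one'
      rwa [Subtype.ext_iff, SubgroupClass.coe_pow, OneMemClass.coe_one] at h0
    obtain ⟨m, hm⟩ := hK
    rw [hm, pow_succ, pow_mul, pow_two, hk2, one_pow, one_mul] at h1
    exact h1
  have hx1 : ∀ k ∈ K, x * k = k * x → k = 1 := by
    intro k hk hkx
    apply hodd k hk
    have h1 : k * z * k⁻¹ * z⁻¹ ∈ Q' := Q'.mul_mem (S.hNx k hkx.symm z S.hzQ') (Q'.inv_mem S.hzQ')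
    have h2 : k * z * k⁻¹ * z⁻¹ = k * k := by
      have h3 : z * k⁻¹ * z⁻¹ = k := by
        rw [hzinv _ (K.inv_mem hk)]; group
      calc k * z * k⁻¹ * z⁻¹ = k * (z * k⁻¹ * z⁻¹) := by group
        _ = k * k := by rw [h3]
    rw [h2] at h1
    exact eq_one_of_mem_odd_two hK h2Q' (K.mul_mem hk hk) h1
  have hxinv := Cfsg.Agent.S5421.inverts_of_fpf' hxx K (fun y hy => hQK x S.hxQ y hy) hx1
  obtain ⟨q, hq, hqx, hqz⟩ := S.exists_q
  rw [Subgroup.eq_bot_iff_forall]
  intro k hk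
  have hxzk : ∀ y ∈ K, (x * z) * y = y * (x * z) := by
    intro y hy
    have h3 : (x * z) * y * (x * z)⁻¹ = y := by
      calc (x * z) * y * (x * z)⁻¹ = x * (z * y * z⁻¹) * x⁻¹ := by group
        _ = x * y⁻¹ * x⁻¹ := by rw [hzinv y hy]
        _ = y := by rw [hxinv _ (K.inv_mem hy)]; group
    calc (x * z) * y = ((x * z) * y * (x * z)⁻¹) * (x * z) := by group
      _ = y * (x * z) := by rw [h3]
  -- q⁻¹ k q commutes with x
  have hk' : q⁻¹ * k * q⁻¹⁻¹ ∈ K := hQK _ (Q.inv_mem hq) k hk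
  rw [inv_inv] at hk'
  have h5 := hx1 _ hk' (by
    have h6 := hxzk k hk
    rw [← hqx] at h6
    calc x * (q⁻¹ * k * q) = q⁻¹ * ((q * x * q⁻¹) * k) * q := by group
      _ = q⁻¹ * (k * (q * x * q⁻¹)) * q := by rw [h6]
      _ = (q⁻¹ * k * q) * x := by group)
  calc k = q * (q⁻¹ * k * q) * q⁻¹ := by group
    _ = 1 := by rw [h5]; group

end Data

end OrthoPair

end Cfsg.Agent.Lib.LargeES
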