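import Mathlib
import Cfsg.Agent.Lib.LargeES.Pair3
import Cfsg.Agent.Lib.Core.Basic

/-!
# Orthogonal pairs: `O₂(X) = R`, the centre and class of `R`
-/

set_option autoImplicit false

namespace Cfsg.Agent.Lib.LargeES

open Subgroup Cfsg Cfsg.Agent.Lib.Cl Cfsg.Agent.Lib.ThreeT Cfsg.Agent.S0444
open scoped commutatorElement

variable {G : Type*} [Group G]

set_option maxRecDepth 100000 in
theorem pgroup_normal_perm3 (M : Subgroup (Equiv.Perm (Fin 3))) (hM : M.Normal) (hP : IsPGroup 2 M) : M = ⊥ := by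
  rw [Subgroup.eq_bot_iff_forall]
  intro σ hσ
  by_contra hne
  have key : ∀ σ : Equiv.Perm (Fin 3), σ ≠ 1 →
      σ ^ 3 = 1 ∨ ∃ c : Equiv.Perm (Fin 3), σ * (c * σ * c⁻¹) ≠ 1 ∧ (σ * (c * σ * c⁻¹)) ^ 3 = 1 := by
    decide
  have hno : ∀ τ ∈ M, τ ^ 3 = 1 → τ = 1 := by
    intro τ hτ h3
    obtain ⟨k, hk⟩ := hP ⟨τ, hτ⟩
    have hk' : τ ^ (2 ^ k) = 1 := by simpa [Subtype.ext_iff] using hk
    have h1 : orderOf τ ∣ 3 := orderOf_dvd_of_pow_eq_one h3
    have h2 : orderOf τ ∣ 2 ^ k := orderOf_dvd_of_pow_eq_one hk'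
    have h4 : Nat.Coprime 3 (2 ^ k) := Nat.Coprime.pow_right k (by norm_num)
    have h5 : orderOf τ = 1 := Nat.eq_one_of_dvd_coprimes h4 h1 h2
    exact orderOf_eq_one_iff.mp h5
  rcases key σ hne with h | ⟨c, h1, h2⟩
  · exact hne (hno σ hσ h)
  · exact h1 (hno _ (M.mul_mem hσ (hM.conj_mem σ hσ c)) h2)

theorem zp_z_le (z x : G) : zpowers z ≤ closure ({z, x} : Set G) :=
  Subgroup.zpowers_le.mpr (Subgroup.subset_closure (Set.mem_insert z _))

theorem zp_x_le (z x : G) : zpowers x ≤ closure ({z, x} : Set G) :=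
  Subgroup.zpowers_le.mpr (Subgroup.subset_closure (Set.mem_insert_of_mem _ rfl))

/-- Separation: an element of `Q` commuting with `C_Q(x)` lies in `⟨x, z⟩`. -/
theorem mem_klein_of_comm [Finite G] {Q : Subgroup G} {z : G} (hQ : ExtraFacts Q z) {x : G} (hx : x * x = 1) (hxQ : x ∈ Q)
    (hz : z * z = 1) (hc : x * z = z * x) {e : G} (he : e ∈ Q)
    (hcomm : ∀ u ∈ Q, u * x = x * u → u * e = e * u) : e ∈ kleinSub x z hx hz hc := by
  by_contra hne
  have hzX : zpowers z ≤ kleinSub x z hx hz hc := by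
    rw [Subgroup.zpowers_le]
    exact Or.inr (Or.inr (Or.inl rfl))
  have hXQ : kleinSub x z hx hz hc ≤ Q := by
    rintro a (rfl | rfl | rfl | rfl)
    · exact one_mem _
    · exact hxQ
    · exact hQ.hzQ
    · exact Q.mul_mem hxQ hQ.hzQ
  obtain ⟨q, hq, hqC, hne'⟩ := exists_separate hQ hzX hXQ he hne
  apply hne'
  have hqx : q * x = x * q := (Subgroup.mem_centralizer_iff.mp hqC x (Or.inr (Or.inl rfl))).symm
  rw [hcomm q hq hqx]
  group

namespace OrthoPair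

variable {Q Q' : Subgroup G} {z x : G} (S : OrthoPair Q Q' z x)
include S

theorem inter_trivial {c : G} (h1 : c ∈ zpowers z) (h2 : c ∈ zpowers x) : c = 1 := by
  rcases S.hQ.eq_one_or h1 with h | h
  · exact h
  · rcases S.hQ'.eq_one_or h2 with h3 | h3
    · exact h3
    · exact absurd (h3.symm.trans h) S.hne

theorem E_comm {a b : G} (ha : a ∈ Q ⊓ Q') (hb : b ∈ Q ⊓ Q') : a * b = b * a := by
  have h := S.inter_trivial (S.hQ.hcom a ha.1 b hb.1) (S.hQ'.hcom a ha.2 b hb.2)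
  exact commutatorElement_eq_one_iff_mul_comm.mp h

theorem E_sq {a : G} (ha : a ∈ Q ⊓ Q') : a * a = 1 :=
  S.inter_trivial (S.hQ.hsq a ha.1) (S.hQ'.hsq a ha.2)

theorem E_elem : IsElementaryAbelian 2 (Q ⊓ Q') := by
  refine ⟨⟨⟨fun a b => Subtype.ext (S.E_comm a.2 b.2)⟩⟩, fun a ha => ?_⟩
  rw [pow_two]
  exact S.E_sq ha

theorem V_le_E {v : G} (hv : v ∈ closure ({z, x} : Set G)) : v ∈ Q ⊓ Q' := by
  have hz : z ∈ Q ⊓ Q' := ⟨S.hQ.hzQ, S.hzQ'⟩
  have hx : x ∈ Q ⊓ Q' := ⟨S.hxQ, S.hQ'.hzQ⟩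
  rcases S.mem_V_iff.mp hv with rfl | rfl | rfl | rfl
  · exact one_mem _
  · exact hx
  · exact hz
  · exact mul_mem hx hz

theorem E_eq_inf : (Q' ⊓ centralizer ({z} : Set G)) ⊓ (Q ⊓ centralizer ({x} : Set G)) = Q ⊓ Q' := by
  apply le_antisymm
  · rintro a ⟨⟨h1, -⟩, ⟨h2, -⟩⟩
    exact ⟨h2, h1⟩
  · rintro a ⟨h1, h2⟩
    refine ⟨⟨h2, ?_⟩, ⟨h1, ?_⟩⟩
    · refine Subgroup.mem_centralizer_iff.mpr ?_
      intro y hy
      rw [Set.mem_singleton_iff.mp hy]
      exact (S.Q_comm_z h1).symm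
    · refine Subgroup.mem_centralizer_iff.mpr ?_
      intro y hy
      rw [Set.mem_singleton_iff.mp hy]
      exact (S.Q'_comm_x h2).symm

theorem R_conj_E {r e : G} (hr : r ∈ Rg Q Q' z x) (he : e ∈ Q ⊓ Q') : r * e * r⁻¹ ∈ Q ⊓ Q' := by
  obtain ⟨h1, h2⟩ := S.R_comm hr
  exact ⟨S.hNz r h1 e he.1, S.hNx r h2 e he.2⟩

/-- `[P, P'] ≤ E` -/
theorem comm_P_P' {p a : G} (hp : p ∈ Q) (hpx : p * x = x * p) (ha : a ∈ Q') (haz : a * z = z * a) :
    ⁅p, a⁆ ∈ Q ⊓ Q' := by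
  constructor
  · have h := S.P_conj_of_P' ha haz (Q.inv_mem hp) (by
      calc p⁻¹ * x = p⁻¹ * (x * p) * p⁻¹ := by group
        _ = p⁻¹ * (p * x) * p⁻¹ := by rw [hpx]
        _ = x * p⁻¹ := by group)
    have e : ⁅p, a⁆ = p * (a * p⁻¹ * a⁻¹) := by
      rw [commutatorElement_def]; group
    rw [e]
    exact Q.mul_mem hp h.1
  · have e : ⁅p, a⁆ = (p * a * p⁻¹) * a⁻¹ := by
      rw [commutatorElement_def]
    rw [e]
    exact Q'.mul_mem (S.hNx p hpx a ha) (Q'.inv_mem ha)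

theorem comm_identity_left (u v w : G) : ⁅u * v, w⁆ = u * ⁅v, w⁆ * u⁻¹ * ⁅u, w⁆ := by
  simp only [commutatorElement_def]; group

theorem comm_identity_right (u v w : G) : ⁅w, u * v⁆ = ⁅w, u⁆ * (u * ⁅w, v⁆ * u⁻¹) := by
  simp only [commutatorElement_def]; group

/-- `[R, R] ≤ E` -/
theorem comm_R_mem {a b : G} (ha : a ∈ Rg Q Q' z x) (hb : b ∈ Rg Q Q' z x) : ⁅a, b⁆ ∈ Q ⊓ Q' := by
  obtain ⟨p, hp, a', ha', hpx, ha'z, rfl⟩ := S.mem_R_iff.mp ha
  obtain ⟨p₁, hp₁, a₁, ha₁, hp₁x, ha₁z, rfl⟩ := S.mem_R_iff.mp hb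
  have hpR := S.P_le_R hp hpx (Q' := Q') (z := z)
  have hp₁R := S.P_le_R hp₁ hp₁x
  have h11 : ⁅p, p₁⁆ ∈ Q ⊓ Q' := by
    have h := S.hQ.hcom p hp p₁ hp₁
    exact S.V_le_E ((zp_z_le z x) h)
  have h22 : ⁅a', a₁⁆ ∈ Q ⊓ Q' := by
    have h := S.hQ'.hcom a' ha' a₁ ha₁
    exact S.V_le_E ((zp_x_le z x) h)
  have h12 : ⁅p, a₁⁆ ∈ Q ⊓ Q' := S.comm_P_P' hp hpx ha₁ ha₁z
  have h21 : ⁅a', p₁⁆ ∈ Q ⊓ Q' := by
    have h3 := S.comm_P_P' hp₁ hp₁x ha' ha'z
    have e : ⁅a', p₁⁆ = ⁅p₁, a'⁆⁻¹ := (commutatorElement_inv _ _).symm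
    rw [e]
    exact inv_mem h3
  rw [comm_identity_left S, comm_identity_right S, comm_identity_right S]
  refine mul_mem (S.R_conj_E hpR (mul_mem h21 (S.R_conj_E hp₁R h22))) ?_
  exact mul_mem h11 (S.R_conj_E hp₁R h12)

/-- Squares of `R` lie in `E`. -/
theorem sq_R_mem {a : G} (ha : a ∈ Rg Q Q' z x) : a * a ∈ Q ⊓ Q' := by
  obtain ⟨p, hp, a', ha', hpx, ha'z, rfl⟩ := S.mem_R_iff.mp ha
  have hpR := S.P_le_R hp hpx (Q' := Q') (z := z)
  have h1 : p * p ∈ Q ⊓ Q' := S.V_le_E ((zp_z_le z x) (S.hQ.hsq p hp))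
  have h2 : a' * a' ∈ Q ⊓ Q' := S.V_le_E ((zp_x_le z x) (S.hQ'.hsq a' ha'))
  have h3 : ⁅a', p⁆ ∈ Q ⊓ Q' := by
    have h3 := S.comm_P_P' hp hpx ha' ha'z
    have e : ⁅a', p⁆ = ⁅p, a'⁆⁻¹ := (commutatorElement_inv _ _).symm
    rw [e]
    exact inv_mem h3
  have e : p * a' * (p * a') = (p * ⁅a', p⁆ * p⁻¹) * (p * p) * (a' * a') := by
    rw [commutatorElement_def]; group
  rw [e]
  exact mul_mem (mul_mem (S.R_conj_E hpR h3) h1) h2

/-- `[E, R] ≤ V`. -/
theorem comm_E_R {e r : G} (he : e ∈ Q ⊓ Q') (hr : r ∈ Rg Q Q' z x) : ⁅e, r⁆ ∈ closure ({z, x} : Set G) := by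
  obtain ⟨p, hp, a, ha, hpx, haz, rfl⟩ := S.mem_R_iff.mp hr
  rw [comm_identity_right S]
  have hzV := zp_z_le z x
  have hxV := zp_x_le z x
  have h1 : ⁅e, p⁆ ∈ closure ({z, x} : Set G) := hzV (S.hQ.hcom e he.1 p hp)
  have h2 : ⁅e, a⁆ ∈ closure ({z, x} : Set G) := hxV (S.hQ'.hcom e he.2 a ha)
  refine mul_mem h1 ?_
  have h3 := Subgroup.mem_centralizer_iff.mp ((S.mem_centralizer_V (c := p)).mpr ⟨S.Q_comm_z hp, hpx⟩) _ h2
  rw [← h3]
  have : ⁅e, a⁆ * p * p⁻¹ = ⁅e, a⁆ := by group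
  rw [this]
  exact h2


section Final

variable [Finite G]

/-- `[X, E] ≤ V`. -/
theorem comm_X_E {w : G} (hw : w ∈ Q ⊔ Q') : ∀ e ∈ Q ⊓ Q', ⁅w, e⁆ ∈ closure ({z, x} : Set G) := by
  have key : ∀ w ∈ Q ⊔ Q', w ∈ Q ⊔ Q' ∧ ∀ e ∈ Q ⊓ Q', ⁅w, e⁆ ∈ closure ({z, x} : Set G) := by
    apply sup_induction
    · exact ⟨one_mem _, fun e _ => by simp [one_mem]⟩
    · rintro a b ⟨ha, ha'⟩ ⟨hb, hb'⟩
      refine ⟨mul_mem ha hb, fun e he => ?_⟩
      rw [comm_identity_left S]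
      exact mul_mem (S.X_conj_V ha _ (hb' e he)) (ha' e he)
    · intro a ha
      exact ⟨Subgroup.mem_sup_left ha, fun e he => (zp_z_le z x) (S.hQ.hcom a ha e he.1)⟩
    · intro a ha
      exact ⟨Subgroup.mem_sup_right ha, fun e he => (zp_x_le z x) (S.hQ'.hcom a ha e he.2)⟩
  exact (key w hw).2

/-- The centre of `R` is `V`. -/
theorem center_R_le (hC : ∀ c, (∀ q ∈ Q, c * q = q * c) → c ∈ Q) {y : G} (hy : y ∈ Rg Q Q' z x)
    (hyc : ∀ r ∈ Rg Q Q' z x, r * y = y * r) : y ∈ closure ({z, x} : Set G) := by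
  have hzz := S.zz
  have hxx := S.xx
  have hc := S.xz_comm
  obtain ⟨hyz, hyx⟩ := S.R_comm hy
  obtain ⟨q, hq, hqx, hqz⟩ := S.exists_q
  have hqi : q⁻¹ * x * q = x * z := by
    have h5 : q * (x * z) * q⁻¹ = x := by
      calc q * (x * z) * q⁻¹ = (q * x * q⁻¹) * (q * z * q⁻¹) := by group
        _ = x * z * z := by rw [hqx, hqz]
        _ = x := by rw [mul_assoc, hzz, mul_one]
    calc q⁻¹ * x * q = q⁻¹ * (q * (x * z) * q⁻¹) * q := by rw [h5]
      _ = x * z := by group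
  -- t = [q, y]
  set t := q * y * q⁻¹ * y⁻¹ with ht
  have htQ : t ∈ Q := by
    have : t = q * (y * q⁻¹ * y⁻¹) := by rw [ht]; group
    rw [this]
    exact Q.mul_mem hq (S.hNz y hyz _ (Q.inv_mem hq))
  have hyq : q * y * q⁻¹ ∈ Rg Q Q' z x := S.Q_conj_R hq hy
  have htR : t ∈ Rg Q Q' z x := mul_mem hyq (inv_mem hy)
  have hqyc : ∀ r ∈ Rg Q Q' z x, r * (q * y * q⁻¹) = (q * y * q⁻¹) * r := by
    intro r hr
    have h1 := hyc (q⁻¹ * r * q) (by
      have := S.Q_conj_R (Q.inv_mem hq) hr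
      rwa [inv_inv] at this)
    calc r * (q * y * q⁻¹) = q * ((q⁻¹ * r * q) * y) * q⁻¹ := by group
      _ = q * (y * (q⁻¹ * r * q)) * q⁻¹ := by rw [h1]
      _ = (q * y * q⁻¹) * r := by group
  have htc : ∀ u ∈ Q, u * x = x * u → u * t = t * u := by
    intro u hu hux
    have huR := S.P_le_R hu hux (Q' := Q') (z := z)
    have h1 := hqyc u huR
    have h2 := hyc u huR
    have h3 : u * y⁻¹ = y⁻¹ * u := by
      calc u * y⁻¹ = y⁻¹ * (y * u) * y⁻¹ := by group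
        _ = y⁻¹ * (u * y) * y⁻¹ := by rw [h2]
        _ = y⁻¹ * u := by group
    calc u * t = (u * (q * y * q⁻¹)) * y⁻¹ := by rw [ht]; group
      _ = (q * y * q⁻¹) * (u * y⁻¹) := by rw [h1]; group
      _ = (q * y * q⁻¹) * (y⁻¹ * u) := by rw [h3]
      _ = t * u := by rw [ht]; group
  have htX := mem_klein_of_comm S.hQ hxx S.hxQ hzz hc htQ htc
  -- the square of q is fixed by y
  have hqq : q * q ∈ zpowers z := S.hQ.hsq q hq
  have hqqy : y * (q * q) = (q * q) * y := by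
    rcases S.hQ.eq_one_or hqq with h | h
    · rw [h]; group
    · rw [h]; exact hyz
  have hyqi : y * q⁻¹ * y⁻¹ = q⁻¹ * t := by rw [ht]; group
  have hsq : (q⁻¹ * t) * (q⁻¹ * t) = q⁻¹ * q⁻¹ := by
    rw [← hyqi]
    have h1 : (y * q⁻¹ * y⁻¹) * (y * q⁻¹ * y⁻¹) = y * (q * q)⁻¹ * y⁻¹ := by group
    rw [h1]
    have h2 : y * (q * q)⁻¹ = (q * q)⁻¹ * y := by
      calc y * (q * q)⁻¹ = (q * q)⁻¹ * ((q * q) * y) * (q * q)⁻¹ := by group
        _ = (q * q)⁻¹ * (y * (q * q)) * (q * q)⁻¹ := by rw [hqqy]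
        _ = (q * q)⁻¹ * y := by group
    rw [h2]; group
  have hsq2 : (q * t * q⁻¹) * t = 1 := by
    have h1 : (q⁻¹ * t) * (q⁻¹ * t) = q⁻¹ * q⁻¹ * ((q * t * q⁻¹) * t) := by group
    rw [h1] at hsq
    have h2 : q⁻¹ * q⁻¹ * ((q * t * q⁻¹) * t) = q⁻¹ * q⁻¹ * 1 := by rw [hsq, mul_one]
    exact mul_left_cancel h2
  -- t is 1 or z
  have ht1 : t = 1 ∨ t = z := by
    rcases htX with h | h | h | h
    · exact Or.inl h
    · exfalso
      rw [h, hqx] at hsq2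
      apply S.z_ne_one
      calc z = x * x * z := by rw [hxx, one_mul]
        _ = x * (z * x) := by rw [mul_assoc, hc]
        _ = x * z * x := by group
        _ = 1 := hsq2
    · exact Or.inr h
    · exfalso
      rw [h] at hsq2
      have e : q * (x * z) * q⁻¹ = x := by
        calc q * (x * z) * q⁻¹ = (q * x * q⁻¹) * (q * z * q⁻¹) := by group
          _ = x * z * z := by rw [hqx, hqz]
          _ = x := by rw [mul_assoc, hzz, mul_one]
      rw [e, ← mul_assoc, hxx, one_mul] at hsq2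
      exact S.z_ne_one hsq2
  have hsplit : ∀ u ∈ Q, u * x = x * u ∨ (q⁻¹ * u) * x = x * (q⁻¹ * u) := by
    intro u hu
    by_cases hux : u * x = x * u
    · exact Or.inl hux
    · right
      have h2 : u * x * u⁻¹ = x * z := by
        apply conj_eq_of_ne S.hQ hu S.hxQ
        intro h3
        apply hux
        calc u * x = (u * x * u⁻¹) * u := by group
          _ = x * u := by rw [h3]
      have h4 : q⁻¹ * (x * z) * q = x := by
        rw [← hqx]; group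
      calc (q⁻¹ * u) * x = q⁻¹ * (u * x * u⁻¹) * u := by group
        _ = q⁻¹ * (x * z) * q * (q⁻¹ * u) := by rw [h2]; group
        _ = x * (q⁻¹ * u) := by rw [h4]
  rcases ht1 with h | h
  · -- y centralizes Q
    have hqy : q * y = y * q := by
      rw [ht] at h
      have := mul_inv_eq_one.mp h
      calc q * y = (q * y * q⁻¹) * q := by group
        _ = y * q := by rw [this]
    have hmem : y ∈ Q := by
      apply hC
      intro u hu
      rcases hsplit u hu with h1 | h1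
      · exact (hyc u (S.P_le_R hu h1)).symm
      · have h2 := hyc (q⁻¹ * u) (S.P_le_R (Q.mul_mem (Q.inv_mem hq) hu) h1)
        have hu' : u = q * (q⁻¹ * u) := by group
        rw [hu']
        calc y * (q * (q⁻¹ * u)) = (y * q) * (q⁻¹ * u) := by group
          _ = (q * y) * (q⁻¹ * u) := by rw [hqy]
          _ = q * (y * (q⁻¹ * u)) := by group
          _ = q * ((q⁻¹ * u) * y) := by rw [h2]
          _ = q * (q⁻¹ * u) * y := by group
    have h3 : y ∈ Q ⊓ centralizer (Q : Set G) := by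
      refine ⟨hmem, Subgroup.mem_centralizer_iff.mpr fun u hu => ?_⟩
      rcases hsplit u hu with h1 | h1
      · exact hyc u (S.P_le_R hu h1)
      · have h2 := hyc (q⁻¹ * u) (S.P_le_R (Q.mul_mem (Q.inv_mem hq) hu) h1)
        have hu' : u = q * (q⁻¹ * u) := by group
        rw [hu']
        calc (q * (q⁻¹ * u)) * y = q * ((q⁻¹ * u) * y) := by group
          _ = q * (y * (q⁻¹ * u)) := by rw [h2]
          _ = (q * y) * (q⁻¹ * u) := by group
          _ = (y * q) * (q⁻¹ * u) := by rw [hqy]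
          _ = y * (q * (q⁻¹ * u)) := by group
    rw [S.hQ.hcent] at h3
    exact (zp_z_le z x) h3
  · -- y x centralizes Q
    have hyqz : q * y * q⁻¹ = z * y := by
      rw [ht] at h
      calc q * y * q⁻¹ = (q * y * q⁻¹ * y⁻¹) * y := by group
        _ = z * y := by rw [h]
    have hw : (y * x) * q = q * (y * x) := by
      have h1 : q * (y * x) * q⁻¹ = y * x := by
        calc q * (y * x) * q⁻¹ = (q * y * q⁻¹) * (q * x * q⁻¹) := by group
          _ = z * y * (x * z) := by rw [hyqz, hqx]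
          _ = z * (y * x) * z := by group
          _ = (y * x) := by
            have h2 : z * (y * x) = (y * x) * z := by
              calc z * (y * x) = (z * y) * x := by group
                _ = (y * z) * x := by rw [hyz]
                _ = y * (z * x) := by group
                _ = y * (x * z) := by rw [hc]
                _ = (y * x) * z := by group
            rw [h2, mul_assoc, hzz, mul_one]
      calc (y * x) * q = (q * (y * x) * q⁻¹) * q := by rw [h1]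
        _ = q * (y * x) := by group
    have hcomP : ∀ u ∈ Q, u * x = x * u → (y * x) * u = u * (y * x) := by
      intro u hu hux
      have h2 := hyc u (S.P_le_R hu hux)
      calc (y * x) * u = y * (x * u) := by group
        _ = y * (u * x) := by rw [hux]
        _ = (y * u) * x := by group
        _ = (u * y) * x := by rw [h2]
        _ = u * (y * x) := by group
    have hall : ∀ u ∈ Q, (y * x) * u = u * (y * x) := by
      intro u hu
      rcases hsplit u hu with h1 | h1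
      · exact hcomP u hu h1
      · have h2 := hcomP _ (Q.mul_mem (Q.inv_mem hq) hu) h1
        have hu' : u = q * (q⁻¹ * u) := by group
        rw [hu']
        calc (y * x) * (q * (q⁻¹ * u)) = ((y * x) * q) * (q⁻¹ * u) := by group
          _ = (q * (y * x)) * (q⁻¹ * u) := by rw [hw]
          _ = q * ((y * x) * (q⁻¹ * u)) := by group
          _ = q * ((q⁻¹ * u) * (y * x)) := by rw [h2]
          _ = (q * (q⁻¹ * u)) * (y * x) := by group
    have h3 : y * x ∈ Q ⊓ centralizer (Q : Set G) := by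
      refine ⟨hC _ hall, Subgroup.mem_centralizer_iff.mpr fun u hu => (hall u hu).symm⟩
    rw [S.hQ.hcent] at h3
    have h4 := (zp_z_le z x) h3
    have h5 : x ∈ closure ({z, x} : Set G) := Subgroup.subset_closure (Set.mem_insert_of_mem _ rfl)
    have h6 := mul_mem h4 h5
    rwa [mul_assoc, hxx, mul_one] at h6


section Data

variable {q q' : G} (hq : q ∈ Q) (hq' : q' ∈ Q') (hqx : q * x * q⁻¹ = x * z) (hqz : q * z * q⁻¹ = z)
    (hq'z : q' * z * q'⁻¹ = z * x) (hq'x : q' * x * q'⁻¹ = x)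

include hq hq' hqx hqz hq'z hq'x

theorem isPGroup_R : IsPGroup 2 (Rg Q Q' z x) := by
  have h1 : IsPGroup 2 (Q ⊓ centralizer ({x} : Set G) : Subgroup G) := (isPGroup_of_facts S.hQ).to_le inf_le_left
  have h2 : IsPGroup 2 (Q' ⊓ centralizer ({z} : Set G) : Subgroup G) := (isPGroup_of_facts S.hQ').to_le inf_le_left
  refine IsPGroup.to_sup_of_normal_left' h1 h2 ?_
  intro a ha
  obtain ⟨ha1, ha2⟩ := mem_inf_centralizer.mp ha
  rw [Subgroup.mem_normalizer_iff]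
  intro p
  constructor
  · intro hp
    obtain ⟨hp1, hp2⟩ := mem_inf_centralizer.mp hp
    obtain ⟨h3, h4⟩ := S.P_conj_of_P' ha1 ha2 hp1 hp2
    exact mem_inf_centralizer.mpr ⟨h3, h4⟩
  · intro hp
    obtain ⟨hp1, hp2⟩ := mem_inf_centralizer.mp hp
    have hai : a⁻¹ * z = z * a⁻¹ := by
      calc a⁻¹ * z = a⁻¹ * (z * a) * a⁻¹ := by group
        _ = a⁻¹ * (a * z) * a⁻¹ := by rw [ha2]
        _ = z * a⁻¹ := by group
    obtain ⟨h3, h4⟩ := S.P_conj_of_P' (Q'.inv_mem ha1) hai hp1 hp2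
    have e : a⁻¹ * (a * p * a⁻¹) * a⁻¹⁻¹ = p := by group
    rw [e] at h3 h4
    exact mem_inf_centralizer.mpr ⟨h3, h4⟩

/-- `R = O₂(X)`. -/
theorem eq_pCore : Rg Q Q' z x = (pCore 2 ↥(Q ⊔ Q')).map (Q ⊔ Q').subtype := by
  haveI hN := S.N_normal
  apply le_antisymm
  · intro r hr
    have hrX := S.R_le_X hr
    refine ⟨⟨r, hrX⟩, ?_, rfl⟩
    have h1 : IsPGroup 2 ((Rg Q Q' z x).subgroupOf (Q ⊔ Q')) := by
      have h2 := S.isPGroup_R hq hq' hqx hqz hq'z hq'x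
      exact h2.of_injective (Subgroup.subgroupOfEquivOfLe S.R_le_X).toMonoidHom
        (Subgroup.subgroupOfEquivOfLe S.R_le_X).injective
    exact Cfsg.Agent.Lib.Core.le_pCore hN h1 (by rwa [Subgroup.mem_subgroupOf])
  · rintro _ ⟨y, hy, rfl⟩
    obtain ⟨e⟩ := S.quot_iso hq hq' hqx hqz hq'z hq'x
    let M : Subgroup (Equiv.Perm (Fin 3)) :=
      ((pCore 2 ↥(Q ⊔ Q')).map (QuotientGroup.mk' _)).map e.toMonoidHom
    have hM : M.Normal := by
      haveI := Cfsg.Agent.Lib.Core.pCore_normal 2 ↥(Q ⊔ Q')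
      have h1 : ((pCore 2 ↥(Q ⊔ Q')).map (QuotientGroup.mk' ((Rg Q Q' z x).subgroupOf (Q ⊔ Q')))).Normal :=
        Subgroup.Normal.map inferInstance _ (QuotientGroup.mk'_surjective _)
      exact Subgroup.Normal.map h1 _ e.surjective
    have hP : IsPGroup 2 M := by
      have h1 := Cfsg.Agent.Lib.Core.pCore_isPGroup 2 ↥(Q ⊔ Q')
      exact (h1.map (QuotientGroup.mk' _)).map e.toMonoidHom
    have hM1 := pgroup_normal_perm3 M hM hP
    have h2 : e (QuotientGroup.mk y) ∈ M := ⟨_, ⟨y, hy, rfl⟩, rfl⟩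
    rw [hM1, Subgroup.mem_bot] at h2
    have h3 : (QuotientGroup.mk y : ↥(Q ⊔ Q') ⧸ (Rg Q Q' z x).subgroupOf (Q ⊔ Q')) = 1 := by
      apply e.injective
      rw [h2, map_one]
    exact S.mk_eq_one_iff.mp h3

/-- `N(V)` normalizes `X`. -/
theorem normalizer_conj_X {n w : G} (hn : n ∈ normalizer ((closure ({z, x} : Set G) : Subgroup G) : Set G))
    (hw : w ∈ Q ⊔ Q') : n * w * n⁻¹ ∈ Q ⊔ Q' := by
  obtain ⟨s, hs, h1, h2⟩ := S.exists_decomp hq hq' hqx hqz hq'z hq'x hn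
  set c := s⁻¹ * n with hc
  have hn' : n = s * c := by rw [hc]; group
  have key : ∀ w ∈ Q ⊔ Q', c * w * c⁻¹ ∈ Q ⊔ Q' := by
    apply sup_induction
    · simp [one_mem]
    · intro a b ha hb
      have e : c * (a * b) * c⁻¹ = (c * a * c⁻¹) * (c * b * c⁻¹) := by group
      rw [e]
      exact mul_mem ha hb
    · exact fun a ha => Subgroup.mem_sup_left (S.hNz c h1 a ha)
    · exact fun a ha => Subgroup.mem_sup_right (S.hNx c h2 a ha)
  have e : n * w * n⁻¹ = s * (c * w * c⁻¹) * s⁻¹ := by rw [hn']; group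
  rw [e]
  exact mul_mem (mul_mem hs (key w hw)) (inv_mem hs)

/-- `[X, C(V)] ≤ R`. -/
theorem comm_X_C {w c : G} (hw : w ∈ Q ⊔ Q')
    (hc : c ∈ centralizer ((closure ({z, x} : Set G) : Subgroup G) : Set G)) : w * c * w⁻¹ * c⁻¹ ∈ Rg Q Q' z x := by
  obtain ⟨h1, h2⟩ := S.mem_centralizer_V.mp hc
  have hcN : c ∈ normalizer ((closure ({z, x} : Set G) : Subgroup G) : Set G) := S.C_le_normalizer hc
  haveI hN := S.N_normal
  have hX : w * c * w⁻¹ * c⁻¹ ∈ Q ⊔ Q' := by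
    have e : w * c * w⁻¹ * c⁻¹ = w * (c * w⁻¹ * c⁻¹) := by group
    rw [e]
    refine mul_mem hw ?_
    exact S.normalizer_conj_X hq hq' hqx hqz hq'z hq'x hcN (inv_mem hw)
  have hC : w * c * w⁻¹ * c⁻¹ ∈ centralizer ((closure ({z, x} : Set G) : Subgroup G) : Set G) := by
    refine mul_mem ?_ (inv_mem hc)
    rw [Subgroup.mem_centralizer_iff]
    intro v hv
    have h3 := S.X_conj_V (inv_mem hw) v hv
    rw [inv_inv] at h3
    have h4 := Subgroup.mem_centralizer_iff.mp hc _ h3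
    calc v * (w * c * w⁻¹) = w * ((w⁻¹ * v * w) * c) * w⁻¹ := by group
      _ = w * (c * (w⁻¹ * v * w)) * w⁻¹ := by rw [h4]
      _ = (w * c * w⁻¹) * v := by group
  obtain ⟨h5, h6⟩ := S.mem_centralizer_V.mp hC
  exact S.mem_R_of_comm hq hq' hqx hqz hq'z hq'x hX h5 h6

end Data

end Final

end OrthoPair

end Cfsg.Agent.Lib.LargeES
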