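import Mathlib
import Cfsg.Agent.Lib.LargeES.Pair4
import Cfsg.Prelude.Def_MonsterType

/-!
# From the hypotheses of large extraspecial to an orthogonal pair
-/

set_option autoImplicit false

namespace Cfsg.Agent.Lib.LargeES

open Subgroup Cfsg Cfsg.Agent.Lib.Cl Cfsg.Agent.Lib.ThreeT Cfsg.Agent.S0444
open scoped commutatorElement

variable {G : Type*} [Group G] [Finite G]

theorem exists_center_gen {Q : Subgroup G} (hE : IsExtraspecial 2 ↥Q) :
    ∃ z : G, orderOf z = 2 ∧ (center ↥Q).map Q.subtype = zpowers z := by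
  obtain ⟨⟨hp, hfr, hcomQ⟩, hcard⟩ := hE
  obtain ⟨y, hy1, hy⟩ := (Nat.card_eq_two_iff' (1 : center ↥Q)).mp hcard
  have hy1' : ((y : ↥Q) : G) ≠ 1 := fun h => hy1 (Subtype.ext (Subtype.ext h))
  refine ⟨((y : ↥Q) : G), ?_, ?_⟩
  · have h2 : (y : ↥Q) ^ 2 = 1 := by
      have h3 : y ^ 2 = 1 := by
        have := pow_card_eq_one' (x := y)
        rwa [hcard] at this
      exact congrArg Subtype.val h3
    have h4 : ((y : ↥Q) : G) ^ 2 = 1 := congrArg Subtype.val h2
    exact orderOf_eq_prime h4 hy1'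
  · apply le_antisymm
    · rintro _ ⟨c, hc, rfl⟩
      by_cases hc1 : (⟨c, hc⟩ : center ↥Q) = 1
      · have : c = 1 := congrArg Subtype.val hc1
        rw [this]; exact one_mem _
      · have := hy _ hc1
        have h2 : c = y := by
          rw [← this]
        rw [h2]; exact mem_zpowers _
    · rw [Subgroup.zpowers_le]
      exact ⟨y, y.2, rfl⟩

theorem facts_of_center {Q : Subgroup G} {z : G} (hE : IsExtraspecial 2 ↥Q) (hz2 : orderOf z = 2)
    (hZ : (center ↥Q).map Q.subtype = zpowers z) : ExtraFacts Q z := by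
  have hz : z ∈ (center ↥Q).map Q.subtype := by rw [hZ]; exact mem_zpowers z
  obtain ⟨c, hc, rfl⟩ := hz
  have := extraFacts_of_map (MonoidHom.id G) Function.injective_id Q hE (z := c) hz2
    ⟨c, c.2, rfl⟩ (by
      rintro _ ⟨q, hq, rfl⟩
      have := Subgroup.mem_center_iff.mp hc ⟨q, hq⟩
      exact congrArg Subtype.val this)
  simpa using this

/-- The elementwise form of the first three conditions. -/
structure LargeHyp (Q : Subgroup G) (z : G) : Prop where
  hQ : ExtraFacts Q z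
  hN : ∀ c, c * z = z * c → ∀ q ∈ Q, c * q * c⁻¹ ∈ Q
  hC : ∀ c, (∀ q ∈ Q, c * q = q * c) → c ∈ Q

theorem largeHyp_of {Q : Subgroup G} {z : G} (hE : IsExtraspecial 2 ↥Q) (hz2 : orderOf z = 2)
    (hZ : (center ↥Q).map Q.subtype = zpowers z)
    (hL2 : centralizer (Q : Set G) = (center ↥Q).map Q.subtype)
    (hL3 : centralizer (((center ↥Q).map Q.subtype : Subgroup G) : Set G) ≤ normalizer (Q : Set G)) :
    LargeHyp Q z := by
  have hf := facts_of_center hE hz2 hZ
  refine ⟨hf, ?_, ?_⟩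
  · intro c hc q hq
    have h1 : c ∈ centralizer (((center ↥Q).map Q.subtype : Subgroup G) : Set G) := by
      rw [hZ, Subgroup.mem_centralizer_iff]
      intro y hy
      rcases hf.eq_one_or hy with rfl | rfl
      · simp
      · exact hc.symm
    exact (Subgroup.mem_normalizer_iff.mp (hL3 h1) q).mp hq
  · intro c hc
    have h1 : c ∈ centralizer (Q : Set G) := by
      rw [Subgroup.mem_centralizer_iff]
      intro q hq
      exact (hc q hq).symm
    rw [hL2] at h1
    rw [hZ] at h1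
    exact hf.zpowers_le h1

namespace LargeHyp

variable {Q : Subgroup G} {z : G} (L : LargeHyp Q z)
include L

/-- Two elements sending `z` to the same involution conjugate `Q` to the same group. -/
theorem conj_mem_of_eq {g h q : G} (hgh : h * z * h⁻¹ = g * z * g⁻¹) (hq : q ∈ Q) :
    h * q * h⁻¹ ∈ Q.map (MulAut.conj g).toMonoidHom := by
  rw [mem_map_conj_iff]
  have h1 : (g⁻¹ * h) * z = z * (g⁻¹ * h) := by
    have h2 : h * z = g * z * g⁻¹ * h := by rw [← hgh]; group
    calc (g⁻¹ * h) * z = g⁻¹ * (h * z) := by group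
      _ = g⁻¹ * (g * z * g⁻¹ * h) := by rw [h2]
      _ = z * (g⁻¹ * h) := by group
  have h3 := L.hN _ h1 _ hq
  have e : g⁻¹ * (h * q * h⁻¹) * g = g⁻¹ * h * q * (g⁻¹ * h)⁻¹ := by group
  rwa [e]

/-- The orthogonal pair attached to `x = z^g ∈ Q`, `|Q| > 8`. -/
theorem pair (hcard : 8 < Nat.card Q) {g : G} (hxQ : g * z * g⁻¹ ∈ Q) (hne : g * z * g⁻¹ ≠ z) :
    OrthoPair Q (Q.map (MulAut.conj g).toMonoidHom) z (g * z * g⁻¹) := by
  refine ⟨L.hQ, ExtraFacts_conj L.hQ g, hxQ, ortho_of_card L.hQ L.hN L.hC hcard hxQ, hne, L.hN, ?_, ?_, ?_⟩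
  · intro c hc q hq
    obtain ⟨q₀, hq₀, rfl⟩ := hq
    simp only [MulEquiv.coe_toMonoidHom, MulAut.conj_apply]
    have e : c * (g * q₀ * g⁻¹) * c⁻¹ = (c * g) * q₀ * (c * g)⁻¹ := by group
    rw [e]
    apply L.conj_mem_of_eq _ hq₀
    calc (c * g) * z * (c * g)⁻¹ = c * (g * z * g⁻¹) * c⁻¹ := by group
      _ = g * z * g⁻¹ := by rw [hc]; group
  · intro h hh q hq
    exact L.conj_mem_of_eq hh hq
  · intro h hh q hq
    obtain ⟨q₀, hq₀, rfl⟩ := hq
    simp only [MulEquiv.coe_toMonoidHom, MulAut.conj_apply]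
    have e : h * (g * q₀ * g⁻¹) * h⁻¹ = (h * g) * q₀ * (h * g)⁻¹ := by group
    rw [e]
    refine L.hN _ ?_ q₀ hq₀
    have h1 : (h * g) * z * (h * g)⁻¹ = z := by
      calc (h * g) * z * (h * g)⁻¹ = h * (g * z * g⁻¹) * h⁻¹ := by group
        _ = z := hh
    calc (h * g) * z = ((h * g) * z * (h * g)⁻¹) * (h * g) := by group
      _ = z * (h * g) := by rw [h1]

end LargeHyp

end Cfsg.Agent.Lib.LargeES
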