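import Mathlib
import Cfsg.Agent.Lib.LargeES.Mk
import Cfsg.Agent.Lib.Core.PFrattini
import Cfsg.Agent.Lib.Transfer.Frat
import Cfsg.Agent.Lib.Hall.CoprimeCommutator

/-!
# Extraspecial subgroups; coprime action on a large extraspecial 2-group
-/

set_option autoImplicit false

namespace Cfsg.Agent.Lib.LargeES

open Subgroup Cfsg Cfsg.Agent.Lib.Cl Cfsg.Agent.Lib.ThreeT
open scoped commutatorElement

/-- Elementwise criterion for extraspecial 2-groups. -/
theorem isExtraspecial_two_of {P : Type*} [Group P] [Finite P] (z : P) (hz : orderOf z = 2)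
    (hcen : ∀ y, (∀ u, y * u = u * y) → y ∈ zpowers z) (hzc : ∀ u, z * u = u * z)
    (hsq : ∀ a : P, a * a ∈ zpowers z) (hcom : ∀ a b : P, ⁅a, b⁆ ∈ zpowers z) (hna : ∃ a b : P, a * b ≠ b * a) :
    IsExtraspecial 2 P := by
  haveI : Fact (Nat.Prime 2) := ⟨Nat.prime_two⟩
  have hzz : z * z = 1 := by
    have := pow_orderOf_eq_one z
    rwa [hz, pow_two] at this
  have hone : ∀ c ∈ zpowers z, c = 1 ∨ c = z := by
    rintro _ ⟨k, rfl⟩
    have h2 := Int.emod_two_eq_zero_or_one k
    simp only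
    rw [← Int.emod_add_mul_ediv k 2, zpow_add, zpow_mul]
    have h3 : z ^ (2 : ℤ) = 1 := by
      rw [zpow_ofNat, pow_two, hzz]
    rw [h3, one_zpow, mul_one]
    rcases h2 with h | h <;> rw [h] <;> simp
  have hP : IsPGroup 2 P := by
    intro g
    refine ⟨2, ?_⟩
    have e : g ^ (2 ^ 2) = g * g * (g * g) := by
      rw [show (2 : ℕ) ^ 2 = 2 + 2 from rfl, pow_add, pow_two]
    rw [e]
    rcases hone _ (hsq g) with h1 | h1
    · rw [h1, one_mul]
    · rw [h1, hzz]
  have hcenter : center P = zpowers z := by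
    apply le_antisymm
    · intro y hy
      exact hcen y fun u => (Subgroup.mem_center_iff.mp hy u).symm
    · rw [Subgroup.zpowers_le, Subgroup.mem_center_iff]
      exact fun g => (hzc g).symm
  have hcomm : commutator P = zpowers z := by
    apply le_antisymm
    · rw [commutator_eq_closure, Subgroup.closure_le]
      rintro _ ⟨a, b, rfl⟩
      exact hcom a b
    · rw [Subgroup.zpowers_le]
      obtain ⟨a, b, hab⟩ := hna
      have h1 : ⁅a, b⁆ ≠ 1 := fun h => hab (commutatorElement_eq_one_iff_mul_comm.mp h)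
      rcases hone _ (hcom a b) with h2 | h2
      · exact absurd h2 h1
      · rw [← h2]
        exact Subgroup.commutator_mem_commutator (mem_top _) (mem_top _)
  have hfr : frattini P = zpowers z := by
    apply le_antisymm
    · apply Cfsg.Agent.Lib.Core.frattini_le_of_elementary 2 (zpowers z) (le_of_eq hcomm)
      intro x
      rw [pow_two]
      exact hsq x
    · rw [← hcomm]
      exact Cfsg.Agent.Lib.Transfer.commutator_le_frattini hP
  refine ⟨⟨hP, hfr.trans hcenter.symm, hcomm.trans hcenter.symm⟩, ?_⟩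
  rw [hcenter, Nat.card_zpowers, hz]

variable {G : Type*} [Group G] [Finite G]

/-- A non-abelian subgroup of an extraspecial group containing the centre whose centre is the centre of `Q`. -/
theorem sub_extraspecial {Q Y : Subgroup G} {z : G} (hQ : ExtraFacts Q z) (hYQ : Y ≤ Q) (hzY : z ∈ Y)
    (hcen : ∀ y ∈ Y, (∀ u ∈ Y, y * u = u * y) → y ∈ zpowers z) (hna : ∃ a ∈ Y, ∃ b ∈ Y, a * b ≠ b * a) :
    IsExtraspecial 2 ↥Y := by
  have hzpow : ∀ c : G, c ∈ zpowers z → ∀ (hc : c ∈ Y), (⟨c, hc⟩ : ↥Y) ∈ zpowers (⟨z, hzY⟩ : ↥Y) := by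
    intro c hc hc'
    rcases hQ.eq_one_or hc with rfl | rfl
    · exact one_mem _
    · exact mem_zpowers _
  apply isExtraspecial_two_of (⟨z, hzY⟩ : ↥Y)
  · rw [← hQ.hz]
    exact Subgroup.orderOf_mk z hzY
  · rintro ⟨y, hy⟩ h
    apply hzpow y (hcen y hy _) hy
    intro u hu
    exact congrArg Subtype.val (h ⟨u, hu⟩)
  · rintro ⟨u, hu⟩
    exact Subtype.ext (hQ.central (mem_zpowers z) (hYQ hu))
  · rintro ⟨a, ha⟩
    exact hzpow _ (hQ.hsq a (hYQ ha)) (Y.mul_mem ha ha)
  · rintro ⟨a, ha⟩ ⟨b, hb⟩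
    exact hzpow _ (hQ.hcom a (hYQ ha) b (hYQ hb)) (Subgroup.commutator_mem_commutator (G := G) (H₁ := Y) (H₂ := Y) ha hb |> fun _ => by
      rw [commutatorElement_def]
      exact Y.mul_mem (Y.mul_mem (Y.mul_mem ha hb) (Y.inv_mem ha)) (Y.inv_mem hb))
  · obtain ⟨a, ha, b, hb, hab⟩ := hna
    refine ⟨⟨a, ha⟩, ⟨b, hb⟩, fun h => hab (congrArg Subtype.val h)⟩

/-- Coprime action on a large extraspecial group. -/
theorem coprime_decomp {Q A : Subgroup G} {z : G} (L : LargeHyp Q z) (hA : A ≤ normalizer (Q : Set G))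
    (hAodd : Odd (Nat.card ↥A)) (hA1 : A ≠ ⊥) :
    (Q ⊓ centralizer (A : Set G)) ⊔ ⁅Q, A⁆ = Q ∧ (∀ x ∈ Q ⊓ centralizer (A : Set G), ∀ y ∈ ⁅Q, A⁆, x * y = y * x) ∧
      IsExtraspecial 2 ↥⁅Q, A⁆ ∧ (Q ⊓ centralizer (A : Set G) = zpowers z ∨ IsExtraspecial 2 ↥(Q ⊓ centralizer (A : Set G))) := by
  haveI : Fact (Nat.Prime 2) := ⟨Nat.prime_two⟩
  have hQ := L.hQ
  have hP : IsPGroup 2 Q := isPGroup_of_facts hQ
  have hcop : (Nat.card A).Coprime (Nat.card Q) := by
    obtain ⟨n, hn⟩ := IsPGroup.iff_card.mp hP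
    rw [hn]
    exact Nat.Coprime.pow_right n (Nat.coprime_two_right.mpr hAodd)
  have hsolv : Group.IsSolvable A ∨ Group.IsSolvable Q := by
    right
    haveI := hP.isNilpotent
    infer_instance
  have hsup := Cfsg.Agent.Lib.Hall.commutator_sup_centralizer A Q hA hcop hsolv
  have hcc := Cfsg.Agent.Lib.Hall.commutator_commutator_eq A Q hA hcop hsolv
  have hYQ : ⁅Q, A⁆ ≤ Q := Cfsg.Agent.Lib.Hall.commutator_le_of_normalizes hA
  -- `A` fixes `z`
  have haz : ∀ a ∈ A, a * z = z * a := by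
    intro a ha
    have h1 : a * z * a⁻¹ ∈ Q := (Subgroup.mem_normalizer_iff.mp (hA ha) z).mp hQ.hzQ
    have h2 : a * z * a⁻¹ ∈ zpowers z := by
      apply hQ.mem_zpowers_of_comm h1
      intro q hq
      have h3 : a⁻¹ * q * a ∈ Q := by
        have := (Subgroup.mem_normalizer_iff.mp (hA (A.inv_mem ha)) q).mp hq
        rwa [inv_inv] at this
      have h4 := hQ.central (mem_zpowers z) h3
      rw [commutatorElement_eq_one_iff_mul_comm]
      calc a * z * a⁻¹ * q = a * (z * (a⁻¹ * q * a)) * a⁻¹ := by group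
        _ = a * ((a⁻¹ * q * a) * z) * a⁻¹ := by rw [h4]
        _ = q * (a * z * a⁻¹) := by group
    have h5 : a * z * a⁻¹ = z := by
      rcases hQ.eq_one_or h2 with h3 | h3
      · exfalso
        apply hQ.z_ne_one
        have e : z = a⁻¹ * (a * z * a⁻¹) * a := by group
        rw [e, h3]; group
      · exact h3
    calc a * z = (a * z * a⁻¹) * a := by group
      _ = z * a := by rw [h5]
  -- commuting
  have hcomm : ∀ x ∈ Q ⊓ centralizer (A : Set G), ∀ y ∈ ⁅Q, A⁆, x * y = y * x := by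
    intro c hc y hy
    have hle : ⁅Q, A⁆ ≤ centralizer ({c} : Set G) := by
      rw [Subgroup.commutator_le]
      intro q hq a ha
      have hcQ : c ∈ Q := hc.1
      have hca : c * a = a * c := (Subgroup.mem_centralizer_iff.mp hc.2 a ha).symm
      have hu : a * q⁻¹ * a⁻¹ ∈ Q := (Subgroup.mem_normalizer_iff.mp (hA ha) _).mp (Q.inv_mem hq)
      have e : ⁅q, a⁆ = q * (a * q⁻¹ * a⁻¹) := by
        rw [commutatorElement_def]; group
      rw [e]
      refine Subgroup.mem_centralizer_iff.mpr ?_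
      intro w hw
      rw [Set.mem_singleton_iff.mp hw]
      have h1 := hQ.comm_mul_left hq hu hcQ
      have h2 : ⁅a * q⁻¹ * a⁻¹, c⁆ = ⁅q⁻¹, c⁆ := by
        have h3 : a * c * a⁻¹ = c := by rw [← hca]; group
        conv_lhs => rw [← h3]
        exact comm_conj_eq hQ (haz a ha) (Q.inv_mem hq) hcQ
      rw [h2, comm_inv_left hQ hq hcQ, mul_inv_cancel] at h1
      exact (commutatorElement_eq_one_iff_mul_comm.mp h1).symm
    exact (Subgroup.mem_centralizer_iff.mp (hle hy) c rfl)
  have hsup' : (Q ⊓ centralizer (A : Set G)) ⊔ ⁅Q, A⁆ = Q := by rw [sup_comm]; exact hsup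
  have hcentral : ∀ c, (∀ u ∈ Q ⊓ centralizer (A : Set G), c * u = u * c) → (∀ u ∈ ⁅Q, A⁆, c * u = u * c) → c ∈ Q →
      c ∈ zpowers z := by
    intro c h1 h2 hcQ
    apply hQ.mem_zpowers_of_comm hcQ
    intro q hq
    have hle : Q ≤ centralizer ({c} : Set G) := by
      rw [← hsup']
      apply sup_le
      · intro u hu
        refine Subgroup.mem_centralizer_iff.mpr ?_
        intro w hw
        rw [Set.mem_singleton_iff.mp hw]
        exact h1 u hu
      · intro u hu
        refine Subgroup.mem_centralizer_iff.mpr ?_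
        intro w hw
        rw [Set.mem_singleton_iff.mp hw]
        exact h2 u hu
    have h3 := Subgroup.mem_centralizer_iff.mp (hle hq) c rfl
    exact commutatorElement_eq_one_iff_mul_comm.mpr h3
  -- `[Q, A]` is not abelian
  have hna : ∃ a ∈ ⁅Q, A⁆, ∃ b ∈ ⁅Q, A⁆, a * b ≠ b * a := by
    by_contra hab
    push Not at hab
    have hle : ⁅Q, A⁆ ≤ zpowers z := by
      intro y hy
      exact hcentral y (fun u hu => (hcomm u hu y hy).symm) (fun u hu => hab y hy u hu) (hYQ hy)
    have h1 : ⁅⁅Q, A⁆, A⁆ = ⊥ := by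
      rw [eq_bot_iff, Subgroup.commutator_le]
      intro y hy a ha
      have hya : y * a = a * y := by
        rcases hQ.eq_one_or (hle hy) with rfl | rfl
        · simp
        · exact (haz a ha).symm
      rw [commutatorElement_eq_one_iff_mul_comm.mpr hya]
      exact one_mem _
    rw [hcc] at h1
    apply hA1
    rw [Subgroup.eq_bot_iff_forall]
    intro a ha
    have hmem : a ∈ Q := by
      apply L.hC
      intro q hq
      have h2 : ⁅q, a⁆ ∈ ⁅Q, A⁆ := Subgroup.commutator_mem_commutator hq ha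
      rw [h1, Subgroup.mem_bot] at h2
      exact (commutatorElement_eq_one_iff_mul_comm.mp h2).symm
    exact eq_one_of_mem_odd_two hAodd hP ha hmem
  have hzY : z ∈ ⁅Q, A⁆ := by
    obtain ⟨a, ha, b, hb, hab⟩ := hna
    have h1 : ⁅a, b⁆ ≠ 1 := fun h => hab (commutatorElement_eq_one_iff_mul_comm.mp h)
    have h2 : ⁅a, b⁆ ∈ ⁅Q, A⁆ := by
      rw [commutatorElement_def]
      exact mul_mem (mul_mem (mul_mem ha hb) (inv_mem ha)) (inv_mem hb)
    rcases hQ.eq_one_or (hQ.hcom a (hYQ ha) b (hYQ hb)) with h3 | h3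
    · exact absurd h3 h1
    · rwa [h3] at h2
  have hzC : z ∈ Q ⊓ centralizer (A : Set G) := ⟨hQ.hzQ, Subgroup.mem_centralizer_iff.mpr fun a ha => haz a ha⟩
  refine ⟨hsup', hcomm, ?_, ?_⟩
  · apply sub_extraspecial hQ hYQ hzY _ hna
    intro y hy h
    exact hcentral y (fun u hu => (hcomm u hu y hy).symm) h (hYQ hy)
  · by_cases hab : ∃ a ∈ Q ⊓ centralizer (A : Set G), ∃ b ∈ Q ⊓ centralizer (A : Set G), a * b ≠ b * a
    · right
      apply sub_extraspecial hQ inf_le_left hzC _ hab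
      intro y hy h
      exact hcentral y h (fun u hu => hcomm y hy u hu) hy.1
    · left
      push Not at hab
      apply le_antisymm
      · intro y hy
        exact hcentral y (fun u hu => hab y hy u hu) (fun u hu => hcomm y hy u hu) hy.1
      · rw [Subgroup.zpowers_le]
        exact hzC

end Cfsg.Agent.Lib.LargeES
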