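import Mathlib
import Cfsg.Agent.S5421
import Cfsg.Agent.Lib.LargeES.Sub
import Cfsg.Agent.Lib.FStar.GenFitting
import Cfsg.Agent.Lib.Char.Product
import Cfsg.Agent.Lib.Core.Frattini

/-!
# Involutions whose centralizer has an extraspecial generalized Fitting subgroup

The hypotheses of `LargeHyp`, the Sylow `2`-subgroups above `Q`, simplicity criteria.
-/

set_option autoImplicit false

namespace Cfsg.Agent.Lib.LargeES

open Subgroup Cfsg Cfsg.Agent.Lib.Cl Cfsg.Agent.Lib.ThreeT
open scoped commutatorElement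

/-- Extraspecial `2`-groups are preserved by isomorphisms. -/
theorem isExtraspecial_congr {A B : Type*} [Group A] [Group B] [Finite A] [Finite B] (e : A ≃* B)
    (h : IsExtraspecial 2 A) : IsExtraspecial 2 B := by
  have : Fact (Nat.Prime 2) := ⟨Nat.prime_two⟩
  obtain ⟨⟨hp, hfr, hcomQ⟩, hcard⟩ := id h
  obtain ⟨y, hy1, hy⟩ := (Nat.card_eq_two_iff' (1 : center A)).mp hcard
  have hcen : ∀ c ∈ center A, c = 1 ∨ c = (y : A) := by
    intro c hc
    by_cases hc1 : (⟨c, hc⟩ : center A) = 1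
    · exact Or.inl (congrArg Subtype.val hc1)
    · right
      have := hy _ hc1
      exact (congrArg Subtype.val this.symm).symm ▸ rfl
  have hy1' : (y : A) ≠ 1 := fun h => hy1 (Subtype.ext h)
  have hyz : (y : A) * (y : A) = 1 := by
    have h3 : y ^ 2 = 1 := by
      have := pow_card_eq_one' (x := y)
      rwa [hcard] at this
    have := congrArg Subtype.val h3
    rw [pow_two] at this
    exact this
  have hez : e y * e y = 1 := by rw [← map_mul, hyz, map_one]
  have hez1 : e y ≠ 1 := fun h => hy1' (by simpa using h)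
  have hzp : ∀ c ∈ center A, e c ∈ zpowers (e (y : A)) := by
    intro c hc
    rcases hcen c hc with rfl | rfl
    · rw [map_one]; exact one_mem _
    · exact mem_zpowers _
  apply isExtraspecial_two_of (e (y : A))
  · exact orderOf_eq_prime (by rw [pow_two, hez]) hez1
  · intro u hu
    have h1 := hzp (e.symm u) (by
      rw [Subgroup.mem_center_iff]
      intro g
      apply e.injective
      simp only [map_mul, MulEquiv.apply_symm_apply]
      exact (hu (e g)).symm)
    simpa using h1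
  · intro u
    have : (y : A) * e.symm u = e.symm u * (y : A) := (Subgroup.mem_center_iff.mp y.2 _).symm
    have h2 := congrArg e this
    simpa using h2
  · intro a
    have h1 := sq_mem_frattini_two hp (e.symm a)
    rw [hfr] at h1
    have h2 := hzp _ h1
    simpa [pow_two] using h2
  · intro a b
    have h1 : ⁅e.symm a, e.symm b⁆ ∈ commutator A := Subgroup.commutator_mem_commutator (mem_top _) (mem_top _)
    rw [hcomQ] at h1
    have h2 := hzp _ h1
    simpa [commutatorElement_def] using h2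
  · by_contra hcon
    push Not at hcon
    have h1 : commutator A = ⊥ := by
      rw [commutator_eq_closure, Subgroup.closure_eq_bot_iff]
      rintro _ ⟨a, b, rfl⟩
      have h2 : e a * e b = e b * e a := hcon _ _
      have h3 : a * b = b * a := e.injective (by simpa using h2)
      exact commutatorElement_eq_one_iff_mul_comm.mpr h3
    rw [hcomQ] at h1
    have hy2 : (y : A) ∈ (⊥ : Subgroup A) := h1 ▸ y.2
    exact hy1' (Subgroup.mem_bot.mp hy2)

variable {G : Type*} [Group G] [Finite G]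

theorem isExtraspecial_map_subtype {C : Subgroup G} {Q : Subgroup C} (h : IsExtraspecial 2 ↥Q) :
    IsExtraspecial 2 ↥(Q.map C.subtype) :=
  isExtraspecial_congr (Q.equivMapOfInjective C.subtype C.subtype_injective) h

theorem fstar_facts {z : G} (hz : orderOf z = 2) {Q : Subgroup G}
    (hF : (Cfsg.generalizedFittingSubgroup ↥(centralizer ({z} : Set G))).map
      (centralizer ({z} : Set G)).subtype = Q)
    (hE : IsExtraspecial 2 ↥Q) :
    LargeHyp Q z ∧ (center ↥Q).map Q.subtype = zpowers z := by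
  set C := centralizer ({z} : Set G) with hC
  have hmemC : ∀ c : G, c * z = z * c → c ∈ C := fun c hc => by
    rw [hC, Subgroup.mem_centralizer_singleton_iff]
    exact hc
  have hCmem : ∀ c ∈ C, c * z = z * c := fun c hc => by
    rw [hC, Subgroup.mem_centralizer_singleton_iff] at hc
    exact hc
  have hzC : z ∈ C := hmemC z rfl
  have hQC : Q ≤ C := by
    rw [← hF]
    rintro _ ⟨y, -, rfl⟩
    exact y.2
  have hcen : ∀ c : G, c ∈ C → (∀ q ∈ Q, c * q = q * c) → c ∈ Q := by
    intro c hc h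
    have h1 : (⟨c, hc⟩ : C) ∈ centralizer (generalizedFittingSubgroup C : Set C) := by
      rw [Subgroup.mem_centralizer_iff]
      intro y hy
      apply Subtype.ext
      exact (h y.1 (hF ▸ ⟨y, hy, rfl⟩)).symm
    have h2 := Cfsg.Agent.Lib.FStar.centralizer_gen_le h1
    rw [← hF]
    exact ⟨_, h2, rfl⟩
  have hzQ : z ∈ Q := hcen z hzC fun q hq => (hCmem q (hQC hq)).symm
  have hZ : (center ↥Q).map Q.subtype = zpowers z := by
    symm
    apply Subgroup.eq_of_le_of_card_ge
    · rw [Subgroup.zpowers_le]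
      refine ⟨⟨z, hzQ⟩, ?_, rfl⟩
      apply Subgroup.mem_center_iff.mpr
      rintro ⟨q, hq⟩
      exact Subtype.ext (hCmem q (hQC hq))
    · rw [Nat.card_zpowers, hz, Subgroup.card_map_of_injective Q.subtype_injective]
      exact hE.2.le
  have hf := facts_of_center hE hz hZ
  refine ⟨⟨hf, ?_, ?_⟩, hZ⟩
  · intro c hc q hq
    rw [← hF] at hq ⊢
    obtain ⟨y, hy, rfl⟩ := hq
    have hn : (generalizedFittingSubgroup C).Normal := inferInstance
    exact ⟨_, hn.conj_mem y hy ⟨c, hmemC c hc⟩, rfl⟩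
  · intro c hc
    exact hcen c (hmemC c (hc z hzQ)) hc

namespace LargeHyp

variable {Q : Subgroup G} {z : G} (L : LargeHyp Q z)
include L

theorem sq_z : z * z = 1 := by
  have := pow_orderOf_eq_one z
  rwa [L.hQ.hz, pow_two] at this

/-- A Sylow `2`-subgroup above `Q`: its centre is `⟨z⟩`. -/
theorem exists_sylow : ∃ S : Sylow 2 G, Q ≤ S ∧ (∀ c ∈ (S : Subgroup G), (∀ u ∈ (S : Subgroup G), c * u = u * c) → c = 1 ∨ c = z)
    ∧ (∀ u ∈ (S : Subgroup G), u * z = z * u) ∧ (∀ n ∈ normalizer ((S : Subgroup G) : Set G), n * z = z * n) := by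
  have : Fact (Nat.Prime 2) := ⟨Nat.prime_two⟩
  obtain ⟨S, hS⟩ := (isPGroup_of_facts L.hQ).exists_le_sylow
  have hcZ : ∀ c ∈ (S : Subgroup G), (∀ u ∈ (S : Subgroup G), c * u = u * c) → c = 1 ∨ c = z := by
    intro c _ h
    have h1 : c ∈ Q := L.hC c fun q hq => h q (hS hq)
    have h2 : c ∈ Q ⊓ centralizer (Q : Set G) := ⟨h1, Subgroup.mem_centralizer_iff.mpr fun q hq => (h q (hS hq)).symm⟩
    rw [L.hQ.hcent] at h2
    exact L.hQ.eq_one_or h2
  have hpS : IsPGroup 2 ↥(S : Subgroup G) := S.isPGroup'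
  haveI : Nontrivial ↥(S : Subgroup G) := by
    refine ⟨⟨⟨z, hS L.hQ.hzQ⟩, 1, fun h => L.hQ.z_ne_one (congrArg Subtype.val h)⟩⟩
  obtain ⟨y, hy, hy1⟩ : ∃ y ∈ center ↥(S : Subgroup G), y ≠ 1 := by
    have hnt := hpS.center_nontrivial
    obtain ⟨y, hy⟩ := exists_ne (1 : center ↥(S : Subgroup G))
    exact ⟨y, y.2, fun h => hy (Subtype.ext h)⟩
  have hzcen : ∀ u ∈ (S : Subgroup G), z * u = u * z := by
    have h1 : (y : G) = z := by
      rcases hcZ y y.2 (fun u hu => (congrArg Subtype.val (Subgroup.mem_center_iff.mp hy ⟨u, hu⟩)).symm) with h | h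
      · exact absurd (Subtype.ext h) hy1
      · exact h
    intro u hu
    rw [← h1]
    exact (congrArg Subtype.val (Subgroup.mem_center_iff.mp hy ⟨u, hu⟩)).symm
  refine ⟨S, hS, hcZ, fun u hu => (hzcen u hu).symm, ?_⟩
  intro n hn
  have hmem : n * z * n⁻¹ ∈ (S : Subgroup G) := (Subgroup.mem_normalizer_iff.mp hn z).mp (hS L.hQ.hzQ)
  have hcen : ∀ u ∈ (S : Subgroup G), (n * z * n⁻¹) * u = u * (n * z * n⁻¹) := by
    intro u hu
    have hu' : n⁻¹ * u * n ∈ (S : Subgroup G) := by
      have h1 := (Subgroup.mem_normalizer_iff.mp hn (n⁻¹ * u * n))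
      refine h1.mpr ?_
      have : n * (n⁻¹ * u * n) * n⁻¹ = u := by group
      rwa [this]
    have h2 := hzcen _ hu'
    calc (n * z * n⁻¹) * u = n * (z * (n⁻¹ * u * n)) * n⁻¹ := by group
      _ = n * ((n⁻¹ * u * n) * z) * n⁻¹ := by rw [h2]
      _ = u * (n * z * n⁻¹) := by group
  rcases hcZ _ hmem hcen with h | h
  · exfalso
    apply L.hQ.z_ne_one
    have : z = n⁻¹ * (n * z * n⁻¹) * n := by group
    rw [this, h]; group
  · calc n * z = (n * z * n⁻¹) * n := by group
      _ = z * n := by rw [h]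

/-- A normal subgroup containing the centralizer of `z` is everything. -/
theorem eq_top_of_le (N : Subgroup G) [N.Normal] (hN : centralizer ({z} : Set G) ≤ N) : N = ⊤ := by
  have : Fact (Nat.Prime 2) := ⟨Nat.prime_two⟩
  obtain ⟨S, -, -, hSz, hnS⟩ := L.exists_sylow
  have hSC : (S : Subgroup G) ≤ N := fun u hu => hN (Subgroup.mem_centralizer_singleton_iff.mpr (hSz u hu))
  have hn : normalizer ((S : Subgroup G) : Set G) ≤ N := fun n h =>
    hN (Subgroup.mem_centralizer_singleton_iff.mpr (hnS n h))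
  let P : Sylow 2 N := S.subtype hSC
  have h1 := Cfsg.Agent.Lib.Core.sup_normalizer_of_sylow_le_normal N P
  have h2 : (P : Subgroup N).map N.subtype = (S : Subgroup G) := by
    show (((S : Subgroup G).subgroupOf N)).map N.subtype = _
    rw [Subgroup.map_subgroupOf_eq_of_le hSC]
  rw [h2] at h1
  rw [← top_le_iff, ← h1]
  exact sup_le le_rfl hn

/-- A normal subgroup either contains `z` or has odd order. -/
theorem mem_or_odd (N : Subgroup G) [hN : N.Normal] : z ∈ N ∨ Odd (Nat.card N) := by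
  have : Fact (Nat.Prime 2) := ⟨Nat.prime_two⟩
  by_cases hodd : Odd (Nat.card N)
  · exact Or.inr hodd
  left
  obtain ⟨S, hQS, hcZ, -, -⟩ := L.exists_sylow
  have hd : 2 ∣ Nat.card N := by
    rw [Nat.not_odd_iff_even] at hodd
    exact hodd.two_dvd
  obtain ⟨t, ht⟩ := exists_prime_orderOf_dvd_card' 2 hd
  -- a conjugate of `t` in `S`
  have hpt : IsPGroup 2 (zpowers (t : G)) := by
    refine IsPGroup.of_card (n := 1) ?_
    rw [Nat.card_zpowers, Subgroup.orderOf_coe, ht, pow_one]
  obtain ⟨S', hS'⟩ := hpt.exists_le_sylow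
  obtain ⟨g, hg⟩ := MulAction.exists_smul_eq G S' S
  have hte : (t : G) ∈ (S' : Subgroup G) := hS' (mem_zpowers _)
  have hmem : g * (t : G) * g⁻¹ ∈ (S : Subgroup G) := by
    rw [← hg]
    exact Subgroup.mem_map_of_mem _ hte
  have hmemN : g * (t : G) * g⁻¹ ∈ N := hN.conj_mem _ t.2 g
  have ht1 : g * (t : G) * g⁻¹ ≠ 1 := by
    intro h
    have h1 : (t : G) = 1 := by
      have : (t : G) = g⁻¹ * (g * (t : G) * g⁻¹) * g := by group
      rw [this, h]; group
    have h2 : t = 1 := Subtype.ext h1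
    rw [h2, orderOf_one] at ht
    omega
  -- `N ∩ S` is normal in `S`
  have hne : N.subgroupOf (S : Subgroup G) ≠ ⊥ := by
    intro h
    have := (Subgroup.subgroupOf_eq_bot.mp h)
    exact ht1 (Subgroup.disjoint_def.mp this hmemN hmem)
  obtain ⟨w, hw, hwc, hw1⟩ := Cfsg.Agent.Lib.Char.exists_mem_center_of_normal S.isPGroup' (N.subgroupOf (S : Subgroup G))
    inferInstance hne
  have h1 : (w : G) = 1 ∨ (w : G) = z := hcZ w w.2 (fun u hu =>
    (congrArg Subtype.val (Subgroup.mem_center_iff.mp hwc ⟨u, hu⟩)).symm)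
  rcases h1 with h1 | h1
  · exact absurd (Subtype.ext h1) hw1
  · rw [← h1]
    exact hw

/-- The simplicity criterion. -/
theorem isSimple (hodd : ∀ K : Subgroup G, Odd (Nat.card K) → (∀ u ∈ Q, ∀ k ∈ K, u * k * u⁻¹ ∈ K) → K = ⊥)
    (hM : centralizer ({z} : Set G) ≤ normalClosure ({z} : Set G)) : IsSimpleGroup G := by
  haveI : Nontrivial G := ⟨⟨z, 1, L.hQ.z_ne_one⟩⟩
  refine ⟨?_⟩
  intro N hN
  rcases L.mem_or_odd N with h | h
  · right
    apply L.eq_top_of_le
    refine hM.trans ?_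
    apply Subgroup.normalClosure_le_normal
    simpa using h
  · left
    exact hodd N h fun u _ k hk => hN.conj_mem k hk u

theorem centralizer_eq (hZ : (center ↥Q).map Q.subtype = zpowers z) :
    centralizer (Q : Set G) = (center ↥Q).map Q.subtype := by
  rw [hZ]
  apply le_antisymm
  · intro c hc
    have h1 : c ∈ Q := L.hC c fun q hq => (Subgroup.mem_centralizer_iff.mp hc q hq).symm
    have h2 : c ∈ Q ⊓ centralizer (Q : Set G) := ⟨h1, hc⟩
    rwa [L.hQ.hcent] at h2
  · rw [Subgroup.zpowers_le, Subgroup.mem_centralizer_iff]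
    intro q hq
    exact (L.hQ.central (mem_zpowers z) hq).symm

theorem centralizer_center_le (hZ : (center ↥Q).map Q.subtype = zpowers z) :
    centralizer (((center ↥Q).map Q.subtype : Subgroup G) : Set G) ≤ normalizer (Q : Set G) := by
  rw [hZ]
  intro c hc
  have hcz : c * z = z * c := (Subgroup.mem_centralizer_iff.mp hc z (mem_zpowers z)).symm
  have hcz' : c⁻¹ * z = z * c⁻¹ := by
    calc c⁻¹ * z = c⁻¹ * (z * c) * c⁻¹ := by group
      _ = c⁻¹ * (c * z) * c⁻¹ := by rw [hcz]
      _ = z * c⁻¹ := by group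
  rw [Subgroup.mem_normalizer_iff]
  intro q
  refine ⟨fun hq => L.hN c hcz q hq, fun hq => ?_⟩
  have := L.hN c⁻¹ hcz' _ hq
  have e : c⁻¹ * (c * q * c⁻¹) * c⁻¹⁻¹ = q := by group
  rwa [e] at this

/-- Large extraspecial from the elementwise hypotheses. -/
theorem isLarge (hE : IsExtraspecial 2 ↥Q) (hZ : (center ↥Q).map Q.subtype = zpowers z)
    (hodd : ∀ K : Subgroup G, Odd (Nat.card K) → (∀ u ∈ Q, ∀ k ∈ K, u * k * u⁻¹ ∈ K) → K = ⊥) :
    IsLargeExtraspecial Q := by
  refine ⟨hE, L.centralizer_eq hZ, L.centralizer_center_le hZ, ?_⟩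
  intro K hK hQK
  exact hodd K hK fun u hu k hk => (Subgroup.mem_normalizer_iff.mp (hQK hu) k).mp hk

/-- The condition on odd subgroups, from a conjugate of `z` in `Q`. -/
theorem odd_of_conj (hcard : 8 < Nat.card Q) {g : G} (hxQ : g * z * g⁻¹ ∈ Q) (hne : g * z * g⁻¹ ≠ z) :
    ∀ K : Subgroup G, Odd (Nat.card K) → (∀ u ∈ Q, ∀ k ∈ K, u * k * u⁻¹ ∈ K) → K = ⊥ :=
  fun K hK hQK => (L.pair hcard hxQ hne).eq_bot_of_odd L.hC K hK hQK

end LargeHyp

/-- The odd condition out of the large property. -/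
theorem odd_of_isLarge {Q : Subgroup G} (hL : IsLargeExtraspecial Q) :
    ∀ K : Subgroup G, Odd (Nat.card K) → (∀ u ∈ Q, ∀ k ∈ K, u * k * u⁻¹ ∈ K) → K = ⊥ := by
  intro K hK hQK
  apply hL.2.2.2 K hK
  intro u hu
  rw [Subgroup.mem_normalizer_iff]
  intro k
  refine ⟨hQK u hu k, fun hk => ?_⟩
  have := hQK u⁻¹ (Q.inv_mem hu) _ hk
  have e : u⁻¹ * (u * k * u⁻¹) * u⁻¹⁻¹ = k := by group
  rwa [e] at this

end Cfsg.Agent.Lib.LargeES
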