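import Cfsg.Agent.Lib.LargeES.Sub
import Cfsg.Agent.Lib.Amalgam.Extra2

/-!
# Extraspecial 2-groups of both types

The groups `CG n δ`: pairs `(v, c)` with `v` in `n` copies of the plane over the field of two elements
and the law `(v, c) (w, d) = (v + w, c + d + β v w)`.  With `δ = 0` the group is of plus type; with
`δ` the indicator of a point it is of minus type.
-/

set_option autoImplicit false

namespace Cfsg.Agent.Lib.LargeES.Rank

open Subgroup Cfsg
open scoped commutatorElement

/-- Abelian subgroups of an extraspecial group of order `2^(2n+1)` have order at most `2^(n+1)`. -/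
theorem card_le_of_comm {E : Type*} [Group E] [Finite E] {n : ℕ} (hE : IsExtraspecial 2 E)
    (hcard : Nat.card E = 2 ^ (2 * n + 1)) (A : Subgroup E) (hA : ∀ a ∈ A, ∀ b ∈ A, a * b = b * a) :
    Nat.card A ≤ 2 ^ (n + 1) := by
  obtain ⟨z, hz⟩ := Cfsg.Agent.Lib.Amalgam.exists_extraFacts hE
  have hcc : ∀ c ∈ zpowers z, ∀ x : E, c * x = x * c := fun c hc x => hz.central hc (mem_top x)
  have hnorm : (zpowers z).Normal := ⟨fun x hx g => by
    rw [← hcc x hx g, mul_assoc, mul_inv_cancel, mul_one]
    exact hx⟩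
  -- the subgroup generated by `A` and `z`
  let X : Subgroup E := A ⊔ zpowers z
  have hXc : ∀ a ∈ X, ∀ b ∈ X, a * b = b * a := by
    intro a ha b hb
    obtain ⟨a', ha', c, hc, rfl⟩ := Subgroup.mem_sup_of_normal_right.1 ha
    obtain ⟨b', hb', d, hd, rfl⟩ := Subgroup.mem_sup_of_normal_right.1 hb
    calc a' * c * (b' * d) = a' * (c * b') * d := by group
      _ = a' * (b' * c) * d := by rw [hcc c hc b']
      _ = (a' * b') * c * d := by group
      _ = (b' * a') * c * d := by rw [hA a' ha' b' hb']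
      _ = b' * (a' * (c * d)) := by group
      _ = b' * (a' * (d * c)) := by rw [hcc c hc d]
      _ = b' * (a' * d) * c := by group
      _ = b' * (d * a') * c := by rw [hcc d hd a']
      _ = _ := by group
  have hzX : zpowers z ≤ X := le_sup_right
  have h1 := hz.relIndex_centralizer (X := X) hzX le_top
  have hle : X ≤ ⊤ ⊓ centralizer (X : Set E) := by
    intro x hx
    exact ⟨mem_top x, Subgroup.mem_centralizer_iff.mpr fun y hy => hXc y hy x hx⟩
  have h2 : Nat.card X ≤ Nat.card ↥(⊤ ⊓ centralizer (X : Set E) : Subgroup E) :=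
    Subgroup.card_le_of_le hle
  have h3 := Subgroup.card_mul_index (⊤ ⊓ centralizer (X : Set E) : Subgroup E)
  rw [← Subgroup.relIndex_top_right, h1, hcard] at h3
  have h4 : Nat.card (zpowers z) * (zpowers z).relIndex X = Nat.card X := by
    have h5 := Subgroup.card_mul_index ((zpowers z).subgroupOf X)
    rw [Nat.card_congr (subgroupOfEquivOfLe hzX).toEquiv] at h5
    exact h5
  rw [hz.card_zpowers] at h4
  have h6 : Nat.card X * Nat.card X ≤ 2 ^ (n + 1) * 2 ^ (n + 1) := by
    calc Nat.card X * Nat.card X = Nat.card X * (2 * (zpowers z).relIndex X) := by rw [h4]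
      _ = 2 * (Nat.card X * (zpowers z).relIndex X) := by ring
      _ ≤ 2 * (Nat.card ↥(⊤ ⊓ centralizer (X : Set E) : Subgroup E) * (zpowers z).relIndex X) :=
        Nat.mul_le_mul_left _ (Nat.mul_le_mul_right _ h2)
      _ = 2 * 2 ^ (2 * n + 1) := by rw [h3]
      _ = 2 ^ (n + 1) * 2 ^ (n + 1) := by ring
  have h7 : Nat.card X ≤ 2 ^ (n + 1) := by
    by_contra hcon
    push Not at hcon
    have := Nat.mul_lt_mul'' hcon hcon
    omega
  exact le_trans (Subgroup.card_le_of_le le_sup_left) h7

/-- The plane sum. -/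
abbrev W (n : ℕ) : Type := Fin n → ZMod 2 × ZMod 2

/-- The bilinear form. -/
def beta {n : ℕ} (δ : Fin n → ZMod 2) (v w : W n) : ZMod 2 :=
  ∑ i, ((v i).1 * (w i).2 + δ i * ((v i).1 * (w i).1 + (v i).2 * (w i).2))

theorem beta_add_left {n : ℕ} (δ : Fin n → ZMod 2) (u v w : W n) :
    beta δ (u + v) w = beta δ u w + beta δ v w := by
  simp only [beta, ← Finset.sum_add_distrib, Pi.add_apply, Prod.fst_add, Prod.snd_add]
  exact Finset.sum_congr rfl fun i _ => by ring

theorem beta_add_right {n : ℕ} (δ : Fin n → ZMod 2) (u v w : W n) :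
    beta δ u (v + w) = beta δ u v + beta δ u w := by
  simp only [beta, ← Finset.sum_add_distrib, Pi.add_apply, Prod.fst_add, Prod.snd_add]
  exact Finset.sum_congr rfl fun i _ => by ring

theorem beta_zero_left {n : ℕ} (δ : Fin n → ZMod 2) (w : W n) : beta δ 0 w = 0 := by
  simp [beta]

theorem beta_zero_right {n : ℕ} (δ : Fin n → ZMod 2) (w : W n) : beta δ w 0 = 0 := by
  simp [beta]

theorem W_add_self {n : ℕ} (v : W n) : v + v = 0 := by
  funext i
  refine Prod.ext ?_ ?_ <;> exact CharTwo.add_self_eq_zero _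

theorem z2_add_self (a : ZMod 2) : a + a = 0 := CharTwo.add_self_eq_zero a

/-- The group. -/
@[ext] structure CG (n : ℕ) (δ : Fin n → ZMod 2) where
  v : W n
  c : ZMod 2

namespace CG

variable {n : ℕ} {δ : Fin n → ZMod 2}

instance : Mul (CG n δ) := ⟨fun x y => ⟨x.v + y.v, x.c + y.c + beta δ x.v y.v⟩⟩
instance : One (CG n δ) := ⟨⟨0, 0⟩⟩
instance : Inv (CG n δ) := ⟨fun x => ⟨x.v, x.c + beta δ x.v x.v⟩⟩

@[simp] theorem mul_v (x y : CG n δ) : (x * y).v = x.v + y.v := rfl
@[simp] theorem mul_c (x y : CG n δ) : (x * y).c = x.c + y.c + beta δ x.v y.v := rfl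
@[simp] theorem one_v : (1 : CG n δ).v = 0 := rfl
@[simp] theorem one_c : (1 : CG n δ).c = 0 := rfl
@[simp] theorem inv_v (x : CG n δ) : (x⁻¹).v = x.v := rfl
@[simp] theorem inv_c (x : CG n δ) : (x⁻¹).c = x.c + beta δ x.v x.v := rfl

instance : Group (CG n δ) := Group.ofLeftAxioms
  (fun x y z => by
    ext1
    · simp [add_assoc]
    · simp only [mul_c, mul_v, beta_add_left, beta_add_right]
      ring)
  (fun x => by
    ext1
    · simp
    · simp [beta_zero_left])
  (fun x => by
    ext1
    · simp [W_add_self]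
    · simp only [mul_c, inv_c, inv_v, one_c]
      have h1 := z2_add_self x.c
      have h2 := z2_add_self (beta δ x.v x.v)
      linear_combination h1 + h2)

/-- The product decomposition. -/
def toProd : CG n δ ≃ W n × ZMod 2 where
  toFun x := (x.v, x.c)
  invFun p := ⟨p.1, p.2⟩
  left_inv _ := rfl
  right_inv _ := rfl

instance : Finite (CG n δ) := Finite.of_equiv _ toProd.symm

theorem card_eq : Nat.card (CG n δ) = 2 ^ (2 * n + 1) := by
  rw [Nat.card_congr toProd, Nat.card_prod, Nat.card_eq_fintype_card, Nat.card_eq_fintype_card]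
  simp [ZMod.card, pow_succ, pow_mul]

/-- The central element. -/
def z : CG n δ := ⟨0, 1⟩

theorem z_ne_one : (z : CG n δ) ≠ 1 := by
  intro h
  have h1 : (1 : ZMod 2) = 0 := congrArg CG.c h
  exact absurd h1 (by decide)

theorem z_mul_z : (z : CG n δ) * z = 1 := by
  ext1
  · simp [z]
  · simp only [z, mul_c, one_c, beta_zero_left]
    decide

theorem z_order : orderOf (z : CG n δ) = 2 := by
  apply orderOf_eq_prime
  · rw [pow_two]; exact z_mul_z
  · exact z_ne_one

theorem mem_zpowers_of_v {x : CG n δ} (h : x.v = 0) : x ∈ zpowers (z : CG n δ) := by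
  have hc : x.c = 0 ∨ x.c = 1 := by
    generalize x.c = t
    revert t
    decide
  rcases hc with hc | hc
  · have : x = 1 := by
      ext1
      · exact h
      · exact hc
    rw [this]
    exact one_mem _
  · have : x = z := by
      ext1
      · exact h
      · exact hc
    rw [this]
    exact mem_zpowers _

/-- The polar form. -/
theorem beta_polar (v w : W n) : beta δ v w + beta δ w v = ∑ i, ((v i).1 * (w i).2 + (w i).1 * (v i).2) := by
  simp only [beta, ← Finset.sum_add_distrib]
  refine Finset.sum_congr rfl fun i _ => ?_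
  have h1 := z2_add_self (δ i * ((v i).1 * (w i).1 + (v i).2 * (w i).2))
  linear_combination h1

/-- Unit vector in the first coordinate. -/
def e1 (i : Fin n) : W n := Function.update 0 i (1, 0)
/-- Unit vector in the second coordinate. -/
def e2 (i : Fin n) : W n := Function.update 0 i (0, 1)

theorem polar_e1 (v : W n) (i : Fin n) : (∑ j, ((v j).1 * (e1 i j).2 + (e1 i j).1 * (v j).2)) = (v i).2 := by
  rw [Finset.sum_eq_single i]
  · simp [e1]
  · intro j _ hj
    simp [e1, Function.update_of_ne hj]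
  · simp

theorem polar_e2 (v : W n) (i : Fin n) : (∑ j, ((v j).1 * (e2 i j).2 + (e2 i j).1 * (v j).2)) = (v i).1 := by
  rw [Finset.sum_eq_single i]
  · simp [e2]
  · intro j _ hj
    simp [e2, Function.update_of_ne hj]
  · simp

theorem comm_iff (x y : CG n δ) : x * y = y * x ↔ beta δ x.v y.v = beta δ y.v x.v := by
  constructor
  · intro h
    have h1 := congrArg CG.c h
    simp only [mul_c] at h1
    linear_combination h1
  · intro h
    ext1
    · simp [add_comm]
    · simp only [mul_c, h]
      ring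

theorem sq_eq (x : CG n δ) : x * x = ⟨0, beta δ x.v x.v⟩ := by
  ext1
  · simp [W_add_self]
  · simp only [mul_c]
    rw [z2_add_self, zero_add]

theorem isExtraspecial (hn : 1 ≤ n) : IsExtraspecial 2 (CG n δ) := by
  apply Cfsg.Agent.Lib.LargeES.isExtraspecial_two_of (z : CG n δ) z_order
  · intro y hy
    apply mem_zpowers_of_v
    funext i
    have h1 := (comm_iff y ⟨e1 i, 0⟩).1 (hy _)
    have h2 := (comm_iff y ⟨e2 i, 0⟩).1 (hy _)
    have h3 := beta_polar (δ := δ) y.v (e1 i)
    have h4 := beta_polar (δ := δ) y.v (e2 i)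
    rw [polar_e1] at h3
    rw [polar_e2] at h4
    simp only at h1 h2
    rw [h1, z2_add_self] at h3
    rw [h2, z2_add_self] at h4
    exact Prod.ext h4.symm h3.symm
  · intro u
    rw [comm_iff]
    simp [z, beta_zero_left, beta_zero_right]
  · intro a
    rw [sq_eq]
    exact mem_zpowers_of_v rfl
  · intro a b
    apply mem_zpowers_of_v
    rw [commutatorElement_def]
    simp only [mul_v, inv_v]
    have h1 := W_add_self a.v
    have h2 := W_add_self b.v
    calc a.v + b.v + a.v + b.v = (a.v + a.v) + (b.v + b.v) := by abel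
      _ = 0 := by rw [h1, h2, add_zero]
  · refine ⟨⟨e1 ⟨0, hn⟩, 0⟩, ⟨e2 ⟨0, hn⟩, 0⟩, ?_⟩
    intro h
    have h1 := (comm_iff _ _).1 h
    simp only at h1
    have h3 := beta_polar (δ := δ) (e1 ⟨0, hn⟩) (e2 ⟨0, hn⟩)
    rw [polar_e2, h1, z2_add_self] at h3
    simp [e1] at h3

end CG

/-! ### Counting -/

/-- The sign. -/
def sgn (a : ZMod 2) : ℤ := if a = 0 then 1 else -1

theorem sgn_add (a b : ZMod 2) : sgn (a + b) = sgn a * sgn b := by
  revert a b
  decide

theorem sgn_sum {ι : Type*} (s : Finset ι) (f : ι → ZMod 2) : sgn (∑ i ∈ s, f i) = ∏ i ∈ s, sgn (f i) := by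
  classical
  induction s using Finset.induction_on with
  | empty => simp [sgn]
  | insert a s ha ih => rw [Finset.sum_insert ha, Finset.prod_insert ha, sgn_add, ih]

/-- The quadratic form of a plane. -/
def tp (d : ZMod 2) (x : ZMod 2 × ZMod 2) : ZMod 2 := x.1 * x.2 + d * (x.1 * x.1 + x.2 * x.2)

theorem sum_tp_zero : ∑ x : ZMod 2 × ZMod 2, sgn (tp 0 x) = 2 := by decide

theorem sum_tp_one : ∑ x : ZMod 2 × ZMod 2, sgn (tp 1 x) = -2 := by decide

theorem sum_sgn_beta {n : ℕ} (δ : Fin n → ZMod 2) :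
    ∑ v : W n, sgn (beta δ v v) = ∏ i, ∑ x : ZMod 2 × ZMod 2, sgn (tp (δ i) x) := by
  rw [Finset.prod_univ_sum, Fintype.piFinset_univ]
  refine Finset.sum_congr rfl fun v _ => ?_
  rw [beta, sgn_sum]
  rfl

/-- The number of vectors of norm one, minus type. -/
theorem count_minus {n : ℕ} (i₀ : Fin n) :
    2 * (Finset.univ.filter fun v : W n => beta (fun i => if i = i₀ then 1 else 0) v v = 1).card
      = 4 ^ n + 2 ^ n := by
  classical
  set δ : Fin n → ZMod 2 := fun i => if i = i₀ then 1 else 0 with hδ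
  have h1 : ∑ v : W n, sgn (beta δ v v) = -2 ^ n := by
    rw [sum_sgn_beta]
    have h2 : ∀ i, ∑ x : ZMod 2 × ZMod 2, sgn (tp (δ i) x) = (if i = i₀ then -1 else 1) * 2 := by
      intro i
      by_cases h : i = i₀
      · simp only [hδ, h, if_true, sum_tp_one]
        norm_num
      · simp only [hδ, h, if_false, sum_tp_zero]
        norm_num
    simp only [h2]
    rw [Finset.prod_mul_distrib, Finset.prod_ite_eq' Finset.univ i₀]
    simp
  have h3 : ∀ v : W n, sgn (beta δ v v) = 1 - 2 * (if beta δ v v = 1 then 1 else 0) := by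
    intro v
    generalize beta δ v v = t
    revert t
    decide
  simp only [h3] at h1
  rw [Finset.sum_sub_distrib, ← Finset.mul_sum, Finset.sum_boole] at h1
  have hc : (Fintype.card (W n) : ℤ) = 4 ^ n := by
    simp [ZMod.card]
  simp only [Finset.sum_const, Finset.card_univ, smul_eq_mul, mul_one, nsmul_eq_mul] at h1
  rw [hc] at h1
  have h5 : ((2 * (Finset.univ.filter fun v : W n => beta δ v v = 1).card : ℕ) : ℤ) = ((4 ^ n + 2 ^ n : ℕ) : ℤ) := by
    push_cast
    linarith
  exact_mod_cast h5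

namespace CG

variable {n : ℕ} {δ : Fin n → ZMod 2}

theorem order_four_iff (x : CG n δ) : orderOf x = 4 ↔ beta δ x.v x.v = 1 := by
  have hb : beta δ x.v x.v = 0 ∨ beta δ x.v x.v = 1 := by
    generalize beta δ x.v x.v = t
    revert t
    decide
  rcases hb with hb | hb
  · rw [hb]
    constructor
    · intro h
      exfalso
      have h1 : x ^ 2 = 1 := by
        rw [pow_two, sq_eq, hb]
        rfl
      have h2 := orderOf_dvd_of_pow_eq_one h1
      rw [h] at h2
      omega
    · intro h
      exact absurd h (by decide)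
  · rw [hb]
    simp only [iff_true]
    have h1 : x ^ 2 = z := by
      rw [pow_two, sq_eq, hb]
      rfl
    have h2 : x ^ 2 ^ 2 = 1 := by
      rw [show 2 ^ 2 = 2 * 2 by norm_num, pow_mul, h1, pow_two, z_mul_z]
    have h3 := orderOf_eq_prime_pow (p := 2) (n := 1) (x := x) (by
      rw [show 2 ^ 1 = 2 by norm_num, h1]
      exact z_ne_one) (by simpa using h2)
    simpa using h3

theorem card_order_four : Nat.card {x : CG n δ // orderOf x = 4} =
    2 * (Finset.univ.filter fun v : W n => beta δ v v = 1).card := by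
  classical
  have e : {x : CG n δ // orderOf x = 4} ≃ {v : W n // beta δ v v = 1} × ZMod 2 :=
    { toFun := fun x => (⟨x.1.v, (order_four_iff x.1).1 x.2⟩, x.1.c)
      invFun := fun p => ⟨⟨p.1.1, p.2⟩, (order_four_iff _).2 p.1.2⟩
      left_inv := fun _ => rfl
      right_inv := fun _ => rfl }
  rw [Nat.card_congr e, Nat.card_prod, Nat.card_eq_fintype_card, Nat.card_eq_fintype_card, ZMod.card,
    Fintype.card_subtype, mul_comm]

/-- A subgroup determined by conditions on the plane coordinates. -/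
def sub (S : Fin n → Prop) : Subgroup (CG n δ) where
  carrier := {x | ∀ i, (x.v i).1 = 0 ∧ (¬ S i → (x.v i).2 = 0)}
  mul_mem' := by
    intro a b ha hb i
    refine ⟨?_, fun h => ?_⟩
    · show (a.v i).1 + (b.v i).1 = 0
      rw [(ha i).1, (hb i).1, add_zero]
    · show (a.v i).2 + (b.v i).2 = 0
      rw [(ha i).2 h, (hb i).2 h, add_zero]
  one_mem' := fun i => ⟨rfl, fun _ => rfl⟩
  inv_mem' := fun ha => ha

theorem beta_sub {S : Fin n → Prop} (hS : ∀ i, S i → δ i = 0) {x y : CG n δ} (hx : x ∈ sub S) (hy : y ∈ sub S) :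
    beta δ x.v y.v = 0 := by
  apply Finset.sum_eq_zero
  intro i _
  rw [(hx i).1, zero_mul, zero_mul, zero_add, zero_add]
  by_cases h : S i
  · rw [hS i h, zero_mul]
  · rw [(hx i).2 h, zero_mul, mul_zero]

theorem sub_elem {S : Fin n → Prop} (hS : ∀ i, S i → δ i = 0) : IsElementaryAbelian 2 (sub (δ := δ) S) := by
  refine ⟨⟨⟨fun a b => ?_⟩⟩, fun a ha => ?_⟩
  · apply Subtype.ext
    show a.1 * b.1 = b.1 * a.1
    rw [comm_iff, beta_sub hS a.2 b.2, beta_sub hS b.2 a.2]
  · rw [pow_two, sq_eq, beta_sub hS ha ha]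
    rfl

theorem card_sub (S : Fin n → Prop) {m : ℕ} (hm : Nat.card {i // S i} = m) :
    Nat.card (sub (δ := δ) S) = 2 ^ (m + 1) := by
  classical
  have e : (sub (δ := δ) S) ≃ ({i // S i} → ZMod 2) × ZMod 2 :=
    { toFun := fun x => (fun i => (x.1.v i.1).2, x.1.c)
      invFun := fun p => ⟨⟨fun i => if h : S i then (0, p.1 ⟨i, h⟩) else (0, 0), p.2⟩, fun i => by
        by_cases h : S i
        · simp [h]
        · simp [h]⟩
      left_inv := fun x => by
        apply Subtype.ext
        ext1
        · funext i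
          by_cases h : S i
          · simp only [h, dif_pos]
            exact Prod.ext (x.2 i).1.symm rfl
          · simp only [h, dif_neg, not_false_eq_true]
            exact Prod.ext (x.2 i).1.symm ((x.2 i).2 h).symm
        · rfl
      right_inv := fun p => by
        refine Prod.ext ?_ rfl
        funext i
        simp [i.2] }
  rw [Nat.card_congr e, Nat.card_prod]
  have h1 : Nat.card ({i // S i} → ZMod 2) = 2 ^ m := by
    rw [Nat.card_fun, hm]
    simp
  rw [h1, pow_succ]
  simp

end CG

/-- Elementary abelian subgroups have order at most `2^(n+1)`. -/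
theorem rank_le {E : Type*} [Group E] [Finite E] {n k : ℕ} (hE : IsExtraspecial 2 E)
    (hcard : Nat.card E = 2 ^ (2 * n + 1)) {A : Subgroup E} (hA : IsElementaryAbelian 2 A)
    (hk : Nat.card A = 2 ^ k) : k ≤ n + 1 := by
  have h1 := card_le_of_comm hE hcard A (fun a ha b hb => by
    have h2 := hA.1
    have := mul_comm' (⟨a, ha⟩ : A) ⟨b, hb⟩
    exact congrArg Subtype.val this)
  rw [hk] at h1
  exact (Nat.pow_le_pow_iff_right (by norm_num)).1 h1

/-- The minus type has no large elementary abelian subgroup. -/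
theorem no_large {n : ℕ} (hn : 1 ≤ n) (i₀ : Fin n) {A : Subgroup (CG n (fun i => if i = i₀ then 1 else 0))}
    (hA : IsElementaryAbelian 2 A) (hk : Nat.card A = 2 ^ (n + 1)) : False := by
  have h1 := Cfsg.Agent.Lib.Amalgam.card_orderOf_four (m := n) (CG.isExtraspecial hn) CG.card_eq ⟨A, hA, hk⟩
  rw [CG.card_order_four, count_minus] at h1
  have h2 : (4 : ℕ) ^ n = 2 ^ (2 * n) := by
    rw [pow_mul]
    norm_num
  have h3 : 0 < 2 ^ n := by positivity
  rw [h2] at h1
  generalize (2 : ℕ) ^ (2 * n) = X at h1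
  generalize (2 : ℕ) ^ n = Y at h1 h3
  omega

end Cfsg.Agent.Lib.LargeES.Rank
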