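import Cfsg.Agent.Lib.LargeES.Split
import Cfsg.Agent.Lib.PGroup.Heisenberg
import Cfsg.Agent.Lib.Techniques.TransvF2

/-!
# The centralizer of a transvection in the special linear group over the field of two elements
-/

set_option autoImplicit false

namespace Cfsg.Agent.Lib.LargeES.SLn

open Subgroup Cfsg Matrix
open Cfsg.Agent.Lib.PGroup (Heis)

/-! ### The special linear groups have no normal 2-subgroups -/

section Core

variable {n : ℕ}

local notation "SLL" => Matrix.SpecialLinearGroup (Fin n) (ZMod 2)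

theorem det_eq_one_of_mul {A B : Matrix (Fin n) (Fin n) (ZMod 2)} (h : A * B = 1) : A.det = 1 := by
  have h1 : A.det * B.det = 1 := by rw [← det_mul, h, det_one]
  have h2 : A.det ≠ 0 := left_ne_zero_of_mul_eq_one h1
  generalize A.det = t at h2
  revert t
  decide

/-- The transvection moving `v` to `w` in characteristic two. -/
theorem exists_sl_move {v w : Fin n → ZMod 2} (hv : v ≠ 0) (hw : w ≠ 0) :
    ∃ g : SLL, (g : Matrix (Fin n) (Fin n) (ZMod 2)) *ᵥ v = w := by
  classical
  by_cases hvw : v = w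
  · exact ⟨1, by simp [hvw]⟩
  -- a functional with value one at both
  have hnz : ∀ u : Fin n → ZMod 2, u ≠ 0 → ∃ i, u i = 1 := by
    intro u hu
    by_contra hcon
    push Not at hcon
    apply hu
    funext i
    have := hcon i
    show u i = 0
    generalize u i = t at this
    revert t
    decide
  obtain ⟨f, hfv, hfw⟩ : ∃ f : Fin n → ZMod 2, f ⬝ᵥ v = 1 ∧ f ⬝ᵥ w = 1 := by
    obtain ⟨i, hi⟩ := hnz v hv
    obtain ⟨j, hj⟩ := hnz w hw
    by_cases hwi : w i = 1
    · refine ⟨Pi.single i 1, ?_, ?_⟩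
      · simp [hi]
      · simp [hwi]
    by_cases hvj : v j = 1
    · refine ⟨Pi.single j 1, ?_, ?_⟩
      · simp [hvj]
      · simp [hj]
    have hwi0 : w i = 0 := by
      generalize w i = t at hwi
      revert t
      decide
    have hvj0 : v j = 0 := by
      generalize v j = t at hvj
      revert t
      decide
    refine ⟨Pi.single i 1 + Pi.single j 1, ?_, ?_⟩
    · simp [add_dotProduct, hi, hvj0]
    · simp [add_dotProduct, hwi0, hj]
  have h2 : ∀ a : ZMod 2, a + a = 0 := by decide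
  have hfs : f ⬝ᵥ (v + w) = 0 := by
    rw [dotProduct_add, hfv, hfw]
    decide
  let T : Matrix (Fin n) (Fin n) (ZMod 2) := 1 + vecMulVec (v + w) f
  have hT : T * T = 1 := by
    have h1 : vecMulVec (v + w) f * vecMulVec (v + w) f = 0 := by
      rw [vecMulVec_mul_vecMulVec, hfs]
      simp
    have h3 : vecMulVec (v + w) f + vecMulVec (v + w) f = 0 := by
      ext i j
      simp [h2]
    simp only [T, add_mul, mul_add, one_mul, mul_one, h1, add_zero]
    rw [add_assoc, h3, add_zero]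
  refine ⟨⟨T, det_eq_one_of_mul hT⟩, ?_⟩
  show T *ᵥ v = w
  have e : vecMulVec (v + w) f *ᵥ v = v + w := by
    funext i
    have h3 : (f ⬝ᵥ v) = ∑ j, f j * v j := rfl
    simp only [mulVec, dotProduct, vecMulVec_apply, mul_assoc, ← Finset.mul_sum]
    rw [← h3, hfv, mul_one]
  simp only [T, add_mulVec, one_mulVec]
  rw [e]
  funext i
  simp only [Pi.add_apply]
  have := h2 (v i)
  linear_combination this

/-- A normal 2-subgroup of the special linear group is trivial. -/
theorem normal_two_eq_bot (N : Subgroup SLL) (hN : N.Normal) (hp : IsPGroup 2 N) : N = ⊥ := by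
  classical
  have : Fact (Nat.Prime 2) := ⟨Nat.prime_two⟩
  rcases Nat.eq_zero_or_pos n with rfl | hn
  · rw [eq_bot_iff]
    intro g _
    rw [Subgroup.mem_bot]
    apply Subtype.ext
    ext i
    exact i.elim0
  -- the action on vectors
  let act : MulAction N (Fin n → ZMod 2) :=
    { smul := fun g v => ((g : SLL) : Matrix (Fin n) (Fin n) (ZMod 2)) *ᵥ v
      one_smul := fun v => by
        show ((1 : SLL) : Matrix (Fin n) (Fin n) (ZMod 2)) *ᵥ v = v
        simp
      mul_smul := fun g h v => by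
        show ((g : SLL).1 * (h : SLL).1) *ᵥ v = (g : SLL).1 *ᵥ ((h : SLL).1 *ᵥ v)
        rw [mulVec_mulVec] }
  have hmod := hp.card_modEq_card_fixedPoints (Fin n → ZMod 2)
  -- a non-zero fixed vector
  obtain ⟨v, hv0, hv⟩ : ∃ v : Fin n → ZMod 2, v ≠ 0 ∧ ∀ g : N, ((g : SLL) : Matrix (Fin n) (Fin n) (ZMod 2)) *ᵥ v = v := by
    by_contra hcon
    push Not at hcon
    have h1 : MulAction.fixedPoints N (Fin n → ZMod 2) = {0} := by
      ext v
      simp only [MulAction.mem_fixedPoints, Set.mem_singleton_iff]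
      constructor
      · intro h
        by_contra hv
        obtain ⟨g, hg⟩ := hcon v hv
        exact hg (h g)
      · rintro rfl g
        show ((g : SLL) : Matrix (Fin n) (Fin n) (ZMod 2)) *ᵥ 0 = 0
        simp
    rw [h1, Nat.card_fun] at hmod
    have h3 : 2 ∣ 2 ^ n := dvd_pow_self 2 hn.ne'
    simp only [Nat.card_eq_fintype_card, ZMod.card, Fintype.card_fin, Set.card_singleton] at hmod
    have h4 := (Nat.modEq_iff_dvd' (by
      exact Nat.one_le_two_pow)).1 hmod.symm
    obtain ⟨k, hk⟩ := h3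
    have h5 := Nat.one_le_two_pow (n := n)
    rw [hk] at h4 h5
    omega
  -- every vector is fixed
  have hall : ∀ g ∈ N, ∀ w : Fin n → ZMod 2, (g : Matrix (Fin n) (Fin n) (ZMod 2)) *ᵥ w = w := by
    intro g hg w
    by_cases hw : w = 0
    · rw [hw]
      simp
    obtain ⟨x, hx⟩ := exists_sl_move hv0 hw
    have h1 := hv ⟨x⁻¹ * g * x⁻¹⁻¹, hN.conj_mem g hg x⁻¹⟩
    have h1' : ((x⁻¹ : SLL).1 * g.1 * x.1) *ᵥ v = v := by
      simpa using h1
    have h3 : x.1 * (x⁻¹ : SLL).1 = 1 := congrArg Subtype.val (mul_inv_cancel x)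
    have h4 : g.1 *ᵥ w = x.1 *ᵥ (((x⁻¹ : SLL).1 * g.1 * x.1) *ᵥ v) := by
      rw [← hx, mulVec_mulVec, mulVec_mulVec]
      congr 1
      calc g.1 * x.1 = (x.1 * (x⁻¹ : SLL).1) * g.1 * x.1 := by
            rw [h3, one_mul]
        _ = _ := by simp only [Matrix.mul_assoc]
    show g.1 *ᵥ w = w
    rw [h4, h1', hx]
  rw [eq_bot_iff]
  intro g hg
  rw [Subgroup.mem_bot]
  apply Subtype.ext
  ext i j
  have h1 := congrFun (hall g hg (Pi.single j 1)) i
  simpa [Matrix.one_apply, Pi.single_apply, eq_comm] using h1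

end Core

/-! ### Matrices in block form -/

section Block

variable {n : ℕ}

/-- The group. -/
abbrev GG (n : ℕ) : Type := Matrix.SpecialLinearGroup (Fin (n + 2)) (ZMod 2)
/-- The matrices. -/
abbrev MM (n : ℕ) : Type := Matrix (Fin (n + 2)) (Fin (n + 2)) (ZMod 2)
/-- The small matrices. -/
abbrev NN (n : ℕ) : Type := Matrix (Fin n) (Fin n) (ZMod 2)

/-- The indices after the first two. -/
def io (i : Fin n) : Fin (n + 2) := i.succ.succ

theorem sum3 (f : Fin (n + 2) → ZMod 2) : ∑ t, f t = f 0 + f 1 + ∑ i, f (io i) := by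
  rw [Fin.sum_univ_succ, Fin.sum_univ_succ]
  exact (add_assoc _ _ _).symm

theorem idx_cases (r : Fin (n + 2)) : r = 0 ∨ r = 1 ∨ ∃ i, r = io i := by
  refine Fin.cases (Or.inl rfl) (fun r' => ?_) r
  refine Fin.cases (Or.inr (Or.inl rfl)) (fun r'' => ?_) r'
  exact Or.inr (Or.inr ⟨r'', rfl⟩)

@[simp] theorem io_ne_zero (i : Fin n) : io i ≠ 0 := Fin.succ_ne_zero _
@[simp] theorem zero_ne_io (i : Fin n) : (0 : Fin (n + 2)) ≠ io i := (Fin.succ_ne_zero _).symm
@[simp] theorem io_ne_one (i : Fin n) : io i ≠ 1 := by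
  intro h
  have := congrArg Fin.val h
  simp [io] at this
@[simp] theorem one_ne_io (i : Fin n) : (1 : Fin (n + 2)) ≠ io i := (io_ne_one i).symm
@[simp] theorem one_ne_zero' : (1 : Fin (n + 2)) ≠ 0 := by
  intro h
  have := congrArg Fin.val h
  simp at this
@[simp] theorem io_inj {i j : Fin n} : io i = io j ↔ i = j := by
  simp [io]

@[simp] theorem one00 : (1 : MM n) 0 0 = 1 := one_apply_eq _
@[simp] theorem one01 : (1 : MM n) 0 1 = 0 := one_apply_ne (one_ne_zero').symm
@[simp] theorem one10 : (1 : MM n) 1 0 = 0 := one_apply_ne one_ne_zero'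
@[simp] theorem one11 : (1 : MM n) 1 1 = 1 := one_apply_eq _
@[simp] theorem one0i (i : Fin n) : (1 : MM n) 0 (io i) = 0 := one_apply_ne (zero_ne_io i)
@[simp] theorem onei0 (i : Fin n) : (1 : MM n) (io i) 0 = 0 := one_apply_ne (io_ne_zero i)
@[simp] theorem one1i (i : Fin n) : (1 : MM n) 1 (io i) = 0 := one_apply_ne (one_ne_io i)
@[simp] theorem onei1 (i : Fin n) : (1 : MM n) (io i) 1 = 0 := one_apply_ne (io_ne_one i)
@[simp] theorem oneii (i j : Fin n) : (1 : MM n) (io i) (io j) = (1 : NN n) i j := by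
  by_cases h : i = j
  · subst h
    simp
  · rw [one_apply_ne (fun h' => h (io_inj.1 h')), one_apply_ne h]

/-- The first row of an element of the extraspecial group. -/
def uu (x : Heis 2 n) : Fin (n + 2) → ZMod 2 := Fin.cases 0 (Fin.cases x.c x.a)
/-- The second column of an element of the extraspecial group. -/
def ww (x : Heis 2 n) : Fin (n + 2) → ZMod 2 := Fin.cases 0 (Fin.cases 0 x.b)

/-- The matrix of an element of the extraspecial group. -/
def phiM (x : Heis 2 n) : MM n := fun r s =>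
  (1 : MM n) r s + (if r = 0 then uu x s else 0) + (if s = 1 then ww x r else 0)

@[simp] theorem phiM00 (x : Heis 2 n) : phiM x 0 0 = 1 := by
  simp [phiM, uu]
@[simp] theorem phiM01 (x : Heis 2 n) : phiM x 0 1 = x.c := by
  simp only [phiM, one01, if_true, zero_add]
  rw [show ww x 0 = 0 from rfl, add_zero]
  rfl
@[simp] theorem phiM0i (x : Heis 2 n) (j : Fin n) : phiM x 0 (io j) = x.a j := by
  simp only [phiM, one0i, if_true, zero_add, io_ne_one, if_false, add_zero]
  rfl
@[simp] theorem phiM10 (x : Heis 2 n) : phiM x 1 0 = 0 := by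
  simp [phiM]
@[simp] theorem phiM11 (x : Heis 2 n) : phiM x 1 1 = 1 := by
  simp only [phiM, one11, if_true, one_ne_zero', if_false, add_zero]
  rw [show ww x 1 = 0 from rfl, add_zero]
@[simp] theorem phiM1i (x : Heis 2 n) (j : Fin n) : phiM x 1 (io j) = 0 := by
  simp [phiM]
@[simp] theorem phiMi0 (x : Heis 2 n) (i : Fin n) : phiM x (io i) 0 = 0 := by
  simp [phiM]
@[simp] theorem phiMi1 (x : Heis 2 n) (i : Fin n) : phiM x (io i) 1 = x.b i := by
  simp only [phiM, onei1, io_ne_zero, if_false, if_true, zero_add, add_zero]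
  rfl
@[simp] theorem phiMii (x : Heis 2 n) (i j : Fin n) : phiM x (io i) (io j) = (1 : NN n) i j := by
  simp [phiM]

@[simp] theorem sum_mul_one (f : Fin n → ZMod 2) (j : Fin n) : ∑ i, f i * (1 : NN n) i j = f j := by
  simp [Matrix.one_apply]

@[simp] theorem sum_one_mul (f : Fin n → ZMod 2) (i : Fin n) : ∑ k, (1 : NN n) i k * f k = f i := by
  simp [Matrix.one_apply]

theorem phiM_mul (x y : Heis 2 n) : phiM (x * y) = phiM x * phiM y := by
  ext r s
  rw [Matrix.mul_apply, sum3]
  rcases idx_cases r with rfl | rfl | ⟨i, rfl⟩ <;> rcases idx_cases s with rfl | rfl | ⟨j, rfl⟩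
  · simp
  · simp only [phiM01, phiM00, phiM11, phiM0i, phiMi1, Heis.mul_c]
    simp only [dotProduct]
    ring
  · simp only [phiM0i, phiM00, phiM01, phiM1i, phiMii, Heis.mul_a, Pi.add_apply, sum_mul_one]
    ring
  · simp
  · simp
  · simp
  · simp
  · simp only [phiMi1, phiMi0, phiM01, phiM11, phiMii, sum_one_mul, Heis.mul_b, Pi.add_apply]
    ring
  · simp only [phiMii, phiMi0, phiM0i, phiMi1, phiM1i, mul_zero, zero_mul, add_zero, zero_add]
    rw [← Matrix.mul_apply, Matrix.one_mul]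

theorem phiM_one : phiM (1 : Heis 2 n) = 1 := by
  ext r s
  rcases idx_cases r with rfl | rfl | ⟨i, rfl⟩ <;> rcases idx_cases s with rfl | rfl | ⟨j, rfl⟩ <;> simp

/-- The homomorphism from the extraspecial group. -/
def phi : Heis 2 n →* GG n where
  toFun x := ⟨phiM x, Cfsg.Agent.Lib.LargeES.SLn.det_eq_one_of_mul (n := n + 2) (B := phiM x⁻¹) (by
    rw [← phiM_mul, mul_inv_cancel, phiM_one])⟩
  map_one' := Subtype.ext phiM_one
  map_mul' x y := Subtype.ext (phiM_mul x y)

theorem phi_coe (x : Heis 2 n) : (phi x : MM n) = phiM x := rfl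

theorem phi_injective : Function.Injective (phi : Heis 2 n →* GG n) := by
  intro x y h
  have h1 : phiM x = phiM y := congrArg Subtype.val h
  ext i
  · have := congrFun (congrFun h1 0) (io i)
    simpa using this
  · have := congrFun (congrFun h1 (io i)) 1
    simpa using this
  · have := congrFun (congrFun h1 0) 1
    simpa using this

/-- The central element. -/
def z0 : Heis 2 n := ⟨0, 0, 1⟩

theorem z0_central (x : Heis 2 n) : x * z0 = z0 * x := by
  ext i
  · simp [z0, add_comm]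
  · simp [z0, add_comm]
  · simp [z0, add_comm]

theorem z0_ne_one : (z0 : Heis 2 n) ≠ 1 := by
  intro h
  have h1 : (1 : ZMod 2) = 0 := congrArg Heis.c h
  exact absurd h1 (by decide)

theorem z0_sq : (z0 : Heis 2 n) * z0 = 1 := by
  ext i
  · simp [z0]
  · simp [z0]
  · simp [z0]
    decide

theorem phiM_z0 : phiM (z0 : Heis 2 n) = transvection 0 1 1 := by
  ext r s
  rw [transvection, Matrix.add_apply, Matrix.single_apply]
  rcases idx_cases r with rfl | rfl | ⟨i, rfl⟩ <;> rcases idx_cases s with rfl | rfl | ⟨j, rfl⟩ <;>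
    simp [z0]

/-- The condition of commuting with the transvection. -/
def ColRow (y : MM n) : Prop := (∀ a, y a 0 = (1 : MM n) a 0) ∧ ∀ b, y 1 b = (1 : MM n) 1 b

theorem colrow_of_comm {y z : GG n} (hz : (z : MM n) = transvection 0 1 1) (hy : y * z = z * y) :
    ColRow (y : MM n) :=
  Cfsg.Agent.Lib.Techniques.col_row (F := ZMod 2) (by simp [ZMod.card]) (one_ne_zero').symm hz hy

theorem comm_of_colrow {y z : GG n} (hz : (z : MM n) = transvection 0 1 1) (hy : ColRow (y : MM n)) :
    y * z = z * y := by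
  apply Subtype.ext
  show (y : MM n) * (z : MM n) = (z : MM n) * (y : MM n)
  rw [hz]
  ext r s
  by_cases hs : s = 1
  · subst hs
    rw [mul_transvection_apply_same]
    by_cases hr : r = 0
    · subst hr
      rw [transvection_mul_apply_same, hy.1, hy.2]
      simp
    · rw [transvection_mul_apply_of_ne _ _ _ _ hr, hy.1 r, one_apply_ne hr]
      simp
  · rw [mul_transvection_apply_of_ne _ _ _ _ hs]
    by_cases hr : r = 0
    · subst hr
      rw [transvection_mul_apply_same, hy.2 s, one_apply_ne (Ne.symm hs)]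
      simp
    · rw [transvection_mul_apply_of_ne _ _ _ _ hr]

/-- The lower right block. -/
def piM (y : MM n) : NN n := fun i j => y (io i) (io j)

theorem piM_mul {y w : MM n} (hy : ColRow y) (hw : ColRow w) : piM (y * w) = piM y * piM w := by
  ext i j
  simp only [piM]
  rw [Matrix.mul_apply, sum3, hy.1, hw.2, onei0, one1i, zero_mul, mul_zero, zero_add, zero_add]
  rfl

theorem piM_one : piM (1 : MM n) = 1 := by
  ext i j
  simp [piM]

theorem colrow_one : ColRow (1 : MM n) := ⟨fun _ => rfl, fun _ => rfl⟩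

theorem colrow_mul {y w : MM n} (hy : ColRow y) (hw : ColRow w) : ColRow (y * w) := by
  constructor
  · intro a
    rw [Matrix.mul_apply, sum3, hw.1 0, hw.1 1]
    simp only [one00, one10, mul_one, mul_zero, add_zero]
    rw [Finset.sum_eq_zero (fun i _ => by rw [hw.1, onei0, mul_zero]), add_zero, hy.1]
  · intro b
    rw [Matrix.mul_apply, sum3, hy.2 0, hy.2 1]
    simp only [one10, one11, zero_mul, one_mul, zero_add]
    rw [Finset.sum_eq_zero (fun i _ => by rw [hy.2, one1i, zero_mul]), add_zero, hw.2]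

/-- The block diagonal matrix. -/
def sM (M : NN n) : MM n := fun r s =>
  Fin.cases (if s = 0 then 1 else 0)
    (fun r' => Fin.cases (if s = 1 then 1 else 0)
      (fun r'' => Fin.cases 0 (fun s' => Fin.cases 0 (fun s'' => M r'' s'') s') s) r') r

@[simp] theorem sM0 (M : NN n) (s : Fin (n + 2)) : sM M 0 s = if s = 0 then 1 else 0 := rfl
@[simp] theorem sM1 (M : NN n) (s : Fin (n + 2)) : sM M 1 s = if s = 1 then 1 else 0 := rfl
@[simp] theorem sMi0 (M : NN n) (i : Fin n) : sM M (io i) 0 = 0 := rfl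
@[simp] theorem sMi1 (M : NN n) (i : Fin n) : sM M (io i) 1 = 0 := rfl
@[simp] theorem sMii (M : NN n) (i j : Fin n) : sM M (io i) (io j) = M i j := rfl

theorem sM_mul (M N : NN n) : sM (M * N) = sM M * sM N := by
  ext r s
  rw [Matrix.mul_apply, sum3]
  rcases idx_cases r with rfl | rfl | ⟨i, rfl⟩ <;> rcases idx_cases s with rfl | rfl | ⟨j, rfl⟩ <;>
    simp [Matrix.mul_apply]

theorem sM_one : sM (1 : NN n) = 1 := by
  ext r s
  rcases idx_cases r with rfl | rfl | ⟨i, rfl⟩ <;> rcases idx_cases s with rfl | rfl | ⟨j, rfl⟩ <;> simp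

/-- The special linear group of the lower right block. -/
def ess : Matrix.SpecialLinearGroup (Fin n) (ZMod 2) →* GG n where
  toFun M := ⟨sM M.1, Cfsg.Agent.Lib.LargeES.SLn.det_eq_one_of_mul (n := n + 2) (B := sM (M⁻¹).1) (by
    rw [← sM_mul]
    have : M.1 * (M⁻¹).1 = 1 := congrArg Subtype.val (mul_inv_cancel M)
    rw [this, sM_one])⟩
  map_one' := Subtype.ext sM_one
  map_mul' x y := Subtype.ext (sM_mul x.1 y.1)

theorem ess_coe (M : Matrix.SpecialLinearGroup (Fin n) (ZMod 2)) : (ess M : MM n) = sM M.1 := rfl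

theorem ess_injective : Function.Injective (ess : Matrix.SpecialLinearGroup (Fin n) (ZMod 2) →* GG n) := by
  intro x y h
  apply Subtype.ext
  ext i j
  have h1 : sM x.1 = sM y.1 := congrArg Subtype.val h
  have := congrFun (congrFun h1 (io i)) (io j)
  simpa using this

theorem colrow_sM (M : NN n) : ColRow (sM M) := by
  constructor
  · intro a
    rcases idx_cases a with rfl | rfl | ⟨i, rfl⟩ <;> simp
  · intro b
    rcases idx_cases b with rfl | rfl | ⟨i, rfl⟩ <;> simp

theorem colrow_phiM (x : Heis 2 n) : ColRow (phiM x) := by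
  constructor
  · intro a
    rcases idx_cases a with rfl | rfl | ⟨i, rfl⟩ <;> simp
  · intro b
    rcases idx_cases b with rfl | rfl | ⟨i, rfl⟩ <;> simp

theorem piM_phiM (x : Heis 2 n) : piM (phiM x) = 1 := by
  ext i j
  simp [piM]

theorem piM_sM (M : NN n) : piM (sM M) = M := by
  ext i j
  simp [piM]

/-- Elements with trivial lower right block come from the extraspecial group. -/
theorem eq_phiM_of_piM {y : MM n} (hy : ColRow y) (h : piM y = 1) :
    y = phiM ⟨fun j => y 0 (io j), fun i => y (io i) 1, y 0 1⟩ := by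
  ext r s
  rcases idx_cases r with rfl | rfl | ⟨i, rfl⟩ <;> rcases idx_cases s with rfl | rfl | ⟨j, rfl⟩
  · rw [hy.1]; simp
  · simp
  · simp
  · rw [hy.1]; simp
  · rw [hy.2]; simp
  · rw [hy.2]; simp
  · rw [hy.1]; simp
  · simp
  · have := congrFun (congrFun h i) j
    simp only [piM] at this
    simp [this]

end Block

/-! ### The centralizer -/

section Main

variable {n : ℕ}

/-- The transvection. -/
def tz : GG n := phi z0

theorem tz_coe : ((tz : GG n) : MM n) = transvection 0 1 1 := by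
  rw [tz, phi_coe, phiM_z0]

theorem colrow_iff {c : GG n} : ColRow (c : MM n) ↔ c * tz = tz * c :=
  ⟨comm_of_colrow tz_coe, colrow_of_comm tz_coe⟩

/-- The extraspecial subgroup. -/
def QQ (n : ℕ) : Subgroup (GG n) := (phi (n := n)).range
/-- The special linear complement. -/
def KK (n : ℕ) : Subgroup (GG n) := (ess (n := n)).range

theorem mem_QQ {c : GG n} : c ∈ QQ n ↔ ColRow (c : MM n) ∧ piM (c : MM n) = 1 := by
  constructor
  · rintro ⟨x, rfl⟩
    exact ⟨colrow_phiM x, piM_phiM x⟩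
  · rintro ⟨h1, h2⟩
    exact ⟨_, Subtype.ext (eq_phiM_of_piM h1 h2).symm⟩

theorem colrow_inv {c : GG n} (h : ColRow (c : MM n)) : ColRow ((c⁻¹ : GG n) : MM n) := by
  rw [colrow_iff] at h ⊢
  have h1 : c⁻¹ * (c * tz) * c⁻¹ = c⁻¹ * (tz * c) * c⁻¹ := by rw [h]
  simpa [mul_assoc] using h1.symm

theorem colrow_coe_mul {c d : GG n} (hc : ColRow (c : MM n)) (hd : ColRow (d : MM n)) :
    ColRow ((c * d : GG n) : MM n) := colrow_mul hc hd

theorem piM_gmul {c d : GG n} (hc : ColRow (c : MM n)) (hd : ColRow (d : MM n)) :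
    piM ((c * d : GG n) : MM n) = piM (c : MM n) * piM (d : MM n) := piM_mul hc hd

theorem piM_inv {c : GG n} (hc : ColRow (c : MM n)) :
    piM (c : MM n) * piM ((c⁻¹ : GG n) : MM n) = 1 := by
  rw [← piM_gmul hc (colrow_inv hc), mul_inv_cancel]
  exact piM_one

theorem tz_mem : (tz : GG n) ∈ QQ n := ⟨z0, rfl⟩

theorem comm_of_mem_QQ {q : GG n} (hq : q ∈ QQ n) : q * tz = tz * q :=
  colrow_iff.1 (mem_QQ.1 hq).1

theorem hprod_main (c : GG n) (hc : c * tz = tz * c) : ∃ q ∈ QQ n, ∃ k ∈ KK n, c = q * k := by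
  have hc' := colrow_iff.2 hc
  let m : Matrix.SpecialLinearGroup (Fin n) (ZMod 2) :=
    ⟨piM (c : MM n), det_eq_one_of_mul (piM_inv hc')⟩
  have hk : ColRow ((ess m : GG n) : MM n) := colrow_sM _
  refine ⟨c * (ess m)⁻¹, ?_, ess m, ⟨m, rfl⟩, by group⟩
  refine mem_QQ.2 ⟨colrow_coe_mul hc' (colrow_inv hk), ?_⟩
  rw [piM_gmul hc' (colrow_inv hk)]
  have h1 := piM_inv hk
  have h2 : piM ((ess m : GG n) : MM n) = piM (c : MM n) := piM_sM _
  rwa [h2] at h1

theorem hnorm_main (c : GG n) (hc : c * tz = tz * c) (q : GG n) (hq : q ∈ QQ n) :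
    c * q * c⁻¹ ∈ QQ n := by
  have hc' := colrow_iff.2 hc
  obtain ⟨hq1, hq2⟩ := mem_QQ.1 hq
  refine mem_QQ.2 ⟨colrow_coe_mul (colrow_coe_mul hc' hq1) (colrow_inv hc'), ?_⟩
  rw [piM_gmul (colrow_coe_mul hc' hq1) (colrow_inv hc'), piM_gmul hc' hq1, hq2, mul_one]
  exact piM_inv hc'

theorem KK_le (n : ℕ) : KK n ≤ centralizer ({tz} : Set (GG n)) := by
  rintro _ ⟨m, rfl⟩
  rw [Subgroup.mem_centralizer_singleton_iff]
  exact colrow_iff.1 (colrow_sM _)

theorem QQ_le (n : ℕ) : QQ n ≤ centralizer ({tz} : Set (GG n)) := by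
  intro q hq
  rw [Subgroup.mem_centralizer_singleton_iff]
  exact comm_of_mem_QQ hq

theorem QQ_inf_KK (n : ℕ) : QQ n ⊓ KK n = ⊥ := by
  rw [eq_bot_iff]
  rintro x ⟨hx1, m, rfl⟩
  obtain ⟨-, h2⟩ := mem_QQ.1 hx1
  have h3 : m.1 = 1 := by
    rw [← h2]
    exact (piM_sM _).symm
  have h4 : m = 1 := Subtype.ext h3
  rw [h4, map_one]
  exact Subgroup.one_mem _

theorem QQ_sup_KK (n : ℕ) : QQ n ⊔ KK n = centralizer ({tz} : Set (GG n)) := by
  apply le_antisymm (sup_le (QQ_le n) (KK_le n))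
  intro c hc
  rw [Subgroup.mem_centralizer_singleton_iff] at hc
  obtain ⟨q, hq, k, hk, rfl⟩ := hprod_main c hc
  exact Subgroup.mul_mem_sup hq hk

/-- The basic vectors of the extraspecial group. -/
def tl (l : Fin n) : Heis 2 n := ⟨Pi.single l 1, 0, 0⟩

theorem phiM_tl (l : Fin n) : phiM (tl l) = transvection 0 (io l) 1 := by
  ext r s
  rw [transvection, Matrix.add_apply, Matrix.single_apply]
  rcases idx_cases r with rfl | rfl | ⟨i, rfl⟩ <;> rcases idx_cases s with rfl | rfl | ⟨j, rfl⟩ <;>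
    simp [tl, Pi.single_apply, eq_comm]

theorem hC_main (c : GG n) (h : ∀ q ∈ QQ n, c * q = q * c) : c ∈ QQ n := by
  have h1 : ColRow (c : MM n) := colrow_iff.2 (h _ tz_mem)
  refine mem_QQ.2 ⟨h1, ?_⟩
  ext l j
  have h2 := (Cfsg.Agent.Lib.Techniques.col_row (F := ZMod 2) (by simp [ZMod.card])
    (zero_ne_io l) (y := c) (t := phi (tl l)) (by rw [phi_coe, phiM_tl])
    (h _ ⟨tl l, rfl⟩)).2 (io j)
  simpa [piM] using h2

theorem hK2_main (N : Subgroup ↥(KK n)) (hN : N.Normal) (hp : IsPGroup 2 N) : N = ⊥ := by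
  let e : Matrix.SpecialLinearGroup (Fin n) (ZMod 2) ≃* ↥(KK n) :=
    MonoidHom.ofInjective ess_injective
  have h1 : (N.comap e.toMonoidHom).Normal := hN.comap _
  have h2 : IsPGroup 2 (N.comap e.toMonoidHom) := by
    intro x
    obtain ⟨k, hk⟩ := hp ⟨e x.1, x.2⟩
    refine ⟨k, ?_⟩
    have h3 : e (x.1 ^ 2 ^ k) = 1 := by
      rw [map_pow]
      exact congrArg Subtype.val hk
    exact Subtype.ext (e.injective (h3.trans (map_one _).symm))
  have h3 := normal_two_eq_bot _ h1 h2
  rw [eq_bot_iff]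
  intro x hx
  rw [Subgroup.mem_bot]
  have h4 : e.symm x ∈ N.comap e.toMonoidHom := by
    show e (e.symm x) ∈ N
    simpa using hx
  rw [h3, Subgroup.mem_bot] at h4
  have h5 := congrArg e h4
  simpa using h5

theorem isExtra_main (hn : 1 ≤ n) : IsExtraspecial 2 ↥(QQ n) := by
  have : Fact (Nat.Prime 2) := ⟨Nat.prime_two⟩
  exact Cfsg.Agent.Lib.LargeES.isExtraspecial_congr
    (MonoidHom.ofInjective (phi_injective (n := n))) (Heis.isExtraspecial hn)

theorem card_QQ : Nat.card ↥(QQ n) = 2 ^ (2 * n + 1) := by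
  have : Fact (Nat.Prime 2) := ⟨Nat.prime_two⟩
  show Nat.card ↥(phi (n := n)).range = _
  rw [← Nat.card_congr (MonoidHom.ofInjective (phi_injective (n := n))).toEquiv, Heis.card_eq,
    add_comm]

theorem order_tz : orderOf (tz : GG n) = 2 := by
  have : Fact (Nat.Prime 2) := ⟨Nat.prime_two⟩
  apply orderOf_eq_prime
  · rw [pow_two, tz, ← map_mul, z0_sq, map_one]
  · intro h
    exact z0_ne_one (phi_injective (h.trans (map_one _).symm))

theorem hZ_main (hn : 1 ≤ n) : (center ↥(QQ n)).map (QQ n).subtype = zpowers tz := by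
  have : Fact (Nat.Prime 2) := ⟨Nat.prime_two⟩
  symm
  apply Subgroup.eq_of_le_of_card_ge
  · rw [zpowers_le]
    refine ⟨⟨tz, tz_mem⟩, ?_, rfl⟩
    rw [SetLike.mem_coe, Subgroup.mem_center_iff]
    intro q
    apply Subtype.ext
    show q.1 * tz = tz * q.1
    exact comm_of_mem_QQ q.2
  · rw [Nat.card_zpowers, order_tz, Subgroup.card_map_of_injective (QQ n).subtype_injective]
    exact (isExtra_main hn).2.le

/-- The conjugating transvection. -/
def gg (i : Fin n) : GG n := ⟨transvection 1 (io i) 1, det_transvection_of_ne _ _ (one_ne_io i) _⟩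

/-- The image of the central involution. -/
def yy (i : Fin n) : Heis 2 n := ⟨Pi.single i 1, 0, 1⟩

theorem gg_mul (i : Fin n) : gg i * tz = phi (yy i) * gg i := by
  apply Subtype.ext
  show transvection 1 (io i) 1 * phiM z0 = phiM (yy i) * transvection 1 (io i) 1
  ext r s
  have h11 : (1 : ZMod 2) + 1 = 0 := by decide
  have e1 : (transvection 1 (io i) 1 * phiM (z0 : Heis 2 n) : MM n) r s =
      if r = 1 then phiM z0 1 s + phiM z0 (io i) s else phiM z0 r s := by
    split_ifs with hr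
    · subst hr
      rw [transvection_mul_apply_same, one_mul]
    · rw [transvection_mul_apply_of_ne _ _ _ _ hr]
  have e2 : (phiM (yy i) * transvection 1 (io i) 1 : MM n) r s =
      if s = io i then phiM (yy i) r (io i) + phiM (yy i) r 1 else phiM (yy i) r s := by
    split_ifs with hs
    · subst hs
      rw [mul_transvection_apply_same, one_mul]
    · rw [mul_transvection_apply_of_ne _ _ _ _ hs]
  rw [e1, e2]
  rcases idx_cases r with rfl | rfl | ⟨k, rfl⟩ <;> rcases idx_cases s with rfl | rfl | ⟨j, rfl⟩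
  all_goals first
    | (simp [z0, yy]; done)
    | (by_cases hj : j = i
       · subst hj
         simp [z0, yy, h11]
       · simp [z0, yy, hj, Pi.single_apply, Matrix.one_apply, Ne.symm hj])

theorem conj_gg (i : Fin n) : gg i * tz * (gg i)⁻¹ = phi (yy i) := by
  rw [gg_mul, mul_inv_cancel_right]

theorem yy_ne (i : Fin n) : phi (yy i) ≠ (tz : GG n) := by
  intro h
  have h1 := phi_injective h
  have h2 : (Pi.single i 1 : Fin n → ZMod 2) = 0 := congrArg Heis.a h1
  have h3 := congrFun h2 i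
  simp at h3

/-- An elementary abelian subgroup. -/
def EE0 (n : ℕ) : Subgroup (Heis 2 n) where
  carrier := {x | x.a = 0}
  mul_mem' := by
    intro x y hx hy
    show (x * y).a = 0
    rw [Heis.mul_a, hx, hy, add_zero]
  one_mem' := rfl
  inv_mem' := by
    intro x hx
    show (x⁻¹).a = 0
    rw [Heis.inv_a, hx, neg_zero]

theorem card_EE0 : Nat.card ↥(EE0 n) = 2 ^ (n + 1) := by
  let e : ↥(EE0 n) ≃ (Fin n → ZMod 2) × ZMod 2 :=
    { toFun := fun x => (x.1.b, x.1.c)
      invFun := fun y => ⟨⟨0, y.1, y.2⟩, rfl⟩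
      left_inv := by
        rintro ⟨⟨a, b, c⟩, h⟩
        have h' : a = 0 := h
        subst h'
        rfl
      right_inv := fun y => rfl }
  rw [Nat.card_congr e, Nat.card_prod, Nat.card_fun]
  simp [pow_succ]

theorem EE0_comm (x y : Heis 2 n) (hx : x.a = 0) (hy : y.a = 0) : x * y = y * x := by
  ext i
  · simp [hx, hy]
  · simp [add_comm]
  · simp [hx, hy, add_comm]

theorem EE0_sq (x : Heis 2 n) (hx : x.a = 0) : x * x = 1 := by
  have h2 : ∀ a : ZMod 2, a + a = 0 := by decide
  ext i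
  · simp [hx]
  · simp [h2]
  · simp [hx, h2]

theorem main_all (hn : 2 ≤ n) :
    IsExtraspecial 2 ↥(QQ n) ∧ Nat.card ↥(QQ n) = 2 ^ (2 * n + 1) ∧
      (QQ n = (Cfsg.pCore 2 ↥(centralizer ({tz} : Set (GG n)))).map
        (centralizer ({tz} : Set (GG n))).subtype) ∧
      (∃ E : Subgroup (GG n), E ≤ QQ n ∧ Cfsg.IsElementaryAbelian 2 E ∧
        Nat.card ↥E = 2 ^ (n + 1)) ∧ Cfsg.IsLargeExtraspecial (QQ n) ∧
      ∃ K : Subgroup (GG n), K ≤ centralizer ({tz} : Set (GG n)) ∧ QQ n ⊓ K = ⊥ ∧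
        QQ n ⊔ K = centralizer ({tz} : Set (GG n)) ∧
        Nonempty (↥K ≃* Matrix.SpecialLinearGroup (Fin n) (ZMod 2)) := by
  have hn1 : 1 ≤ n := by omega
  have hcard : 8 < Nat.card ↥(QQ n) := by
    rw [card_QQ]
    calc 8 < 2 ^ 5 := by norm_num
      _ ≤ 2 ^ (2 * n + 1) := Nat.pow_le_pow_right (by norm_num) (by omega)
  let i0 : Fin n := ⟨0, by omega⟩
  obtain ⟨h1, h2⟩ := Cfsg.Agent.Lib.LargeES.large_of_split (z := (tz : GG n)) order_tz (Q := QQ n)
    (K := KK n) (KK_le n) hprod_main hnorm_main (isExtra_main hn1) (hZ_main hn1) hC_main hK2_main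
    hcard (g := gg i0) (by rw [conj_gg]; exact ⟨_, rfl⟩) (by rw [conj_gg]; exact yy_ne i0)
  refine ⟨isExtra_main hn1, card_QQ, h1, ⟨(EE0 n).map phi, ?_, ?_, ?_⟩, h2, KK n, KK_le n, QQ_inf_KK n,
    QQ_sup_KK n, ⟨(MonoidHom.ofInjective ess_injective).symm⟩⟩
  · rintro _ ⟨x, -, rfl⟩
    exact ⟨x, rfl⟩
  · refine ⟨⟨⟨?_⟩⟩, ?_⟩
    · rintro ⟨_, x, hx, rfl⟩ ⟨_, y, hy, rfl⟩
      apply Subtype.ext
      show phi x * phi y = phi y * phi x
      rw [← map_mul, ← map_mul, EE0_comm x y hx hy]
    · rintro _ ⟨x, hx, rfl⟩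
      rw [pow_two, ← map_mul, EE0_sq x hx, map_one]
  · rw [Subgroup.card_map_of_injective phi_injective, card_EE0]

end Main

end Cfsg.Agent.Lib.LargeES.SLn
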