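import Cfsg.Agent.Lib.LargeES.Simple

/-!
# A criterion for a large extraspecial subgroup from a split centralizer
-/

set_option autoImplicit false

namespace Cfsg.Agent.Lib.LargeES

open Subgroup Cfsg Cfsg.Agent.Lib.Cl

variable {G : Type*} [Group G] [Finite G]

/-- `C(z) = Q K` with `O₂(K) = 1` gives `Q = O₂(C(z))`, and `Q` is large if no odd subgroup is normalized. -/
theorem large_of_split' {z : G} (hz : orderOf z = 2) {Q K : Subgroup G}
    (hKC : K ≤ centralizer ({z} : Set G))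
    (hprod : ∀ c, c * z = z * c → ∃ q ∈ Q, ∃ k ∈ K, c = q * k)
    (hnorm : ∀ c, c * z = z * c → ∀ q ∈ Q, c * q * c⁻¹ ∈ Q)
    (hE : IsExtraspecial 2 ↥Q) (hZ : (center ↥Q).map Q.subtype = zpowers z)
    (hC : ∀ c, (∀ q ∈ Q, c * q = q * c) → c ∈ Q)
    (hK2 : ∀ N : Subgroup ↥K, N.Normal → IsPGroup 2 N → N = ⊥)
    (hodd : ∀ K : Subgroup G, Odd (Nat.card K) → (∀ u ∈ Q, ∀ k ∈ K, u * k * u⁻¹ ∈ K) → K = ⊥) :
    Q = (pCore 2 ↥(centralizer ({z} : Set G))).map (centralizer ({z} : Set G)).subtype ∧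
      IsLargeExtraspecial Q := by
  have : Fact (Nat.Prime 2) := ⟨Nat.prime_two⟩
  have hf : ExtraFacts Q z := facts_of_center hE hz hZ
  have L : LargeHyp Q z := ⟨hf, hnorm, hC⟩
  refine ⟨?_, L.isLarge hE hZ hodd⟩
  set C := centralizer ({z} : Set G) with hCdef
  have hmemC : ∀ c : G, c ∈ C ↔ c * z = z * c := fun c => by
    rw [hCdef, Subgroup.mem_centralizer_singleton_iff]
  have hQC : Q ≤ C := by
    intro q hq
    rw [hmemC]
    exact (hf.central (mem_zpowers z) hq).symm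
  -- `Q` is normal in `C`
  have hQ'n : (Q.subgroupOf C).Normal := ⟨fun x hx c => by
    rw [Subgroup.mem_subgroupOf] at hx ⊢
    exact hnorm c.1 ((hmemC _).1 c.2) x.1 hx⟩
  have hQp : IsPGroup 2 Q := hE.1.1
  have hQ'p : IsPGroup 2 (Q.subgroupOf C) := by
    intro x
    obtain ⟨k, hk⟩ := hQp ⟨x.1.1, (Subgroup.mem_subgroupOf.1 x.2)⟩
    refine ⟨k, ?_⟩
    apply Subtype.ext
    apply Subtype.ext
    have h2 := congrArg Subtype.val hk
    simpa using h2
  have h1 : Q.subgroupOf C ≤ pCore 2 ↥C := Cfsg.Agent.Lib.Core.le_pCore hQ'n hQ'p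
  apply le_antisymm
  · intro q hq
    exact ⟨⟨q, hQC hq⟩, h1 (Subgroup.mem_subgroupOf.2 hq), rfl⟩
  · rintro _ ⟨x, hx, rfl⟩
    -- write `x = q k`
    obtain ⟨q, hq, k, hk, hxk⟩ := hprod x.1 ((hmemC _).1 x.2)
    -- `k` lies in the core
    have hk1 : (⟨k, hKC hk⟩ : C) ∈ pCore 2 ↥C := by
      have e : (⟨k, hKC hk⟩ : C) = (⟨q, hQC hq⟩ : C)⁻¹ * x := by
        apply Subtype.ext
        show k = q⁻¹ * x.1
        rw [hxk]
        group
      rw [e]
      exact mul_mem (inv_mem (h1 (Subgroup.mem_subgroupOf.2 hq))) hx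
    -- the subgroup of `K`
    let N : Subgroup ↥K := ((pCore 2 ↥C).map C.subtype).subgroupOf K
    have hNn : N.Normal := ⟨fun y hy c => by
      rw [Subgroup.mem_subgroupOf] at hy ⊢
      obtain ⟨y', hy', hyy⟩ := hy
      refine ⟨⟨c.1, hKC c.2⟩ * y' * (⟨c.1, hKC c.2⟩ : C)⁻¹, ?_, ?_⟩
      · exact (Cfsg.Agent.Lib.Core.pCore_normal 2 ↥C).conj_mem _ hy' _
      · simp only [Subgroup.coe_subtype, Subgroup.coe_mul, Subgroup.coe_inv]
        show _ = (c.1 * y.1 * c.1⁻¹)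
        rw [← hyy]
        rfl⟩
    have hNp : IsPGroup 2 N := by
      intro y
      obtain ⟨y', hy', hyy⟩ := Subgroup.mem_subgroupOf.1 y.2
      obtain ⟨m, hm⟩ := Cfsg.Agent.Lib.Core.pCore_isPGroup 2 ↥C ⟨y', hy'⟩
      refine ⟨m, ?_⟩
      apply Subtype.ext
      apply Subtype.ext
      have h2 := congrArg (fun t : pCore 2 ↥C => ((t : C) : G)) hm
      simp only [SubgroupClass.coe_pow, OneMemClass.coe_one] at h2 ⊢
      rw [← hyy]
      simpa using h2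
    have hN1 := hK2 N hNn hNp
    have hk2 : (⟨k, hk⟩ : K) ∈ N := by
      rw [Subgroup.mem_subgroupOf]
      exact ⟨_, hk1, rfl⟩
    rw [hN1, Subgroup.mem_bot] at hk2
    have hk3 : k = 1 := congrArg Subtype.val hk2
    show x.1 ∈ Q
    rw [hxk, hk3, mul_one]
    exact hq

/-- `C(z) = Q K` with `O₂(K) = 1` gives `Q = O₂(C(z))`, and `Q` is large if `z` is not weakly closed. -/
theorem large_of_split {z : G} (hz : orderOf z = 2) {Q K : Subgroup G}
    (hKC : K ≤ centralizer ({z} : Set G))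
    (hprod : ∀ c, c * z = z * c → ∃ q ∈ Q, ∃ k ∈ K, c = q * k)
    (hnorm : ∀ c, c * z = z * c → ∀ q ∈ Q, c * q * c⁻¹ ∈ Q)
    (hE : IsExtraspecial 2 ↥Q) (hZ : (center ↥Q).map Q.subtype = zpowers z)
    (hC : ∀ c, (∀ q ∈ Q, c * q = q * c) → c ∈ Q)
    (hK2 : ∀ N : Subgroup ↥K, N.Normal → IsPGroup 2 N → N = ⊥)
    (hcard : 8 < Nat.card Q) {g : G} (hg : g * z * g⁻¹ ∈ Q) (hne : g * z * g⁻¹ ≠ z) :
    Q = (pCore 2 ↥(centralizer ({z} : Set G))).map (centralizer ({z} : Set G)).subtype ∧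
      IsLargeExtraspecial Q := by
  have : Fact (Nat.Prime 2) := ⟨Nat.prime_two⟩
  have L : LargeHyp Q z := ⟨facts_of_center hE hz hZ, hnorm, hC⟩
  exact large_of_split' hz hKC hprod hnorm hE hZ hC hK2 (L.odd_of_conj hcard hg hne)

end Cfsg.Agent.Lib.LargeES
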