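import Cfsg.Agent.Lib.LargeES.SLn

/-!
# Split data at an involution, and its transport along automorphisms
-/

set_option autoImplicit false

namespace Cfsg.Agent.Lib.LargeES

open Subgroup Cfsg

variable {G : Type*} [Group G] [Finite G]

/-- The elementwise data of a split centraliser `Q : SL₃(2)` with `Q` extraspecial of order `2^7`. -/
structure SplitData (z : G) (Q K E : Subgroup G) : Prop where
  hz : orderOf z = 2
  hKC : K ≤ centralizer ({z} : Set G)
  hQC : Q ≤ centralizer ({z} : Set G)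
  hprod : ∀ c, c * z = z * c → ∃ q ∈ Q, ∃ k ∈ K, c = q * k
  hnorm : ∀ c, c * z = z * c → ∀ q ∈ Q, c * q * c⁻¹ ∈ Q
  hE : IsExtraspecial 2 ↥Q
  hZ : (center ↥Q).map Q.subtype = zpowers z
  hC : ∀ c, (∀ q ∈ Q, c * q = q * c) → c ∈ Q
  hcard : Nat.card Q = 2 ^ 7
  hg : ∃ g, g * z * g⁻¹ ∈ Q ∧ g * z * g⁻¹ ≠ z
  hQK : Q ⊓ K = ⊥
  hEQ : E ≤ Q
  hEe : IsElementaryAbelian 2 E
  hEc : Nat.card E = 2 ^ 4
  hiso : Nonempty (↥K ≃* Matrix.SpecialLinearGroup (Fin 3) (ZMod 2))

namespace SplitData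

variable {z : G} {Q K E : Subgroup G}

/-- Transport along an automorphism. -/
theorem conj (h : SplitData z Q K E) (α : G ≃* G) :
    SplitData (α z) (Q.map α.toMonoidHom) (K.map α.toMonoidHom) (E.map α.toMonoidHom) := by
  have hinj : Function.Injective α.toMonoidHom := α.injective
  have hmemC : ∀ c : G, c ∈ centralizer ({z} : Set G) ↔ c * z = z * c := fun c =>
    Subgroup.mem_centralizer_singleton_iff
  have hmemC' : ∀ c : G, c ∈ centralizer ({α z} : Set G) ↔ c * α z = α z * c := fun c =>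
    Subgroup.mem_centralizer_singleton_iff
  have hsymm : ∀ c : G, c * α z = α z * c → α.symm c * z = z * α.symm c := by
    intro c hc
    apply α.injective
    simp only [map_mul, MulEquiv.apply_symm_apply]
    exact hc
  have hcomm_map : ∀ c x : G, α (α.symm c * x * (α.symm c)⁻¹) = c * α x * c⁻¹ := by
    intro c x
    simp only [map_mul, map_inv, MulEquiv.apply_symm_apply]
  have hE' : IsExtraspecial 2 ↥(Q.map α.toMonoidHom) :=
    isExtraspecial_congr (Q.equivMapOfInjective α.toMonoidHom hinj) h.hE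
  refine ⟨?_, ?_, ?_, ?_, ?_, hE', ?_, ?_, ?_, ?_, ?_, ?_, ?_, ?_, ?_⟩
  · rw [MulEquiv.orderOf_eq]
    exact h.hz
  · rintro _ ⟨k, hk, rfl⟩
    rw [hmemC']
    have := (hmemC k).1 (h.hKC hk)
    show α k * α z = α z * α k
    rw [← map_mul, ← map_mul, this]
  · rintro _ ⟨k, hk, rfl⟩
    rw [hmemC']
    have := (hmemC k).1 (h.hQC hk)
    show α k * α z = α z * α k
    rw [← map_mul, ← map_mul, this]
  · intro c hc
    obtain ⟨q, hq, k, hk, e⟩ := h.hprod (α.symm c) (hsymm c hc)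
    refine ⟨α q, ⟨q, hq, rfl⟩, α k, ⟨k, hk, rfl⟩, ?_⟩
    rw [← map_mul, ← e, MulEquiv.apply_symm_apply]
  · rintro c hc _ ⟨q, hq, rfl⟩
    refine ⟨_, h.hnorm (α.symm c) (hsymm c hc) q hq, ?_⟩
    exact hcomm_map c q
  · symm
    apply Subgroup.eq_of_le_of_card_ge
    · rw [zpowers_le]
      have hzm : z ∈ (center ↥Q).map Q.subtype := by
        rw [h.hZ]
        exact mem_zpowers z
      obtain ⟨y, hy, hyz⟩ := hzm
      refine ⟨⟨α z, ⟨z, ?_, rfl⟩⟩, ?_, rfl⟩
      · rw [← hyz]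
        exact y.2
      · rw [SetLike.mem_coe, Subgroup.mem_center_iff]
        rintro ⟨_, x, hx, rfl⟩
        apply Subtype.ext
        show α x * α z = α z * α x
        have h2 := Subgroup.mem_center_iff.1 hy ⟨x, hx⟩
        have h3 : x * z = z * x := by
          rw [← hyz]
          exact congrArg Subtype.val h2
        rw [← map_mul, ← map_mul, h3]
    · rw [Nat.card_zpowers, MulEquiv.orderOf_eq, h.hz,
        Subgroup.card_map_of_injective (Q.map α.toMonoidHom).subtype_injective]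
      exact hE'.2.le
  · intro c hc
    have h1 : α.symm c ∈ Q := by
      apply h.hC
      intro q hq
      apply α.injective
      simp only [map_mul, MulEquiv.apply_symm_apply]
      exact hc _ ⟨q, hq, rfl⟩
    exact ⟨_, h1, MulEquiv.apply_symm_apply _ _⟩
  · rw [Subgroup.card_map_of_injective hinj]
    exact h.hcard
  · obtain ⟨g, hg1, hg2⟩ := h.hg
    refine ⟨α g, ⟨_, hg1, ?_⟩, ?_⟩
    · show α (g * z * g⁻¹) = _
      simp only [map_mul, map_inv]
    · intro e
      apply hg2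
      apply α.injective
      simp only [map_mul, map_inv]
      exact e
  · rw [eq_bot_iff]
    rintro x ⟨⟨q, hq, rfl⟩, ⟨k, hk, hk2⟩⟩
    have e : k = q := α.injective hk2
    subst e
    have h1 : k ∈ Q ⊓ K := ⟨hq, hk⟩
    rw [h.hQK, Subgroup.mem_bot] at h1
    rw [Subgroup.mem_bot, h1]
    exact map_one _
  · exact Subgroup.map_mono h.hEQ
  · obtain ⟨h1, h2⟩ := h.hEe
    refine ⟨⟨⟨?_⟩⟩, ?_⟩
    · rintro ⟨_, x, hx, rfl⟩ ⟨_, y, hy, rfl⟩
      apply Subtype.ext
      show α x * α y = α y * α x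
      have := congrArg Subtype.val (h1.is_comm.comm ⟨x, hx⟩ ⟨y, hy⟩)
      have h3 : x * y = y * x := this
      rw [← map_mul, ← map_mul, h3]
    · rintro _ ⟨x, hx, rfl⟩
      show (α x) ^ 2 = 1
      rw [← map_pow, h2 x hx, map_one]
  · rw [Subgroup.card_map_of_injective hinj]
    exact h.hEc
  · obtain ⟨e⟩ := h.hiso
    exact ⟨(K.equivMapOfInjective α.toMonoidHom hinj).symm.trans e⟩

/-- The conclusion. -/
theorem result (h : SplitData z Q K E) :
    Q = (pCore 2 ↥(centralizer ({z} : Set G))).map (centralizer ({z} : Set G)).subtype ∧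
    IsExtraspecial 2 ↥Q ∧ Nat.card ↥Q = 2 ^ 7 ∧
      (∃ E : Subgroup G, E ≤ Q ∧ IsElementaryAbelian 2 E ∧ Nat.card ↥E = 2 ^ 4) ∧
      IsLargeExtraspecial Q ∧
      ∃ K : Subgroup G, K ≤ centralizer ({z} : Set G) ∧ Q ⊓ K = ⊥ ∧
        Q ⊔ K = centralizer ({z} : Set G) ∧
        Nonempty (↥K ≃* Matrix.SpecialLinearGroup (Fin 3) (ZMod 2)) := by
  have hK2 : ∀ N : Subgroup ↥K, N.Normal → IsPGroup 2 N → N = ⊥ := by
    intro N hN hp
    obtain ⟨e⟩ := h.hiso
    have h1 : (N.comap e.symm.toMonoidHom).Normal := hN.comap _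
    have h2 : IsPGroup 2 (N.comap e.symm.toMonoidHom) := by
      intro x
      obtain ⟨k, hk⟩ := hp ⟨e.symm x.1, x.2⟩
      refine ⟨k, ?_⟩
      have h3 : e.symm (x.1 ^ 2 ^ k) = 1 := by
        rw [map_pow]
        exact congrArg Subtype.val hk
      exact Subtype.ext (e.symm.injective (h3.trans (map_one _).symm))
    have h3 := SLn.normal_two_eq_bot _ h1 h2
    rw [eq_bot_iff]
    intro x hx
    have h4 : e x ∈ N.comap e.symm.toMonoidHom := by
      show e.symm (e x) ∈ N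
      rw [MulEquiv.symm_apply_apply]
      exact hx
    rw [h3, Subgroup.mem_bot] at h4
    rw [Subgroup.mem_bot]
    exact e.injective (h4.trans (map_one _).symm)
  obtain ⟨g, hg1, hg2⟩ := h.hg
  obtain ⟨h1, h2⟩ := large_of_split h.hz h.hKC h.hprod h.hnorm h.hE h.hZ h.hC hK2
    (by rw [h.hcard]; norm_num) hg1 hg2
  refine ⟨h1, h.hE, h.hcard, ⟨E, h.hEQ, h.hEe, h.hEc⟩, h2, K, h.hKC, h.hQK, ?_, h.hiso⟩
  apply le_antisymm (sup_le h.hQC h.hKC)
  intro c hc
  obtain ⟨q, hq, k, hk, rfl⟩ := h.hprod c (Subgroup.mem_centralizer_singleton_iff.1 hc)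
  exact mul_mem (Subgroup.mem_sup_left hq) (Subgroup.mem_sup_right hk)

end SplitData

end Cfsg.Agent.Lib.LargeES
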